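import Mathlib
import Cfsg.Agent.Lib.PGroups.Basic

/-!
# The derived series of a subgroup

`dser P i`: the `i`-th derived subgroup of `P` inside the ambient group.
-/

set_option autoImplicit false
set_option linter.all false

namespace CfsgLib.Core.HHTwoDerived

open Subgroup
open scoped commutatorElement

variable {G : Type*} [Group G]

/-- The derived series of a subgroup. -/
def dser (P : Subgroup G) : ℕ → Subgroup G
  | 0 => P
  | n + 1 => ⁅dser P n, dser P n⁆

theorem dser_succ_le (P : Subgroup G) (n : ℕ) : dser P (n + 1) ≤ dser P n :=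
  commutator_le.2 fun x hx y hy => by
    rw [commutatorElement_def]
    exact mul_mem (mul_mem (mul_mem hx hy) (inv_mem hx)) (inv_mem hy)

theorem dser_antitone (P : Subgroup G) : Antitone (dser P) := antitone_nat_of_succ_le (dser_succ_le P)

theorem dser_le (P : Subgroup G) (n : ℕ) : dser P n ≤ P := dser_antitone P (Nat.zero_le n)

theorem dser_add (P : Subgroup G) (i : ℕ) : ∀ n : ℕ, dser (dser P i) n = dser P (i + n)
  | 0 => rfl
  | n + 1 => by show ⁅_, _⁆ = ⁅_, _⁆; rw [dser_add P i n]; rfl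

theorem dser_mono {P Q : Subgroup G} (h : P ≤ Q) : ∀ n : ℕ, dser P n ≤ dser Q n
  | 0 => h
  | n + 1 => commutator_mono (dser_mono h n) (dser_mono h n)

theorem map_dser {G' : Type*} [Group G'] (f : G →* G') (P : Subgroup G) :
    ∀ n : ℕ, (dser P n).map f = dser (P.map f) n
  | 0 => rfl
  | n + 1 => by show (⁅dser P n, dser P n⁆).map f = ⁅_, _⁆; rw [map_commutator, map_dser f P n]

theorem map_subtype_dser_top (P : Subgroup G) (n : ℕ) :
    (dser (⊤ : Subgroup P) n).map P.subtype = dser P n := by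
  rw [map_dser, ← MonoidHom.range_eq_map, range_subtype]

theorem dser_top_eq_derivedSeries : ∀ n : ℕ, dser (⊤ : Subgroup G) n = derivedSeries G n
  | 0 => rfl
  | n + 1 => by
    show ⁅dser (⊤ : Subgroup G) n, dser (⊤ : Subgroup G) n⁆ = _
    rw [dser_top_eq_derivedSeries n, derivedSeries_succ]

theorem dser_eq_derivedSeries (P : Subgroup G) (n : ℕ) :
    dser P n = (derivedSeries P n).map P.subtype := by
  rw [← dser_top_eq_derivedSeries, map_subtype_dser_top]

theorem conj_mem_dser {P : Subgroup G} {g : G} (hg : ∀ x ∈ P, g * x * g⁻¹ ∈ P) (n : ℕ) {x : G}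
    (hx : x ∈ dser P n) : g * x * g⁻¹ ∈ dser P n := by
  have h1 : g * x * g⁻¹ ∈ (dser P n).map (MulAut.conj g).toMonoidHom := ⟨x, hx, rfl⟩
  rw [map_dser] at h1
  refine dser_mono ?_ n h1
  rintro _ ⟨y, hy, rfl⟩
  exact hg y hy

theorem normal_dser {P : Subgroup G} [hP : P.Normal] (n : ℕ) : (dser P n).Normal :=
  ⟨fun x hx g => conj_mem_dser (fun y hy => hP.conj_mem y hy g) n hx⟩

/-- In a nilpotent group a proper derived step together with a proper subgroup is proper. -/
theorem exists_mem_not_mem_sup [Finite G] {p : ℕ} [Fact p.Prime] {Q : Subgroup G} (hQ : IsPGroup p Q)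
    {H : Subgroup G} (h : ¬ Q ≤ H) :
    ∃ g ∈ Q, ∀ x ∈ ⁅Q, Q⁆, x⁻¹ * g ∉ H := by
  by_contra hno
  push Not at hno
  refine h fun g hg => ?_
  haveI := hQ.isNilpotent
  have htop : H.subgroupOf Q ⊔ commutator Q = ⊤ := by
    rw [eq_top_iff]
    rintro ⟨y, hy⟩ -
    obtain ⟨x, hx, hxy⟩ := hno y hy
    rw [← map_subtype_commutator Q] at hx
    obtain ⟨x', hx', rfl⟩ := hx
    have h1 : (⟨y, hy⟩ : Q) = x' * (x'⁻¹ * ⟨y, hy⟩) := by rw [mul_inv_cancel_left]
    rw [h1]
    exact mul_mem (mem_sup_right hx') (mem_sup_left (mem_subgroupOf.2 hxy))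
  have h2 : H.subgroupOf Q ⊔ frattini Q = ⊤ :=
    eq_top_iff.2 (htop.ge.trans (sup_le_sup_left CfsgLib.PGroups.commutator_le_frattini _))
  have h3 := frattini_nongenerating h2
  exact (subgroupOf_eq_top.1 h3) hg

end CfsgLib.Core.HHTwoDerived
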