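import Mathlib

/-!
# Projective representations of an abelian group with nondegenerate pairing

`Tw M K V`: units `e x` of `End V` multiplying up to scalars, with nondegenerate commutation
pairing `χ`.

* `Tw.sum_P`: the eigen projections for conjugation add up to the identity
* `Tw.eq_zero_of_kill`: an element of the span killing a nonzero invariant subspace vanishes
* `Tw.Λ`: the bimodule projection of `End V` onto the span
-/

set_option autoImplicit false
set_option linter.all false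

namespace CfsgLib.Core.HHTwoDerived

open Finset

/-- A projective representation with nondegenerate commutation pairing. -/
structure Tw (M : Type*) [CommGroup M] [Finite M] (K : Type*) [Field K] (V : Type*) [AddCommGroup V]
    [Module K V] [FiniteDimensional K V] [Nontrivial V] where
  e : M → Module.End K V
  unit : ∀ x, IsUnit (e x)
  χ : M → M → K
  comm : ∀ a b, e a * e b = χ a b • (e b * e a)
  mul : ∀ a b, ∃ c : K, e (a * b) = c • (e a * e b)
  nd : ∀ w, w ≠ 1 → ∃ b, χ b w ≠ 1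
  card_ne : (Nat.card M : K) ≠ 0

namespace Tw

variable {M : Type*} [CommGroup M] [Finite M] {K : Type*} [Field K] {V : Type*} [AddCommGroup V]
  [Module K V] [FiniteDimensional K V] [Nontrivial V] (S : Tw M K V)

/-- The inverses. -/
noncomputable def ei (x : M) : Module.End K V := Ring.inverse (S.e x)

theorem e_ei (x : M) : S.e x * S.ei x = 1 := Ring.mul_inverse_cancel _ (S.unit x)

theorem ei_e (x : M) : S.ei x * S.e x = 1 := Ring.inverse_mul_cancel _ (S.unit x)

theorem e_ne_zero (x : M) : S.e x ≠ 0 := (S.unit x).ne_zero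

theorem smul_cancel {c c' : K} {u : Module.End K V} (hu : IsUnit u) (h : c • u = c' • u) : c = c' :=
  smul_left_injective K hu.ne_zero h

theorem χ_ne (a b : M) : S.χ a b ≠ 0 := fun h => ((S.unit a).mul (S.unit b)).ne_zero (by
  rw [S.comm, h, zero_smul])

theorem χ_swap (a b : M) : S.χ a b * S.χ b a = 1 :=
  smul_cancel ((S.unit a).mul (S.unit b)) (by rw [← smul_smul, ← S.comm b a, ← S.comm a b, one_smul])

theorem χ_self (a : M) : S.χ a a = 1 :=
  smul_cancel ((S.unit a).mul (S.unit a)) (by rw [← S.comm, one_smul])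

theorem χ_mul (a a' v : M) : S.χ (a * a') v = S.χ a v * S.χ a' v := by
  obtain ⟨c, hc⟩ := S.mul a a'
  refine smul_cancel ((S.unit v).mul (S.unit (a * a'))) ?_
  rw [← S.comm, hc, mul_smul_comm, smul_mul_assoc, smul_comm (S.χ a v * S.χ a' v) c]
  congr 1
  rw [mul_assoc, S.comm a' v, mul_smul_comm, ← mul_assoc, S.comm a v, smul_mul_assoc, smul_smul,
    mul_assoc, mul_comm (S.χ a' v)]

theorem χ_one_left (v : M) : S.χ 1 v = 1 :=
  (mul_eq_left₀ (S.χ_ne 1 v)).1 (by rw [← S.χ_mul, one_mul])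

theorem χ_one_right (a : M) : S.χ a 1 = 1 := by
  have := S.χ_swap a 1
  rwa [S.χ_one_left, mul_one] at this

theorem χ_right (a v v' : M) : S.χ a (v * v') = S.χ a v * S.χ a v' := by
  have h1 := S.χ_swap a (v * v')
  rw [S.χ_mul] at h1
  refine mul_right_cancel₀ (mul_ne_zero (S.χ_ne v a) (S.χ_ne v' a)) ?_
  rw [h1, mul_mul_mul_comm, S.χ_swap, S.χ_swap, one_mul]

theorem χ_inv_right (a v : M) : S.χ a v * S.χ a v⁻¹ = 1 := by
  rw [← S.χ_right, mul_inv_cancel, S.χ_one_right]

theorem χ_inv_left (a v : M) : S.χ a v * S.χ a⁻¹ v = 1 := by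
  rw [← S.χ_mul, mul_inv_cancel, S.χ_one_left]

theorem eq_one_of_left {w : M} (h : ∀ b, S.χ w b = 1) : w = 1 := by
  by_contra hw
  obtain ⟨b, hb⟩ := S.nd w hw
  have := S.χ_swap b w
  rw [h b, mul_one] at this
  exact hb this

theorem e_one : ∃ c : K, S.e 1 = c • (1 : Module.End K V) ∧ c ≠ 0 := by
  obtain ⟨c, hc⟩ := S.mul 1 1
  rw [mul_one] at hc
  have hc0 : c ≠ 0 := fun h => S.e_ne_zero 1 (by rw [hc, h, zero_smul])
  refine ⟨c⁻¹, ?_, inv_ne_zero hc0⟩
  have h1 : (1 : Module.End K V) = c • S.e 1 := by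
    have h := congrArg (· * S.ei 1) hc
    simp only [smul_mul_assoc, mul_assoc, S.e_ei, mul_one] at h
    exact h
  rw [h1, smul_smul, inv_mul_cancel₀ hc0, one_smul]

theorem mul' (a b : M) : ∃ c : K, S.e a * S.e b = c • S.e (a * b) := by
  obtain ⟨c, hc⟩ := S.mul a b
  have hc0 : c ≠ 0 := fun h => S.e_ne_zero (a * b) (by rw [hc, h, zero_smul])
  exact ⟨c⁻¹, by rw [hc, smul_smul, inv_mul_cancel₀ hc0, one_smul]⟩

theorem ei_eq (a : M) : ∃ c : K, S.ei a = c • S.e a⁻¹ := by
  obtain ⟨c, hc⟩ := S.mul' a a⁻¹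
  obtain ⟨d, hd, hd0⟩ := S.e_one
  rw [mul_inv_cancel, hd, smul_smul] at hc
  have hcd : c * d ≠ 0 := fun h => ((S.unit a).mul (S.unit a⁻¹)).ne_zero (by rw [hc, h, zero_smul])
  refine ⟨(c * d)⁻¹, ?_⟩
  have h := congrArg (S.ei a * ·) hc
  simp only [← mul_assoc, S.ei_e, one_mul, mul_smul_comm, mul_one] at h
  rw [h, smul_smul, inv_mul_cancel₀ hcd, one_smul]

/-- Conjugation by `e a`. -/
noncomputable def cj (a : M) : Module.End K V →ₗ[K] Module.End K V :=
  (LinearMap.mulLeft K (S.e a)).comp (LinearMap.mulRight K (S.ei a))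

theorem cj_apply (a : M) (T : Module.End K V) : S.cj a T = S.e a * T * S.ei a :=
  (mul_assoc _ _ _).symm

theorem cj_e (a y : M) : S.cj a (S.e y) = S.χ a y • S.e y := by
  rw [cj_apply, S.comm, smul_mul_assoc, mul_assoc, S.e_ei, mul_one]

theorem cj_mul_hom (a : M) (T T' : Module.End K V) : S.cj a (T * T') = S.cj a T * S.cj a T' := by
  simp only [cj_apply]
  calc S.e a * (T * T') * S.ei a = S.e a * T * (S.ei a * S.e a) * T' * S.ei a := by
        rw [S.ei_e, mul_one, mul_assoc (S.e a) T T']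
    _ = _ := by simp only [mul_assoc]

theorem cj_eq_self {a : M} {T : Module.End K V} (h : Commute (S.e a) T) : S.cj a T = T := by
  rw [cj_apply, h.eq, mul_assoc, S.e_ei, mul_one]

theorem commute_of_cj {a : M} {T : Module.End K V} (h : S.cj a T = T) : Commute (S.e a) T := by
  show S.e a * T = T * S.e a
  rw [cj_apply] at h
  conv_rhs => rw [← h, mul_assoc, S.ei_e, mul_one]

theorem cj_cj (a b : M) (T : Module.End K V) : S.cj (a * b) T = S.cj a (S.cj b T) := by
  obtain ⟨c, hc⟩ := S.mul' a b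
  have hc0 : c ≠ 0 := fun h => ((S.unit a).mul (S.unit b)).ne_zero (by rw [hc, h, zero_smul])
  have hei : S.ei b * S.ei a = c⁻¹ • S.ei (a * b) := by
    have h : S.e a * S.e b * (c⁻¹ • S.ei (a * b)) = 1 := by
      rw [hc, smul_mul_assoc, mul_smul_comm, S.e_ei, smul_smul, mul_inv_cancel₀ hc0, one_smul]
    calc S.ei b * S.ei a = S.ei b * S.ei a * (S.e a * S.e b * (c⁻¹ • S.ei (a * b))) := by
          rw [h, mul_one]
      _ = S.ei b * ((S.ei a * S.e a) * S.e b) * (c⁻¹ • S.ei (a * b)) := by simp only [mul_assoc]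
      _ = c⁻¹ • S.ei (a * b) := by rw [S.ei_e, one_mul, S.ei_e, one_mul]
  simp only [cj_apply]
  calc S.e (a * b) * T * S.ei (a * b) = (c • S.e (a * b)) * T * (c⁻¹ • S.ei (a * b)) := by
        simp only [smul_mul_assoc, mul_smul_comm, smul_smul, inv_mul_cancel₀ hc0, one_smul]
    _ = S.e a * S.e b * T * (S.ei b * S.ei a) := by rw [hei, hc]
    _ = S.e a * (S.e b * T * S.ei b) * S.ei a := by simp only [mul_assoc]

theorem cj_comm (a b : M) (T : Module.End K V) : S.cj a (S.cj b T) = S.cj b (S.cj a T) := by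
  rw [← cj_cj, ← cj_cj, mul_comm]

open Classical in
theorem sum_χ_left (x : M) [Fintype M] : ∑ a, S.χ a x = if x = 1 then (Nat.card M : K) else 0 := by
  split_ifs with hx
  · subst hx
    simp only [χ_one_right, sum_const, card_univ, Nat.card_eq_fintype_card, nsmul_one]
  · obtain ⟨b, hb⟩ := S.nd x hx
    have h : S.χ b x * ∑ a, S.χ a x = ∑ a, S.χ a x := by
      rw [mul_sum]
      exact Fintype.sum_equiv (Equiv.mulLeft b) _ _ fun a => by
        rw [Equiv.coe_mulLeft, S.χ_mul]
    by_contra h0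
    exact hb ((mul_eq_right₀ h0).1 h)

open Classical in
theorem sum_χ_right (a : M) [Fintype M] : ∑ x, S.χ a x = if a = 1 then (Nat.card M : K) else 0 := by
  split_ifs with ha
  · subst ha
    simp only [χ_one_left, sum_const, card_univ, Nat.card_eq_fintype_card, nsmul_one]
  · obtain ⟨b, hb⟩ : ∃ b, S.χ a b ≠ 1 := by
      by_contra hno
      push Not at hno
      exact ha (S.eq_one_of_left hno)
    have h : S.χ a b * ∑ x, S.χ a x = ∑ x, S.χ a x := by
      rw [mul_sum]
      exact Fintype.sum_equiv (Equiv.mulLeft b) _ _ fun x => by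
        rw [Equiv.coe_mulLeft, S.χ_right]
    by_contra h0
    exact hb ((mul_eq_right₀ h0).1 h)

/-- The projection to one system of eigenvalues of conjugation. -/
noncomputable def P (x : M) : Module.End K V →ₗ[K] Module.End K V :=
  haveI := Fintype.ofFinite M
  (Nat.card M : K)⁻¹ • ∑ a : M, S.χ a x⁻¹ • S.cj a

theorem P_apply [Fintype M] (x : M) (T : Module.End K V) :
    S.P x T = (Nat.card M : K)⁻¹ • ∑ a : M, S.χ a x⁻¹ • S.cj a T := by
  simp only [P, LinearMap.smul_apply, LinearMap.sum_apply]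
  congr 1
  exact sum_congr (by ext; simp) fun _ _ => rfl

theorem sum_P [Fintype M] (T : Module.End K V) : ∑ x, S.P x T = T := by
  classical
  simp only [P_apply, ← smul_sum]
  rw [sum_comm]
  simp only [← sum_smul]
  have h : ∀ a, ∑ x : M, S.χ a x⁻¹ = if a = 1 then (Nat.card M : K) else 0 := fun a => by
    rw [← S.sum_χ_right a]
    exact Fintype.sum_equiv (Equiv.inv M) _ _ fun x => rfl
  simp only [h, ite_smul, zero_smul, sum_ite_eq' univ (1 : M), mem_univ, if_true, smul_smul,
    inv_mul_cancel₀ S.card_ne, one_smul]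
  obtain ⟨c, hc, hc0⟩ := S.e_one
  have : S.ei 1 = c⁻¹ • (1 : Module.End K V) := by
    calc S.ei 1 = S.ei 1 * ((c • (1 : Module.End K V)) * (c⁻¹ • 1)) := by
          rw [smul_mul_assoc, one_mul, smul_smul, mul_inv_cancel₀ hc0, one_smul, mul_one]
      _ = _ := by rw [← mul_assoc, ← hc, S.ei_e, one_mul]
  rw [cj_apply, hc, this, smul_mul_assoc, one_mul, mul_smul_comm, mul_one, smul_smul,
    inv_mul_cancel₀ hc0, one_smul]

theorem cj_P (b x : M) (T : Module.End K V) : S.cj b (S.P x T) = S.χ b x • S.P x T := by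
  haveI := Fintype.ofFinite M
  simp only [P_apply, map_smul, map_sum]
  rw [smul_comm (S.χ b x)]
  refine congrArg _ ?_
  rw [smul_sum]
  refine Fintype.sum_equiv (Equiv.mulLeft b) _ _ fun a => ?_
  rw [Equiv.coe_mulLeft, smul_smul, S.χ_mul, S.cj_cj]
  congr 1
  rw [← mul_assoc, S.χ_inv_right, one_mul]

theorem P_cj (a x : M) (T : Module.End K V) : S.P x (S.cj a T) = S.cj a (S.P x T) := by
  haveI := Fintype.ofFinite M
  simp only [P_apply, map_smul, map_sum]
  congr 1
  exact sum_congr rfl fun b _ => by rw [S.cj_comm]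

open Classical in
theorem P_of_eigen {T : Module.End K V} {y : M} (h : ∀ a, S.cj a T = S.χ a y • T) (x : M) :
    S.P x T = if x = y then T else 0 := by
  haveI := Fintype.ofFinite M
  simp only [P_apply, h, smul_smul, ← sum_smul]
  simp only [← S.χ_right, sum_χ_left, inv_mul_eq_one]
  split_ifs with h1
  · rw [inv_mul_cancel₀ S.card_ne, one_smul]
  · rw [mul_zero, zero_smul]

/-- Commuting with every `e a`. -/
def Cen (C : Module.End K V) : Prop := ∀ a, Commute (S.e a) C

theorem cj_e_mul {C : Module.End K V} (hC : S.Cen C) (a x : M) :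
    S.cj a (S.e x * C) = S.χ a x • (S.e x * C) := by
  rw [S.cj_mul_hom, S.cj_e, S.cj_eq_self (hC a), smul_mul_assoc]

/-- The coefficient of `e x`. -/
noncomputable def C (x : M) : Module.End K V →ₗ[K] Module.End K V :=
  (LinearMap.mulLeft K (S.ei x)).comp (S.P x)

theorem C_apply (x : M) (T : Module.End K V) : S.C x T = S.ei x * S.P x T := rfl

theorem cen_C (x : M) (T : Module.End K V) : S.Cen (S.C x T) := by
  intro a
  refine S.commute_of_cj ?_
  have hei : S.cj a (S.ei x) = (S.χ a x)⁻¹ • S.ei x := by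
    obtain ⟨c, hc⟩ := S.ei_eq x
    rw [hc, map_smul, S.cj_e, smul_comm c, eq_inv_of_mul_eq_one_right (S.χ_inv_right a x)]
  rw [C_apply, S.cj_mul_hom, S.cj_P, hei, smul_mul_assoc, mul_smul_comm, smul_smul,
    inv_mul_cancel₀ (S.χ_ne a x), one_smul]

theorem sum_e_C [Fintype M] (T : Module.End K V) : ∑ x, S.e x * S.C x T = T := by
  refine (sum_congr rfl fun x _ => ?_).trans (S.sum_P T)
  rw [C_apply, ← mul_assoc, S.e_ei, one_mul]

/-- The span of the `e x`. -/
def A : Subalgebra K (Module.End K V) :=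
  (Submodule.span K (Set.range S.e)).toSubalgebra
    (by
      obtain ⟨c, hc, hc0⟩ := S.e_one
      have h : (1 : Module.End K V) = c⁻¹ • S.e 1 := by rw [hc, smul_smul, inv_mul_cancel₀ hc0, one_smul]
      rw [h]
      exact Submodule.smul_mem _ _ (Submodule.subset_span ⟨1, rfl⟩))
    (by
      intro x y hx hy
      induction hx, hy using Submodule.span_induction₂ with
      | mem_mem x y hx hy =>
        obtain ⟨a, rfl⟩ := hx
        obtain ⟨b, rfl⟩ := hy
        obtain ⟨c, hc⟩ := S.mul' a b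
        rw [hc]
        exact Submodule.smul_mem _ _ (Submodule.subset_span ⟨_, rfl⟩)
      | zero_left y hy => rw [zero_mul]; exact zero_mem _
      | zero_right x hx => rw [mul_zero]; exact zero_mem _
      | add_left x y z _ _ _ h1 h2 => rw [add_mul]; exact add_mem h1 h2
      | add_right x y z _ _ _ h1 h2 => rw [mul_add]; exact add_mem h1 h2
      | smul_left r x y _ _ h => rw [smul_mul_assoc]; exact Submodule.smul_mem _ _ h
      | smul_right r x y _ _ h => rw [mul_smul_comm]; exact Submodule.smul_mem _ _ h)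

theorem mem_A {T : Module.End K V} : T ∈ S.A ↔ T ∈ Submodule.span K (Set.range S.e) := Iff.rfl

theorem e_mem (x : M) : S.e x ∈ S.A := Submodule.subset_span ⟨x, rfl⟩

theorem ei_mem (x : M) : S.ei x ∈ S.A := by
  obtain ⟨c, hc⟩ := S.ei_eq x
  rw [hc]
  exact S.A.smul_mem (S.e_mem _) c

theorem cj_mem (a : M) {T : Module.End K V} (hT : T ∈ S.A) : S.cj a T ∈ S.A := by
  rw [cj_apply]
  exact mul_mem (mul_mem (S.e_mem a) hT) (S.ei_mem a)

theorem P_mem {x : M} {T : Module.End K V} (hT : T ∈ S.A) : ∃ c : K, S.P x T = c • S.e x := by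
  classical
  induction mem_A S |>.1 hT using Submodule.span_induction with
  | mem y hy =>
    obtain ⟨y, rfl⟩ := hy
    by_cases h : x = y
    · exact ⟨1, by rw [S.P_of_eigen (fun a => S.cj_e a y), if_pos h, one_smul, h]⟩
    · exact ⟨0, by rw [S.P_of_eigen (fun a => S.cj_e a y), if_neg h, zero_smul]⟩
  | zero => exact ⟨0, by rw [map_zero, zero_smul]⟩
  | add y z hy hz h1 h2 =>
    obtain ⟨c, hc⟩ := h1 hy
    obtain ⟨d, hd⟩ := h2 hz
    exact ⟨c + d, by rw [map_add, hc, hd, add_smul]⟩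
  | smul r y hy h1 =>
    obtain ⟨c, hc⟩ := h1 hy
    exact ⟨r * c, by rw [map_smul, hc, smul_smul]⟩

/-- An element of the span killing a nonzero invariant subspace vanishes. -/
theorem eq_zero_of_kill {T : Module.End K V} (hT : T ∈ S.A) (U : Submodule K V) (hU : U ≠ ⊥)
    (hinv : ∀ a, ∀ u ∈ U, S.e a u ∈ U) (hkill : ∀ u ∈ U, T u = 0) : T = 0 := by
  haveI := Fintype.ofFinite M
  rw [← S.sum_P T]
  refine sum_eq_zero fun x _ => ?_
  obtain ⟨c, hc⟩ := S.P_mem (x := x) hT
  have hei : ∀ a, ∀ u ∈ U, S.ei a u ∈ U := fun a u hu => by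
    obtain ⟨d, hd⟩ := S.ei_eq a
    rw [hd, LinearMap.smul_apply]
    exact U.smul_mem _ (hinv _ u hu)
  have hk : ∀ u ∈ U, S.P x T u = 0 := fun u hu => by
    rw [P_apply]
    simp only [LinearMap.smul_apply, LinearMap.sum_apply, cj_apply, Module.End.mul_apply,
      hkill _ (hei _ u hu), map_zero, smul_zero, sum_const_zero]
  rw [hc]
  obtain ⟨u, hu, hu0⟩ := (Submodule.ne_bot_iff U).1 hU
  have h := hk u hu
  rw [hc, LinearMap.smul_apply] at h
  rcases smul_eq_zero.1 h with h0 | h0
  · rw [h0, zero_smul]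
  · refine absurd ?_ hu0
    rw [← Module.End.one_apply (R := K) u, ← S.ei_e x, Module.End.mul_apply, h0, map_zero]

theorem eq_zero_of_mul_eq_zero {T W : Module.End K V} (hT : T ∈ S.A) (hW : ∀ a, Commute (S.e a) W)
    (h : T * W = 0) (hW0 : W ≠ 0) : T = 0 := by
  refine S.eq_zero_of_kill hT (LinearMap.range W) (by rwa [ne_eq, LinearMap.range_eq_bot]) ?_ ?_
  · rintro a _ ⟨v, rfl⟩
    exact ⟨S.e a v, by rw [← Module.End.mul_apply, ← (hW a).eq, Module.End.mul_apply]⟩
  · rintro _ ⟨v, rfl⟩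
    rw [← Module.End.mul_apply, h, LinearMap.zero_apply]

theorem smul_of_cen {T : Module.End K V} (hT : T ∈ S.A) (hC : S.Cen T) :
    ∃ c : K, T = c • (1 : Module.End K V) := by
  classical
  obtain ⟨c, hc⟩ := S.P_mem (x := 1) hT
  obtain ⟨d, hd, -⟩ := S.e_one
  refine ⟨c * d, ?_⟩
  rw [← smul_smul, ← hd, ← hc, S.P_of_eigen (y := 1)
    (fun a => by rw [S.cj_eq_self (hC a), χ_one_right, one_smul]), if_pos rfl]

theorem eq_of_smul {c : K} {x y : M} (h : S.e x = c • S.e y) : x = y := by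
  classical
  by_contra hne
  have h1 := congrArg (S.P x) h
  rw [S.P_of_eigen (fun a => S.cj_e a x), if_pos rfl, map_smul,
    S.P_of_eigen (fun a => S.cj_e a y), if_neg hne, smul_zero] at h1
  exact S.e_ne_zero x h1

/-- The bimodule projection given by a functional. -/
noncomputable def Λ (l : Module.End K V →ₗ[K] K) : Module.End K V →ₗ[K] Module.End K V :=
  haveI := Fintype.ofFinite M
  ∑ x : M, (l.comp (S.C x)).smulRight (S.e x)

theorem Λ_apply [Fintype M] (l : Module.End K V →ₗ[K] K) (T : Module.End K V) :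
    S.Λ l T = ∑ x, l (S.C x T) • S.e x := by
  simp only [Λ, LinearMap.sum_apply, LinearMap.smulRight_apply, LinearMap.comp_apply]
  exact sum_congr (by ext; simp) fun _ _ => rfl

theorem Λ_mem (l : Module.End K V →ₗ[K] K) (T : Module.End K V) : S.Λ l T ∈ S.A := by
  haveI := Fintype.ofFinite M
  rw [Λ_apply]
  exact sum_mem fun x _ => S.A.smul_mem (S.e_mem x) _

theorem Λ_single (l : Module.End K V →ₗ[K] K) (y : M) {C' : Module.End K V} (hC : S.Cen C') :
    S.Λ l (S.e y * C') = l C' • S.e y := by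
  classical
  haveI := Fintype.ofFinite M
  rw [Λ_apply, sum_eq_single y (fun x _ hx => ?_) (fun h => absurd (mem_univ _) h)]
  · rw [C_apply, S.P_of_eigen (fun a => S.cj_e_mul hC a y), if_pos rfl, ← mul_assoc, S.ei_e,
      one_mul]
  · rw [C_apply, S.P_of_eigen (fun a => S.cj_e_mul hC a y), if_neg hx, mul_zero, map_zero, zero_smul]

theorem Λ_mul_left (l : Module.End K V →ₗ[K] K) {Y : Module.End K V} (hY : Y ∈ S.A)
    (T : Module.End K V) : S.Λ l (Y * T) = Y * S.Λ l T := by
  haveI := Fintype.ofFinite M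
  induction mem_A S |>.1 hY using Submodule.span_induction with
  | mem y hy =>
    obtain ⟨a, rfl⟩ := hy
    conv_lhs => rw [← S.sum_e_C T, mul_sum, map_sum]
    rw [Λ_apply, mul_sum]
    refine sum_congr rfl fun x _ => ?_
    obtain ⟨c, hc⟩ := S.mul' a x
    rw [← mul_assoc, hc, smul_mul_assoc, map_smul, S.Λ_single l _ (S.cen_C x T), mul_smul_comm, hc,
      smul_comm]
  | zero => rw [zero_mul, map_zero, zero_mul]
  | add y z hy hz h1 h2 => rw [add_mul, map_add, h1 hy, h2 hz, add_mul]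
  | smul r y hy h1 => rw [smul_mul_assoc, map_smul, h1 hy, smul_mul_assoc]

theorem Λ_mul_right (l : Module.End K V →ₗ[K] K) {Y : Module.End K V} (hY : Y ∈ S.A)
    (T : Module.End K V) : S.Λ l (T * Y) = S.Λ l T * Y := by
  haveI := Fintype.ofFinite M
  induction mem_A S |>.1 hY using Submodule.span_induction with
  | mem y hy =>
    obtain ⟨a, rfl⟩ := hy
    conv_lhs => rw [← S.sum_e_C T, sum_mul, map_sum]
    rw [Λ_apply, sum_mul]
    refine sum_congr rfl fun x _ => ?_
    obtain ⟨c, hc⟩ := S.mul' x a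
    rw [mul_assoc, ← ((S.cen_C x T) a).eq, ← mul_assoc, hc, smul_mul_assoc, map_smul,
      S.Λ_single l _ (S.cen_C x T), smul_mul_assoc, hc, smul_comm]
  | zero => rw [mul_zero, map_zero, mul_zero]
  | add y z hy hz h1 h2 => rw [mul_add, map_add, h1 hy, h2 hz, mul_add]
  | smul r y hy h1 => rw [mul_smul_comm, map_smul, h1 hy, mul_smul_comm]

theorem exists_Λ_ne_zero {T : Module.End K V} (hT : T ≠ 0) :
    ∃ l : Module.End K V →ₗ[K] K, S.Λ l T ≠ 0 := by
  classical
  haveI := Fintype.ofFinite M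
  obtain ⟨x, hx⟩ : ∃ x, S.C x T ≠ 0 := by
    by_contra hno
    push Not at hno
    refine hT ?_
    rw [← S.sum_e_C T]
    exact sum_eq_zero fun x _ => by rw [hno x, mul_zero]
  obtain ⟨l, hl⟩ : ∃ l : Module.End K V →ₗ[K] K, l (S.C x T) ≠ 0 := by
    by_contra hno
    push Not at hno
    exact hx ((Module.forall_dual_apply_eq_zero_iff K _).1 hno)
  refine ⟨l, fun h => hl ?_⟩
  have h1 := congrArg (S.P x) h
  rw [Λ_apply, map_sum, map_zero, sum_eq_single x (fun y _ hy => ?_)
    (fun h' => absurd (mem_univ _) h')] at h1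
  · rw [map_smul, S.P_of_eigen (fun a => S.cj_e a x), if_pos rfl] at h1
    exact (smul_eq_zero.1 h1).resolve_right (S.e_ne_zero x)
  · rw [map_smul, S.P_of_eigen (fun a => S.cj_e a y), if_neg (Ne.symm hy), smul_zero]

end Tw

end CfsgLib.Core.HHTwoDerived
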