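import Mathlib
import Cfsg.Agent.Lib.Core.HHCritical.TwoDerived.Heis
import Cfsg.Agent.Lib.Core.HHCritical.TwoTops.Good
import Cfsg.Agent.Lib.Blocks.BrauerMap

/-!
# Making an action inner

For a `2`-group `G` acting on a twisted group algebra through `r` in characteristic two:

* `Act.exists_inner`: a homomorphism into the algebra inducing the same action
* `Act.exists_transfer`: vanishing products of `r g - 1` pass to that homomorphism
* `Tw.res`, `Act.res`: restriction to nondegenerate invariant subgroups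
-/

set_option autoImplicit false
set_option linter.all false

namespace CfsgLib.Core.HHTwoDerived

open Finset CfsgLib.Core.HHTwo
open scoped commutatorElement

/-- The product `(r g_{n-1} - 1) ⋯ (r g_0 - 1)`. -/
def chain {G E : Type*} [Monoid G] [Ring E] (r : G →* E) (g : ℕ → G) : ℕ → E
  | 0 => 1
  | n + 1 => (r (g n) - 1) * chain r g n

theorem chain_congr {G E : Type*} [Monoid G] [Ring E] (r : G →* E) {g g' : ℕ → G} :
    ∀ {n : ℕ}, (∀ i < n, g i = g' i) → chain r g n = chain r g' n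
  | 0, _ => rfl
  | n + 1, h => by
    show (r (g n) - 1) * _ = _ * _
    rw [h n (by omega), chain_congr r (fun i hi => h i (by omega))]

/-- Splitting off the first factor. -/
theorem chain_succ' {G E : Type*} [Monoid G] [Ring E] (r : G →* E) (g : ℕ → G) :
    ∀ n : ℕ, chain r g (n + 1) = chain r (fun i => g (i + 1)) n * (r (g 0) - 1)
  | 0 => by simp [chain]
  | n + 1 => by
    show (r (g (n + 1)) - 1) * chain r g (n + 1) = (r (g (n + 1)) - 1) * _ * _
    rw [chain_succ' r g n, mul_assoc]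

theorem chain_map {G G' E : Type*} [Monoid G] [Monoid G'] [Ring E] (r : G' →* E) (f : G →* G')
    (g : ℕ → G) : ∀ n : ℕ, chain (r.comp f) g n = chain r (fun i => f (g i)) n
  | 0 => rfl
  | n + 1 => by show _ * _ = _ * _; rw [chain_map r f g n]; rfl

variable {K : Type*} [Field K] [CharP K 2]

theorem eq_one_of_two_pow {c : K} {k : ℕ} (h : c ^ 2 ^ k = 1) : c = 1 := by
  haveI := Fact.mk Nat.prime_two
  have h1 : (c - 1) ^ 2 ^ k = 0 := by rw [sub_pow_char_pow, one_pow, h, sub_self]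
  exact sub_eq_zero.1 ((pow_eq_zero_iff (pow_ne_zero _ two_ne_zero)).1 h1)

variable {M : Type*} [CommGroup M] [Finite M] {V : Type*} [AddCommGroup V] [Module K V]
  [FiniteDimensional K V] [Nontrivial V]

namespace Tw

variable (S : Tw M K V)

theorem eq_one_of_χ_sq {a b : M} (h : S.χ a b * S.χ a b = 1) : S.χ a b = 1 :=
  eq_one_of_two_pow (k := 1) (by rw [pow_one, sq, h])

/-- An isometric involution separates. -/
theorem orth {z : MulAut M} (hz : ∀ a b, S.χ (z a) (z b) = S.χ a b) {d c : M} (hd : d ∈ neg z)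
    (hc : z c = c) : S.χ d c = 1 ∧ S.χ c d = 1 := by
  have h := hz d c
  rw [mem_neg'.1 hd, hc] at h
  have h1 : S.χ d c = 1 := by
    refine S.eq_one_of_χ_sq ?_
    nth_rewrite 2 [← h]
    exact S.χ_inv_left d c
  refine ⟨h1, ?_⟩
  have := S.χ_swap d c
  rwa [h1, one_mul] at this

variable {q : ℕ}

theorem nd_neg (hq2 : Odd q) (hM : ∀ v : M, v ^ q = 1) {z : MulAut M}
    (hz : ∀ a b, S.χ (z a) (z b) = S.χ a b) (hz2 : ∀ v, z (z v) = v) :
    ∀ w ∈ neg z, w ≠ 1 → ∃ b ∈ neg z, S.χ b w ≠ 1 := by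
  intro w hw hw1
  obtain ⟨b, hb⟩ := S.nd w hw1
  obtain ⟨d, hd, c, hc, rfl⟩ := exists_split hq2 hM hz2 b
  exact ⟨d, hd, fun h => hb (by rw [S.χ_mul, h, (S.orth hz hw hc).2, one_mul])⟩

theorem nd_fixd (hq2 : Odd q) (hM : ∀ v : M, v ^ q = 1) {z : MulAut M}
    (hz : ∀ a b, S.χ (z a) (z b) = S.χ a b) (hz2 : ∀ v, z (z v) = v) :
    ∀ w ∈ fixd z, w ≠ 1 → ∃ b ∈ fixd z, S.χ b w ≠ 1 := by
  intro w hw hw1
  obtain ⟨b, hb⟩ := S.nd w hw1
  obtain ⟨d, hd, c, hc, rfl⟩ := exists_split hq2 hM hz2 b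
  exact ⟨c, hc, fun h => hb (by rw [S.χ_mul, h, (S.orth hz hd hw).1, one_mul])⟩

/-- Restriction to a nondegenerate subgroup. -/
noncomputable def res (L : Subgroup M) (hL : ∀ w ∈ L, w ≠ 1 → ∃ b ∈ L, S.χ b w ≠ 1) : Tw L K V where
  e x := S.e x
  unit x := S.unit x
  χ x y := S.χ x y
  comm a b := S.comm a b
  mul a b := S.mul a b
  nd w hw := by
    obtain ⟨b, hb, h⟩ := hL w w.2 (fun e => hw (Subtype.ext e))
    exact ⟨⟨b, hb⟩, h⟩
  card_ne := by
    obtain ⟨c, hc⟩ := Subgroup.card_subgroup_dvd_card L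
    intro h
    exact S.card_ne (by rw [hc, Nat.cast_mul, h, zero_mul])

theorem res_A_le (L : Subgroup M) (hL : ∀ w ∈ L, w ≠ 1 → ∃ b ∈ L, S.χ b w ≠ 1) :
    (S.res L hL).A ≤ S.A := fun T hT =>
  Submodule.span_mono (by rintro _ ⟨x, rfl⟩; exact ⟨x, rfl⟩) hT

/-- The commutant inside the span. -/
theorem mem_res_of_commute {L L' : Subgroup M} (hL : ∀ w ∈ L, w ≠ 1 → ∃ b ∈ L, S.χ b w ≠ 1)
    (horth : ∀ x, (∀ a ∈ L', S.χ a x = 1) → x ∈ L) {T : Module.End K V} (hT : T ∈ S.A)
    (hcomm : ∀ a ∈ L', Commute (S.e a) T) : T ∈ (S.res L hL).A := by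
  haveI := Fintype.ofFinite M
  rw [← S.sum_P T]
  refine sum_mem fun x _ => ?_
  by_cases h0 : S.P x T = 0
  · rw [h0]; exact zero_mem _
  have hx : x ∈ L := horth x fun a ha => by
    have h1 : S.cj a (S.P x T) = S.P x T := by
      rw [← S.P_cj, S.cj_eq_self (hcomm a ha)]
    rw [S.cj_P] at h1
    exact smul_left_injective K h0 (show S.χ a x • S.P x T = (1 : K) • S.P x T by rw [h1, one_smul])
  obtain ⟨c, hc⟩ := S.P_mem (x := x) hT
  rw [hc]
  exact (S.res L hL).A.smul_mem ((S.res L hL).e_mem ⟨x, hx⟩) c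

theorem commute_of_mem_res {L : Subgroup M} (hL : ∀ w ∈ L, w ≠ 1 → ∃ b ∈ L, S.χ b w ≠ 1)
    {T W : Module.End K V} (hT : T ∈ (S.res L hL).A) (hW : ∀ a ∈ L, Commute (S.e a) W) :
    Commute T W := by
  induction (S.res L hL).mem_A.1 hT using Submodule.span_induction with
  | mem y hy => obtain ⟨x, rfl⟩ := hy; exact hW x x.2
  | zero => exact Commute.zero_left W
  | add x y hx hy h1 h2 => exact (h1 hx).add_left (h2 hy)
  | smul a x hx h1 => exact (h1 hx).smul_left a

end Tw

/-- A group acting on a twisted group algebra. -/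
structure Act (S : Tw M K V) (G : Type*) [Group G] where
  r : G →* Module.End K V
  σ : G →* MulAut M
  intw : ∀ g a, ∃ c : K, r g * S.e a = c • (S.e (σ g a) * r g)

namespace Act

variable {S : Tw M K V} {G : Type*} [Group G] (T : Act S G)

theorem r_inv (g : G) : T.r g * T.r g⁻¹ = 1 := by rw [← map_mul, mul_inv_cancel, map_one]

theorem r_inv' (g : G) : T.r g⁻¹ * T.r g = 1 := by rw [← map_mul, inv_mul_cancel, map_one]

theorem isUnit_r (g : G) : IsUnit (T.r g) := ⟨⟨_, _, T.r_inv g, T.r_inv' g⟩, rfl⟩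

/-- Conjugation. -/
noncomputable def γ (g : G) : Module.End K V →ₗ[K] Module.End K V :=
  (LinearMap.mulLeft K (T.r g)).comp (LinearMap.mulRight K (T.r g⁻¹))

theorem γ_apply (g : G) (Y : Module.End K V) : T.γ g Y = T.r g * Y * T.r g⁻¹ := (mul_assoc _ _ _).symm

theorem γ_mul (g : G) (Y Y' : Module.End K V) : T.γ g (Y * Y') = T.γ g Y * T.γ g Y' := by
  simp only [γ_apply]
  calc T.r g * (Y * Y') * T.r g⁻¹ = T.r g * Y * (T.r g⁻¹ * T.r g) * Y' * T.r g⁻¹ := by
        rw [T.r_inv', mul_one, mul_assoc (T.r g) Y Y']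
    _ = _ := by simp only [mul_assoc]

theorem γ_γ (g h : G) (Y : Module.End K V) : T.γ g (T.γ h Y) = T.γ (g * h) Y := by
  simp only [γ_apply, mul_inv_rev, map_mul, mul_assoc]

theorem γ_e (g : G) (a : M) : ∃ c : K, T.γ g (S.e a) = c • S.e (T.σ g a) ∧ c ≠ 0 := by
  obtain ⟨c, hc⟩ := T.intw g a
  refine ⟨c, ?_, fun h => ((T.isUnit_r g).mul (S.unit a)).ne_zero (by rw [hc, h, zero_smul])⟩
  rw [γ_apply, hc, smul_mul_assoc, mul_assoc, T.r_inv, mul_one]

theorem γ_mem (g : G) {Y : Module.End K V} (hY : Y ∈ S.A) : T.γ g Y ∈ S.A := by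
  induction S.mem_A.1 hY using Submodule.span_induction with
  | mem y hy =>
    obtain ⟨a, rfl⟩ := hy
    obtain ⟨c, hc, -⟩ := T.γ_e g a
    rw [hc]
    exact S.A.smul_mem (S.e_mem _) c
  | zero => rw [map_zero]; exact zero_mem _
  | add x y hx hy h1 h2 => rw [map_add]; exact add_mem (h1 hx) (h2 hy)
  | smul a x hx h1 => rw [map_smul]; exact S.A.smul_mem (h1 hx) a

theorem isometry (g : G) (a b : M) : S.χ (T.σ g a) (T.σ g b) = S.χ a b := by
  obtain ⟨c, hc, hc0⟩ := T.γ_e g a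
  obtain ⟨d, hd, hd0⟩ := T.γ_e g b
  have h := congrArg (T.γ g) (S.comm a b)
  rw [map_smul, T.γ_mul, T.γ_mul, hc, hd, smul_mul_smul_comm, smul_mul_smul_comm, S.comm, smul_smul,
    smul_smul, mul_comm d c, mul_comm (c * d)] at h
  exact mul_right_cancel₀ (mul_ne_zero hc0 hd0)
    (Tw.smul_cancel ((S.unit (T.σ g b)).mul (S.unit (T.σ g a))) h)

theorem pairing (g : G) : Pairing S.χ (T.σ g) :=
  ⟨S.χ_mul, S.χ_ne, S.nd, S.χ_swap, S.χ_self, T.isometry g⟩

theorem fix_of_commute {g : G} {a : M} (h : Commute (T.r g) (S.e a)) : T.σ g a = a := by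
  obtain ⟨c, hc⟩ := T.intw g a
  rw [h.eq, ← smul_mul_assoc] at hc
  exact (S.eq_of_smul ((T.isUnit_r g).mul_right_cancel hc)).symm

theorem commute_of_fix (hG : IsPGroup 2 G) {g : G} {a : M} (h : T.σ g a = a) :
    Commute (T.r g) (S.e a) := by
  obtain ⟨c, hc, -⟩ := T.γ_e g a
  rw [h] at hc
  have hn : ∀ n : ℕ, T.γ (g ^ n) (S.e a) = c ^ n • S.e a := by
    intro n
    induction n with
    | zero => rw [pow_zero, pow_zero, one_smul, γ_apply, inv_one, map_one, one_mul, mul_one]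
    | succ n ih => rw [pow_succ', ← T.γ_γ, ih, map_smul, hc, smul_smul, ← pow_succ]
  obtain ⟨k, hk⟩ := hG g
  have h1 := hn (2 ^ k)
  rw [hk, γ_apply, inv_one, map_one, one_mul, mul_one] at h1
  have hc1 : c = 1 := eq_one_of_two_pow (k := k) (Tw.smul_cancel (S.unit a) (by rw [one_smul]; exact h1.symm))
  rw [hc1, one_smul, γ_apply] at hc
  show T.r g * S.e a = S.e a * T.r g
  conv_rhs => rw [← hc, mul_assoc, T.r_inv', mul_one]

theorem r_eq_one (hG : IsPGroup 2 G) {g : G} (hA : T.r g ∈ S.A) (h : T.σ g = 1) : T.r g = 1 := by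
  obtain ⟨c, hc⟩ := S.smul_of_cen hA fun a =>
    (T.commute_of_fix hG (show T.σ g a = a by rw [h]; rfl)).symm
  obtain ⟨k, hk⟩ := hG g
  have h1 : c ^ 2 ^ k • (1 : Module.End K V) = (1 : K) • 1 := by
    have h0 := congrArg T.r hk
    rw [map_pow, map_one, hc, smul_pow, one_pow] at h0
    rw [h0, one_smul]
  rw [hc, eq_one_of_two_pow (Tw.smul_cancel isUnit_one h1), one_smul]

theorem r_eq (hG : IsPGroup 2 G) (hA : ∀ g, T.r g ∈ S.A) {g h : G} (e : T.σ g = T.σ h) :
    T.r g = T.r h := by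
  have h1 := T.r_eq_one hG (hA (g * h⁻¹)) (by rw [map_mul, map_inv, e, mul_inv_cancel])
  conv_lhs => rw [show g = g * h⁻¹ * h by group, map_mul, h1, one_mul]

theorem σ_eq_one {g : G} (h : T.r g = 1) : T.σ g = 1 :=
  MulEquiv.ext fun a => T.fix_of_commute (by rw [h]; exact Commute.one_left _)

/-- Restriction. -/
noncomputable def res (L : Subgroup M) (hL : ∀ w ∈ L, w ≠ 1 → ∃ b ∈ L, S.χ b w ≠ 1)
    (hinv : ∀ g, ∀ x ∈ L, T.σ g x ∈ L) : Act (S.res L hL) G where
  r := T.r
  σ := MonoidHom.mk' (fun g => HH.res L (T.σ g) (hinv g)) fun g h => MulEquiv.ext fun x => Subtype.ext (by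
    rw [MulAut.mul_apply, HH.coe_res, HH.coe_res, HH.coe_res, map_mul, MulAut.mul_apply])
  intw g a := T.intw g a

theorem coe_res_σ (L : Subgroup M) (hL : ∀ w ∈ L, w ≠ 1 → ∃ b ∈ L, S.χ b w ≠ 1)
    (hinv : ∀ g, ∀ x ∈ L, T.σ g x ∈ L) (g : G) (x : L) :
    (((T.res L hL hinv).σ g x : L) : M) = T.σ g x := rfl

/-- Pulling back along a homomorphism. -/
def comp {G' : Type*} [Group G'] (f : G' →* G) : Act S G' where
  r := T.r.comp f
  σ := T.σ.comp f
  intw g a := T.intw (f g) a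

variable [IsAlgClosed K] [Finite G]

/-- An inner action inducing the same action. -/
theorem exists_inner (hG : IsPGroup 2 G) : ∃ T1 : Act S G, T1.σ = T.σ ∧ (∀ g, T1.r g ∈ S.A) ∧
    ∀ g a, Commute (T1.r g⁻¹ * T.r g) (S.e a) := by
  classical
  haveI := Fact.mk Nat.prime_two
  haveI := Fintype.ofFinite G
  choose l hl using fun g => S.exists_Λ_ne_zero (T.isUnit_r g).ne_zero
  set u : G → Module.End K V := fun g => S.Λ (l g) (T.r g) with hu
  have huA : ∀ g, u g ∈ S.A := fun g => S.Λ_mem _ _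
  have hint : ∀ g, ∀ Y ∈ S.A, u g * Y = T.γ g Y * u g := fun g Y hY => by
    rw [hu]
    show S.Λ (l g) (T.r g) * Y = T.γ g Y * S.Λ (l g) (T.r g)
    rw [← S.Λ_mul_right _ hY, ← S.Λ_mul_left _ (T.γ_mem g hY), γ_apply, mul_assoc _ (T.r g⁻¹),
      T.r_inv', mul_one]
  have hunit : ∀ g, IsUnit (u g) := by
    intro g
    have hker : LinearMap.ker (u g) = ⊥ := by
      by_contra hne
      refine hl g (S.eq_zero_of_kill (huA g) _ hne (fun a v hv => ?_) fun v hv => hv)
      rw [LinearMap.mem_ker] at hv ⊢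
      rw [← Module.End.mul_apply, hint g _ (S.e_mem a), Module.End.mul_apply, hv, map_zero]
    have hinj := LinearMap.ker_eq_bot.1 hker
    exact (Module.End.isUnit_iff _).2 ⟨hinj, LinearMap.injective_iff_surjective.1 hinj⟩
  set v : G → Module.End K V := fun g => Ring.inverse (u g) with hv
  have huv : ∀ g, u g * v g = 1 := fun g => Ring.mul_inverse_cancel _ (hunit g)
  have hvu : ∀ g, v g * u g = 1 := fun g => Ring.inverse_mul_cancel _ (hunit g)
  have hvA : ∀ g, v g ∈ S.A := by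
    intro g
    let m : S.A →ₗ[K] S.A := LinearMap.mulLeft K ⟨u g, huA g⟩
    have hm : Function.Injective m := fun x y h => by
      have h1 : u g * (x : Module.End K V) = u g * (y : Module.End K V) := congrArg Subtype.val h
      exact Subtype.ext ((hunit g).mul_left_cancel h1)
    obtain ⟨Y, hY⟩ := LinearMap.injective_iff_surjective.1 hm 1
    have h1 : u g * (Y : Module.End K V) = 1 := congrArg Subtype.val hY
    rw [show v g = (Y : Module.End K V) from (hunit g).mul_left_cancel (by rw [huv, h1])]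
    exact Y.2
  have hc : ∀ g h, ∃ c : K, u g * u h = c • u (g * h) := by
    intro g h
    suffices hcen : S.Cen (v (g * h) * (u g * u h)) by
      obtain ⟨c, hc⟩ := S.smul_of_cen (mul_mem (hvA _) (mul_mem (huA g) (huA h))) hcen
      exact ⟨c, by rw [← one_mul (u g * u h), ← huv (g * h), mul_assoc, hc, mul_smul_comm, mul_one]⟩
    intro a
    show S.e a * _ = _
    have h1 : v (g * h) * T.γ (g * h) (S.e a) = S.e a * v (g * h) := by
      calc v (g * h) * T.γ (g * h) (S.e a)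
          = v (g * h) * (T.γ (g * h) (S.e a) * u (g * h)) * v (g * h) := by
            rw [mul_assoc, mul_assoc, huv, mul_one]
        _ = S.e a * v (g * h) := by
            rw [← hint _ _ (S.e_mem a), ← mul_assoc (v (g * h)), hvu, one_mul]
    calc S.e a * (v (g * h) * (u g * u h)) = v (g * h) * T.γ (g * h) (S.e a) * (u g * u h) := by
          rw [h1, mul_assoc]
      _ = v (g * h) * (T.γ g (T.γ h (S.e a)) * u g * u h) := by
          rw [T.γ_γ]; simp only [mul_assoc]
      _ = v (g * h) * (u g * u h) * S.e a := by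
          rw [← hint g _ (T.γ_mem h (S.e_mem a)), mul_assoc (u g), ← hint h _ (S.e_mem a)]
          simp only [mul_assoc]
  choose c hc using hc
  have hc0 : ∀ g h, c g h ≠ 0 := fun g h e =>
    ((hunit g).mul (hunit h)).ne_zero (by rw [hc, e, zero_smul])
  have hcoc : ∀ g h k, c g h * c (g * h) k = c h k * c g (h * k) := by
    intro g h k
    refine Tw.smul_cancel (hunit (g * h * k)) ?_
    have e1 : u g * u h * u k = (c g h * c (g * h) k) • u (g * h * k) := by
      rw [hc, smul_mul_assoc, hc, smul_smul]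
    have e2 : u g * (u h * u k) = (c h k * c g (h * k)) • u (g * h * k) := by
      rw [hc h k, mul_smul_comm, hc, smul_smul, mul_assoc g h k]
    rw [← e1, ← e2, mul_assoc]
  set b : G → K := fun g => ∏ k, c g k with hb
  have hN : ∀ g h, c g h ^ Fintype.card G * b (g * h) = b g * b h := by
    intro g h
    rw [hb]
    show c g h ^ Fintype.card G * ∏ k, c (g * h) k = (∏ k, c g k) * ∏ k, c h k
    rw [← Finset.card_univ, ← Finset.prod_const, ← Finset.prod_mul_distrib,
      ← Fintype.prod_equiv (Equiv.mulLeft h) (fun k => c g (h * k)) (fun k => c g k) (fun k => rfl),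
      ← Finset.prod_mul_distrib]
    exact Finset.prod_congr rfl fun k _ => (hcoc g h k).trans (mul_comm _ _)
  choose b' hb' using fun g => IsAlgClosed.exists_pow_nat_eq (b g) (Fintype.card_pos (α := G))
  have hb0 : ∀ g, b' g ≠ 0 := fun g e => by
    have := hb' g
    rw [e, zero_pow Fintype.card_ne_zero, eq_comm, hb, Finset.prod_eq_zero_iff] at this
    obtain ⟨k, -, hk⟩ := this
    exact hc0 g k hk
  have key : ∀ g h, c g h * b' (g * h) = b' g * b' h := by
    intro g h
    obtain ⟨k, hk⟩ := IsPGroup.iff_card.1 hG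
    rw [Nat.card_eq_fintype_card] at hk
    refine eq_of_div_eq_one (eq_one_of_two_pow (k := k) ?_)
    rw [← hk, div_pow, mul_pow, mul_pow, hb', hb', hb', hN]
    exact div_self (mul_ne_zero (by rw [← hb']; exact pow_ne_zero _ (hb0 g))
      (by rw [← hb']; exact pow_ne_zero _ (hb0 h)))
  have hmul : ∀ g h, (b' (g * h))⁻¹ • u (g * h) = ((b' g)⁻¹ • u g) * ((b' h)⁻¹ • u h) := by
    intro g h
    rw [smul_mul_smul_comm, hc, smul_smul]
    congr 1
    refine (inv_eq_of_mul_eq_one_right ?_)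
    have h1 := key g h
    have := hb0 g
    have := hb0 h
    field_simp
    linear_combination h1
  let r1 : G →* Module.End K V :=
    { toFun := fun g => (b' g)⁻¹ • u g
      map_one' := by
        have h1 := hmul 1 1
        rw [one_mul] at h1
        have hu1 : IsUnit ((b' 1)⁻¹ • u 1) := (hunit 1).smul (Units.mk0 _ (inv_ne_zero (hb0 1)))
        exact hu1.mul_left_cancel (by rw [mul_one, ← h1])
      map_mul' := hmul }
  have hr1 : ∀ g, ∀ Y ∈ S.A, r1 g * Y = T.γ g Y * r1 g := fun g Y hY => by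
    show (b' g)⁻¹ • u g * Y = T.γ g Y * ((b' g)⁻¹ • u g)
    rw [smul_mul_assoc, hint g Y hY, mul_smul_comm]
  refine ⟨⟨r1, T.σ, fun g a => ?_⟩, rfl, fun g => S.A.smul_mem (huA g) _, fun g a => ?_⟩
  · obtain ⟨d, hd, -⟩ := T.γ_e g a
    exact ⟨d, by rw [hr1 g _ (S.e_mem a), hd, smul_mul_assoc]⟩
  · show r1 g⁻¹ * T.r g * S.e a = S.e a * (r1 g⁻¹ * T.r g)
    have h1 := hr1 g _ (S.e_mem a)
    have h2 : r1 g⁻¹ * T.γ g (S.e a) = S.e a * r1 g⁻¹ := by
      calc r1 g⁻¹ * T.γ g (S.e a) = r1 g⁻¹ * (T.γ g (S.e a) * r1 g) * r1 g⁻¹ := by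
            rw [mul_assoc, mul_assoc, ← map_mul, mul_inv_cancel, map_one, mul_one]
        _ = S.e a * r1 g⁻¹ := by
            rw [← h1, ← mul_assoc (r1 g⁻¹), ← map_mul, inv_mul_cancel, map_one, one_mul]
    calc r1 g⁻¹ * T.r g * S.e a = r1 g⁻¹ * T.γ g (S.e a) * T.r g := by
          rw [γ_apply]; simp only [mul_assoc, T.r_inv', mul_one]
      _ = _ := by rw [h2, mul_assoc]

/-- Vanishing products pass to the inner action. -/
theorem exists_transfer (hG : IsPGroup 2 G) {T1 : Act S G} (hA : ∀ g, T1.r g ∈ S.A)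
    (hcm : ∀ g a, Commute (T1.r g⁻¹ * T.r g) (S.e a)) (g : ℕ → G) (n : ℕ)
    (h : chain T.r g n = 0) : chain T1.r g n = 0 := by
  haveI := Fact.mk Nat.prime_two
  have hcmA : ∀ g, ∀ Y ∈ S.A, Commute (T1.r g⁻¹ * T.r g) Y := by
    intro g Y hY
    induction S.mem_A.1 hY using Submodule.span_induction with
    | mem y hy => obtain ⟨a, rfl⟩ := hy; exact hcm g a
    | zero => exact Commute.zero_right _
    | add x y hx hy h1 h2 => exact (h1 hx).add_right (h2 hy)
    | smul a x hx h1 => exact (h1 hx).smul_right a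
  let r2 : Representation K G V :=
    { toFun := fun g => T1.r g⁻¹ * T.r g
      map_one' := by rw [inv_one, map_one, map_one, mul_one]
      map_mul' := fun g h => by
        show T1.r (g * h)⁻¹ * T.r (g * h) = T1.r g⁻¹ * T.r g * (T1.r h⁻¹ * T.r h)
        rw [mul_inv_rev, map_mul, map_mul, ← mul_assoc _ (T1.r h⁻¹), (hcmA g _ (hA h⁻¹)).eq]
        simp only [mul_assoc] }
  obtain ⟨x, hx⟩ := exists_ne (0 : V)
  obtain ⟨v0, hv0, hfix⟩ := CfsgLib.Blocks.exists_fixed_ne_zero (p := 2) hG r2 hx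
  have hrY : ∀ g, ∀ Y ∈ S.A, T.r g (Y v0) = T1.r g (Y v0) := by
    intro g Y hY
    conv_lhs => rw [← one_mul (T.r g), ← T1.r_inv g, mul_assoc, Module.End.mul_apply,
      ← Module.End.mul_apply (T1.r g⁻¹ * T.r g) Y, (hcmA g Y hY).eq, Module.End.mul_apply,
      show (T1.r g⁻¹ * T.r g) v0 = v0 from hfix g]
  have hchA : ∀ k, chain T1.r g k ∈ S.A := by
    intro k
    induction k with
    | zero => exact one_mem _
    | succ k ih => exact mul_mem (sub_mem (hA _) (one_mem _)) ih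
  have hch : ∀ k, ∀ Y ∈ S.A, chain T.r g k (Y v0) = (chain T1.r g k * Y) v0 := by
    intro k
    induction k with
    | zero => intro Y hY; rw [Module.End.mul_apply]; rfl
    | succ k ih =>
      intro Y hY
      show ((T.r (g k) - 1) * chain T.r g k) (Y v0) = ((T1.r (g k) - 1) * chain T1.r g k * Y) v0
      rw [Module.End.mul_apply, ih Y hY, LinearMap.sub_apply, hrY _ _ (mul_mem (hchA k) hY)]
      simp only [Module.End.mul_apply, LinearMap.sub_apply, Module.End.one_apply]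
  refine S.eq_zero_of_kill (hchA n) ((Subalgebra.toSubmodule S.A).map (LinearMap.applyₗ v0)) ?_ ?_ ?_
  · exact (Submodule.ne_bot_iff _).2 ⟨v0, ⟨1, one_mem S.A, rfl⟩, hv0⟩
  · rintro a _ ⟨Y, hY, rfl⟩
    exact ⟨S.e a * Y, S.A.mul_mem (S.e_mem a) (Subalgebra.mem_toSubmodule _ |>.1 hY), rfl⟩
  · rintro _ ⟨Y, hY, rfl⟩
    show chain T1.r g n (Y v0) = 0
    rw [← Module.End.mul_apply, ← hch n Y hY, h, LinearMap.zero_apply]

end Act

end CfsgLib.Core.HHTwoDerived
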