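import Mathlib
import Cfsg.Agent.Lib.Core.HHCritical.TwoDerived.Inner
import Cfsg.Agent.Lib.Core.HHCritical.TwoDerived.Dser

/-!
# The top of length one

* `Act.core_one`: if `(r a - 1) (r g - 1) = 0` for all `g` and `a ∈ G'` inverts `M`, then `q = 3`,
  `M` has order `9`, squares act as powers of `a`
-/

set_option autoImplicit false
set_option linter.all false

namespace CfsgLib.Core.HHTwoDerived

open Finset CfsgLib.Core.HHTwo
open scoped commutatorElement

variable {K : Type*} [Field K] [CharP K 2] {M : Type*} [CommGroup M] [Finite M] {V : Type*}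
  [AddCommGroup V] [Module K V] [FiniteDimensional K V] [Nontrivial V]

theorem charP_end : CharP (Module.End K V) 2 :=
  charP_of_injective_algebraMap (RingHom.injective (algebraMap K (Module.End K V))) 2

theorem end_add_self (Y : Module.End K V) : Y + Y = 0 := by
  rw [← two_smul K Y, show (2 : K) = ((2 : ℕ) : K) by norm_num, CharP.cast_eq_zero K 2, zero_smul]

theorem end_sub (Y Z : Module.End K V) : Y - Z = Y + Z := by
  rw [sub_eq_add_neg]
  congr 1
  exact neg_eq_of_add_eq_zero_left (end_add_self Z)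

namespace Act

variable {S : Tw M K V} {G : Type*} [Group G] (T : Act S G)

theorem σ_comm {a : G} (hneg : ∀ x, T.σ a x = x⁻¹) (g : G) : T.σ a * T.σ g = T.σ g * T.σ a :=
  MulEquiv.ext fun x => by rw [MulAut.mul_apply, MulAut.mul_apply, hneg, hneg, map_inv]

theorem σ_sq {a : G} (hneg : ∀ x, T.σ a x = x⁻¹) : T.σ a * T.σ a = 1 :=
  MulEquiv.ext fun x => by rw [MulAut.mul_apply, hneg, hneg, inv_inv]; rfl

theorem σ_zpowers {a : G} (hneg : ∀ x, T.σ a x = x⁻¹) {y : MulAut M}
    (hy : y ∈ Subgroup.zpowers (T.σ a)) : y = 1 ∨ y = T.σ a := by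
  obtain ⟨i, rfl⟩ := Subgroup.mem_zpowers_iff.1 hy
  rcases Int.even_or_odd' i with ⟨j, rfl | rfl⟩
  · left; rw [zpow_mul, zpow_two, T.σ_sq hneg, one_zpow]
  · right; rw [zpow_add, zpow_mul, zpow_two, T.σ_sq hneg, one_zpow, one_mul, zpow_one]

/-- Products of squares. -/
theorem commutator_le_of_sq {H : Subgroup G} [H.Normal] (h : ∀ g : G, g * g ∈ H) : commutator G ≤ H := by
  rw [commutator_def, Subgroup.commutator_le]
  intro g _ k _
  rw [show ⁅g, k⁆ = (g * g) * ((g⁻¹ * k) * (g⁻¹ * k)) * (k⁻¹ * k⁻¹) by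
    rw [commutatorElement_def]; group]
  exact mul_mem (mul_mem (h g) (h _)) (h _)

variable [Finite G]

set_option maxHeartbeats 1000000 in
theorem core_one {q : ℕ} (hq : q.Prime) (hq2 : Odd q) (hM : ∀ v : M, v ^ q = 1) [Nontrivial M]
    (hG : IsPGroup 2 G) (hA : ∀ g, T.r g ∈ S.A) {a : G} (hneg : ∀ x, T.σ a x = x⁻¹)
    (ha : a ∈ commutator G) (hZ : ∀ g, (T.r a - 1) * (T.r g - 1) = 0) :
    q = 3 ∧ Nat.card M = 9 ∧ (∀ g, T.σ (g * g) = 1 ∨ T.σ (g * g) = T.σ a) ∧
      (∀ g ∈ commutator G, T.σ g = 1 ∨ T.σ g = T.σ a) ∧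
      ∃ g, T.σ (g * g) = T.σ a := by
  classical
  haveI := Fact.mk Nat.prime_two
  haveI := Fact.mk hq
  haveI := charP_end (K := K) (V := V)
  haveI := Fintype.ofFinite M
  letI : LinearOrder M := LinearOrder.lift' (Fintype.equivFin M) (Fintype.equivFin M).injective
  have hza : T.σ a ≠ 1 := by
    intro e
    obtain ⟨x, hx⟩ := exists_ne (1 : M)
    have h1 := hneg x
    rw [e, MulAut.one_apply, eq_inv_iff_mul_eq_one, ← sq] at h1
    exact hx (eq_one_of_sq hq2 hM h1)
  have haa : T.r a * T.r a = 1 := by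
    rw [← map_mul]; exact T.r_eq_one hG (hA _) (by rw [map_mul, T.σ_sq hneg])
  have hrinv : T.r a⁻¹ = T.r a := T.r_eq hG hA (by rw [map_inv, inv_eq_of_mul_eq_one_right (T.σ_sq hneg)])
  have hac : ∀ g, T.r g * T.r a = T.r a * T.r g := fun g => by
    rw [← map_mul, ← map_mul]; exact T.r_eq hG hA (by rw [map_mul, map_mul, T.σ_comm hneg])
  set Z := T.r a - 1 with hZdef
  have hZ' : ∀ g, (T.r g - 1) * Z = 0 := fun g => by
    have h1 := hZ g
    rw [hZdef] at h1 ⊢
    rw [← h1, sub_mul, mul_sub, sub_mul, mul_sub, hac g]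
    noncomm_ring
  -- the fourth powers are trivial
  have hB3 : ∀ g, (T.r g - 1) ^ 3 = 0 := by
    intro g
    set B := T.r g - 1 with hB
    have hBA : B ∈ S.A := sub_mem (hA g) (one_mem _)
    have hγB : T.γ a B = B := by
      rw [γ_apply, hrinv, hB, mul_sub, sub_mul, mul_one, ← hac, mul_assoc, haa, mul_one]
    have hγP : ∀ x, T.γ a (S.P x B) = S.P x⁻¹ B := by
      intro x
      have hterm : ∀ y, ∃ d : K, T.γ a (S.P y B) = d • S.e y⁻¹ := by
        intro y
        obtain ⟨c, hc⟩ := S.P_mem (x := y) hBA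
        obtain ⟨d, hd, -⟩ := T.γ_e a y
        exact ⟨c * d, by rw [hc, map_smul, hd, smul_smul, hneg]⟩
      conv_rhs => rw [← hγB, ← S.sum_P B, map_sum, map_sum]
      rw [Finset.sum_eq_single x (fun y _ hy => ?_) (fun h => absurd (Finset.mem_univ _) h)]
      · obtain ⟨d, hd⟩ := hterm x
        rw [hd, map_smul, S.P_of_eigen (fun b => S.cj_e b x⁻¹), if_pos rfl]
      · obtain ⟨d, hd⟩ := hterm y
        rw [hd, map_smul, S.P_of_eigen (fun b => S.cj_e b y⁻¹),
          if_neg (fun e => hy (inv_injective e).symm), smul_zero]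
    set U := ∑ x ∈ Finset.univ.filter (fun x : M => x < x⁻¹), S.P x B with hU
    have hγU : T.γ a U = ∑ x ∈ Finset.univ.filter (fun x : M => x⁻¹ < x), S.P x B := by
      rw [hU, map_sum]
      refine Finset.sum_nbij' (fun x => x⁻¹) (fun x => x⁻¹) ?_ ?_ (fun x _ => inv_inv x)
        (fun x _ => inv_inv x) (fun x _ => hγP x)
      · intro x hx; simpa using hx
      · intro x hx; simpa using hx
    have hsplit : B = S.P 1 B + U + T.γ a U := by
      conv_lhs => rw [← S.sum_P B, ← Finset.sum_filter_add_sum_filter_not _ (fun x : M => x < x⁻¹)]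
      rw [← hU, hγU, add_comm (S.P 1 B) U, add_assoc]
      congr 1
      rw [← Finset.sum_insert (s := Finset.univ.filter (fun x : M => x⁻¹ < x)) (a := (1 : M))
        (f := fun x => S.P x B) (by simp)]
      refine Finset.sum_congr ?_ fun _ _ => rfl
      ext x
      simp only [Finset.mem_filter, Finset.mem_insert, Finset.mem_univ, true_and, not_lt]
      constructor
      · intro h
        rcases h.lt_or_eq with h1 | h1
        · exact Or.inr h1
        · exact Or.inl (eq_one_of_sq hq2 hM (by rw [sq]; nth_rewrite 1 [← h1]; exact inv_mul_cancel x))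
      · rintro (rfl | h)
        · rw [inv_one]
        · exact h.le
    obtain ⟨c, hc⟩ : ∃ c : K, S.P 1 B = c • (1 : Module.End K V) := by
      obtain ⟨c, hc⟩ := S.P_mem (x := 1) hBA
      obtain ⟨d, hd, -⟩ := S.e_one
      exact ⟨c * d, by rw [hc, hd, smul_smul]⟩
    have hBeq : B = c • (1 : Module.End K V) + (Z * U + U * Z + Z * U * Z) := by
      conv_lhs => rw [hsplit, hc, γ_apply, hrinv, show T.r a = 1 + Z by rw [hZdef]; abel, add_assoc]
      congr 1
      calc U + (1 + Z) * U * (1 + Z) = (U + U) + (Z * U + U * Z + Z * U * Z) := by noncomm_ring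
        _ = _ := by rw [end_add_self, zero_add]
    have hcB : B * B * B = c • (B * B) := by
      nth_rewrite 2 [hBeq]
      have e1 : Z * B = 0 := hZ g
      have e2 : B * Z = 0 := hZ' g
      simp only [mul_add, add_mul, mul_smul_comm, smul_mul_assoc, mul_one]
      rw [show B * (Z * U) * B = B * Z * U * B by noncomm_ring,
        show B * (U * Z) * B = B * U * (Z * B) by noncomm_ring,
        show B * (Z * U * Z) * B = B * Z * U * (Z * B) by noncomm_ring, e1, e2]
      simp
    obtain ⟨k, hk⟩ := hG g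
    have hnil : B ^ 2 ^ k = 0 := by
      rw [hB, sub_pow_char_pow_of_commute 2 k (Commute.one_right _), ← map_pow, hk, map_one, one_pow,
        sub_self]
    have hpow : ∀ j, B ^ (2 + j) = c ^ j • (B * B) := by
      intro j
      induction j with
      | zero => rw [pow_zero, one_smul, add_zero, sq]
      | succ j ih =>
        rw [← add_assoc, pow_succ', ih, mul_smul_comm, ← mul_assoc, hcB, smul_smul, ← pow_succ]
    have h3 : B ^ 3 = B * B * B := by rw [pow_succ, sq]
    rw [h3, hcB]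
    rcases eq_or_ne c 0 with h0 | h0
    · rw [h0, zero_smul]
    · have h := hpow (2 ^ k)
      rw [pow_add, hnil, mul_zero, eq_comm, smul_eq_zero] at h
      rw [h.resolve_left (pow_ne_zero _ h0), smul_zero]
  have hfour : ∀ g, T.σ (g * g) * T.σ (g * g) = 1 := by
    intro g
    rw [← map_mul]
    refine T.σ_eq_one ?_
    have h1 : (T.r g - 1) ^ 2 ^ 2 = 0 := by
      rw [show (2 : ℕ) ^ 2 = 3 + 1 by norm_num, pow_succ, hB3, zero_mul]
    rw [sub_pow_char_pow_of_commute 2 2 (Commute.one_right _), one_pow, sub_eq_zero] at h1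
    rw [show g * g * (g * g) = g ^ 2 ^ 2 by rw [show (2 : ℕ) ^ 2 = 4 by norm_num]; simp only [pow_succ, pow_zero, one_mul, mul_assoc], map_pow, h1]
  -- a nontrivial square
  have hmain : ∀ g, T.σ (g * g) ≠ 1 → q = 3 ∧ Nat.card M = 9 ∧ T.σ (g * g) = T.σ a := by
    intro g hne
    have hgg : T.σ g ^ 2 ^ 1 = T.σ (g * g) := by rw [pow_one, sq, map_mul]
    have hcj : ∀ (x y : M) (Y : Module.End K V),
        S.e (x * y) * Y * S.ei (x * y) = S.e x * (S.e y * Y * S.ei y) * S.ei x := fun x y Y => by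
      simpa only [Tw.cj_apply] using S.cj_cj x y Y
    have hXe : ∀ (x : M) (Y : Module.End K V), T.r g * (S.e x * Y * S.ei x) * T.r g⁻¹ =
        S.e (T.σ g x) * (T.r g * Y * T.r g⁻¹) * S.ei (T.σ g x) := by
      intro x Y
      obtain ⟨c, hc, hc0⟩ := T.γ_e g x
      have hei : T.γ g (S.ei x) = c⁻¹ • S.ei (T.σ g x) := by
        have h1 : T.γ g (S.ei x) * T.γ g (S.e x) = 1 := by
          rw [← T.γ_mul, S.ei_e, γ_apply, mul_one, T.r_inv]
        rw [hc] at h1
        calc T.γ g (S.ei x) = T.γ g (S.ei x) * ((c • S.e (T.σ g x)) * (c⁻¹ • S.ei (T.σ g x))) := by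
              rw [smul_mul_smul_comm, mul_inv_cancel₀ hc0, one_smul, S.e_ei, mul_one]
          _ = _ := by rw [← mul_assoc, h1, one_mul]
      rw [← T.γ_apply, T.γ_mul, T.γ_mul, hc, hei, smul_mul_assoc, smul_mul_assoc, mul_smul_comm,
        smul_smul, mul_inv_cancel₀ hc0, one_smul, T.γ_apply]
    rcases exc_of_small (m := 1) hq hq2 hM S.e S.ei S.e_ei S.ei_e S.χ S.comm S.χ_mul S.χ_ne S.nd hcj
      S.card_ne (T.σ g) (by rw [show 2 ^ (1 + 1) = 2 * 2 by norm_num, pow_mul, ← hfour g, sq, sq, map_mul])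
      (T.r g) (T.r g⁻¹) (T.r_inv g) (T.r_inv' g) (hB3 g) (T.isometry g) hXe with
      h | ⟨hq1, -, -, hcard⟩
    · exact absurd (hgg ▸ h) hne
    have hq3 : q = 3 := by norm_num at hq1; omega
    refine ⟨hq3, ?_⟩
    rw [hgg, hq3] at hcard
    set t := g * g with ht
    have hts : ∀ x, T.σ t (T.σ t x) = x := fun x => by rw [← MulAut.mul_apply, hfour]; rfl
    have hL1 := S.nd_neg hq2 hM (T.isometry t) hts
    have hL2 := S.nd_fixd hq2 hM (T.isometry t) hts
    have horth1 : ∀ x, (∀ b ∈ fixd (T.σ t), S.χ b x = 1) → x ∈ neg (T.σ t) := by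
      intro x hx
      obtain ⟨d, hd, c, hc, rfl⟩ := exists_split hq2 hM hts x
      have hc1 : c = 1 := by
        by_contra hne1
        obtain ⟨b, hb, hbc⟩ := hL2 c hc hne1
        exact hbc (by have := hx b hb; rwa [S.χ_right, (S.orth (T.isometry t) hd hb).2, one_mul] at this)
      rw [hc1, mul_one]; exact hd
    have horth2 : ∀ x, (∀ b ∈ neg (T.σ t), S.χ b x = 1) → x ∈ fixd (T.σ t) := by
      intro x hx
      obtain ⟨d, hd, c, hc, rfl⟩ := exists_split hq2 hM hts x
      have hd1 : d = 1 := by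
        by_contra hne1
        obtain ⟨b, hb, hbd⟩ := hL1 d hd hne1
        exact hbd (by have := hx b hb; rwa [S.χ_right, (S.orth (T.isometry t) hb hc).1, mul_one] at this)
      rw [hd1, one_mul]; exact hc
    set w := T.r (t * a) with hw
    have hwc : ∀ x ∈ neg (T.σ t), Commute (S.e x) w := fun x hx => (T.commute_of_fix hG (by
      rw [map_mul, MulAut.mul_apply, hneg, map_inv, mem_neg'.1 hx, inv_inv])).symm
    have hwA := S.mem_res_of_commute hL2 horth2 (hA (t * a)) hwc
    have htc : ∀ x ∈ fixd (T.σ t), Commute (S.e x) (T.r t) := fun x hx => (T.commute_of_fix hG hx).symm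
    have htA := S.mem_res_of_commute hL1 horth1 (hA t) htc
    have hcom : Commute (T.r t) w := S.commute_of_mem_res hL1 htA hwc
    have htt : T.r t * T.r t = 1 := by
      rw [← map_mul]; exact T.r_eq_one hG (hA _) (by rw [map_mul, hfour])
    have hprod : (w - 1) * (T.r t - 1) = 0 := by
      have h1 := hZ t
      have hra : T.r a = T.r t * w := by rw [hw, map_mul T.r t a, ← mul_assoc, htt, one_mul]
      rw [hZdef, hra] at h1
      have h2 : (T.r t * w - 1) * (T.r t - 1) = (T.r t * T.r t) * w - T.r t * w - T.r t + 1 := by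
        simp only [sub_mul, mul_sub, one_mul, mul_one]
        rw [mul_assoc (T.r t) w, ← hcom.eq, ← mul_assoc]
        abel
      rw [h2, htt, one_mul] at h1
      rw [← h1, sub_mul, mul_sub, mul_one, one_mul, hcom.eq]
      simp only [end_sub]
      abel
    have hrt : T.r t - 1 ≠ 0 := fun e => hne (T.σ_eq_one (sub_eq_zero.1 e))
    have hw1 : w - 1 = 0 := (S.res _ hL2).eq_zero_of_mul_eq_zero (sub_mem hwA (one_mem _))
      (fun x => ((htc x x.2).sub_right (Commute.one_right _))) hprod hrt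
    have hσ := T.σ_eq_one (sub_eq_zero.1 hw1)
    rw [map_mul] at hσ
    have heq : T.σ t = T.σ a := (eq_inv_of_mul_eq_one_left hσ).trans
      (inv_eq_of_mul_eq_one_right (T.σ_sq hneg))
    refine ⟨?_, heq⟩
    rw [show neg (T.σ t) = ⊤ from eq_top_iff.2 fun x _ => by rw [HHTwo.mem_neg', heq, hneg],
      Subgroup.card_top] at hcard
    rw [hcard]; norm_num
  obtain ⟨g0, hg0⟩ : ∃ g, T.σ (g * g) ≠ 1 := by
    by_contra hno
    push Not at hno
    have h2 : commutator G ≤ T.σ.ker := commutator_le_of_sq fun g => hno g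
    exact hza (h2 ha)
  obtain ⟨hq3, hcard, h0⟩ := hmain g0 hg0
  have hall : ∀ g, T.σ (g * g) = 1 ∨ T.σ (g * g) = T.σ a := fun g =>
    (em (T.σ (g * g) = 1)).imp id fun h => (hmain g h).2.2
  refine ⟨hq3, hcard, hall, ?_, g0, h0⟩
  haveI : ((Subgroup.zpowers (T.σ a)).comap T.σ).Normal := ⟨fun x hx y => by
    rw [Subgroup.mem_comap] at hx ⊢
    have hc : T.σ (y * x * y⁻¹) = T.σ x := by
      rw [map_mul, map_mul, map_inv]
      rcases T.σ_zpowers hneg hx with h | h <;> rw [h]
      · rw [mul_one, mul_inv_cancel]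
      · rw [← T.σ_comm hneg y, mul_inv_cancel_right]
    rw [hc]; exact hx⟩
  intro g hg
  exact T.σ_zpowers hneg (commutator_le_of_sq (H := (Subgroup.zpowers (T.σ a)).comap T.σ)
    (fun y => by
      rw [Subgroup.mem_comap]
      rcases hall y with h | h <;> rw [h]
      · exact one_mem _
      · exact Subgroup.mem_zpowers _) hg)

end Act

end CfsgLib.Core.HHTwoDerived
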