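import Mathlib
import Cfsg.Agent.Lib.Core.HHCritical.TwoDerived.CoreOne

/-!
# Halving a top

* `Act.Top`: `(r a - 1)` times every product of length `m` vanishes, `a ∈ G^(m)` inverting `M`
* `Act.exists_halves`: the two inner factors belonging to an invariant involution
* `Act.half`: with an element exchanging the halves, a top of length `m - 1` on one half
-/

set_option autoImplicit false
set_option linter.all false

namespace CfsgLib.Core.HHTwoDerived

open Finset CfsgLib.Core.HHTwo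
open scoped commutatorElement

variable {K : Type*} [Field K] [CharP K 2] {M : Type*} [CommGroup M] [Finite M] {V : Type*}
  [AddCommGroup V] [Module K V] [FiniteDimensional K V] [Nontrivial V]

namespace Tw

variable (S : Tw M K V) {q : ℕ}

theorem orth_neg (hq2 : Odd q) (hM : ∀ v : M, v ^ q = 1) {z : MulAut M}
    (hz : ∀ a b, S.χ (z a) (z b) = S.χ a b) (hz2 : ∀ v, z (z v) = v) :
    ∀ x, (∀ b ∈ fixd z, S.χ b x = 1) → x ∈ neg z := by
  intro x hx
  obtain ⟨d, hd, c, hc, rfl⟩ := exists_split hq2 hM hz2 x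
  have hc1 : c = 1 := by
    by_contra hne1
    obtain ⟨b, hb, hbc⟩ := S.nd_fixd hq2 hM hz hz2 c hc hne1
    exact hbc (by have := hx b hb; rwa [S.χ_right, (S.orth hz hd hb).2, one_mul] at this)
  rw [hc1, mul_one]; exact hd

theorem orth_fixd (hq2 : Odd q) (hM : ∀ v : M, v ^ q = 1) {z : MulAut M}
    (hz : ∀ a b, S.χ (z a) (z b) = S.χ a b) (hz2 : ∀ v, z (z v) = v) :
    ∀ x, (∀ b ∈ neg z, S.χ b x = 1) → x ∈ fixd z := by
  intro x hx
  obtain ⟨d, hd, c, hc, rfl⟩ := exists_split hq2 hM hz2 x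
  have hd1 : d = 1 := by
    by_contra hne1
    obtain ⟨b, hb, hbd⟩ := S.nd_neg hq2 hM hz hz2 d hd hne1
    exact hbd (by have := hx b hb; rwa [S.χ_right, (S.orth hz hb hc).1, mul_one] at this)
  rw [hd1, one_mul]; exact hc

theorem finrank_A : Module.finrank K S.A = Nat.card M := by
  classical
  haveI := Fintype.ofFinite M
  have hli : LinearIndependent K S.e := by
    rw [Fintype.linearIndependent_iff]
    intro f hf x
    have h1 := congrArg (S.P x) hf
    rw [map_sum, map_zero, Finset.sum_eq_single x (fun y _ hy => by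
      rw [map_smul, S.P_of_eigen (fun a => S.cj_e a y), if_neg (Ne.symm hy), smul_zero])
      (fun h => absurd (Finset.mem_univ _) h), map_smul, S.P_of_eigen (fun a => S.cj_e a x), if_pos rfl] at h1
    exact (smul_eq_zero.1 h1).resolve_right (S.e_ne_zero x)
  rw [Nat.card_eq_fintype_card, ← finrank_span_eq_card hli]
  rfl

theorem P_left (x : M) {Y R : Module.End K V} (hR : ∀ a, Commute (S.e a) R) :
    S.P x (Y * R) = S.P x Y * R := by
  haveI := Fintype.ofFinite M
  simp only [P_apply, smul_mul_assoc, sum_mul]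
  congr 1
  exact sum_congr rfl fun a _ => by rw [S.cj_mul_hom, S.cj_eq_self (hR a)]

theorem P_right (x : M) {Y R : Module.End K V} (hY : ∀ a, Commute (S.e a) Y) :
    S.P x (Y * R) = Y * S.P x R := by
  haveI := Fintype.ofFinite M
  simp only [P_apply, mul_smul_comm, mul_sum]
  congr 1
  exact sum_congr rfl fun a _ => by rw [S.cj_mul_hom, S.cj_eq_self (hY a)]

theorem P_res_mem {L : Subgroup M} (hL : ∀ w ∈ L, w ≠ 1 → ∃ b ∈ L, S.χ b w ≠ 1) (x : L)
    {T : Module.End K V} (hT : T ∈ S.A) : (S.res L hL).P x T ∈ S.A := by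
  haveI := Fintype.ofFinite L
  rw [P_apply]
  refine S.A.smul_mem (sum_mem fun a _ => S.A.smul_mem ?_ _) _
  exact S.cj_mem (a : M) hT

theorem commute_res {L L' : Subgroup M} (hL : ∀ w ∈ L, w ≠ 1 → ∃ b ∈ L, S.χ b w ≠ 1)
    (h : ∀ a ∈ L', ∀ x ∈ L, S.χ a x = 1) {T : Module.End K V} (hT : T ∈ (S.res L hL).A) :
    ∀ a ∈ L', Commute (S.e a) T := fun a ha =>
  (S.commute_of_mem_res hL hT fun x hx => by
    show S.e x * S.e a = S.e a * S.e x
    rw [S.comm a x, h a ha x hx, one_smul]).symm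

end Tw

namespace Act

variable {S : Tw M K V} {G : Type*} [Group G] (T : Act S G)

/-- A top of length `m` inverting everything. -/
structure Top (m : ℕ) (a : G) : Prop where
  mem : a ∈ dser (⊤ : Subgroup G) m
  neg : ∀ x, T.σ a x = x⁻¹
  vanish : ∀ g : ℕ → G, (∀ i < m, g i ∈ dser (⊤ : Subgroup G) i) →
    (T.r a - 1) * chain T.r g m = 0

theorem Top.core_one [Finite G] {a : G} (h : T.Top 1 a) {q : ℕ} (hq : q.Prime) (hq2 : Odd q)
    (hM : ∀ v : M, v ^ q = 1) [Nontrivial M] (hG : IsPGroup 2 G) (hA : ∀ g, T.r g ∈ S.A) :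
    q = 3 ∧ Nat.card M = 9 ∧ (∀ g, T.σ (g * g) = 1 ∨ T.σ (g * g) = T.σ a) ∧
      (∀ g ∈ commutator G, T.σ g = 1 ∨ T.σ g = T.σ a) ∧
      ∃ g, T.σ (g * g) = T.σ a :=
  T.core_one hq hq2 hM hG hA h.neg (commutator_def G ▸ h.mem) fun g => by
    have h1 := h.vanish (fun _ => g) fun i hi => by
      obtain rfl : i = 0 := by omega
      exact Subgroup.mem_top g
    simpa [chain] using h1

variable [IsAlgClosed K] [Finite G] {q : ℕ}

/-- The top passes to an invariant nondegenerate subgroup. -/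
theorem exists_top_res (hG : IsPGroup 2 G) {m : ℕ} {a : G} (hmem : a ∈ dser (⊤ : Subgroup G) m)
    (hvan : ∀ g : ℕ → G, (∀ i < m, g i ∈ dser (⊤ : Subgroup G) i) →
      (T.r a - 1) * chain T.r g m = 0)
    {L : Subgroup M} (hL : ∀ w ∈ L, w ≠ 1 → ∃ b ∈ L, S.χ b w ≠ 1)
    (hinv : ∀ g, ∀ x ∈ L, T.σ g x ∈ L) (hneg : ∀ x ∈ L, T.σ a x = x⁻¹) :
    ∃ T1 : Act (S.res L hL) G, T1.σ = (T.res L hL hinv).σ ∧ (∀ g, T1.r g ∈ (S.res L hL).A) ∧
      (∀ g x, Commute (T1.r g⁻¹ * T.r g) ((S.res L hL).e x)) ∧ T1.Top m a := by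
  classical
  obtain ⟨T1, hσ, hA, hcm⟩ := (T.res L hL hinv).exists_inner hG
  refine ⟨T1, hσ, hA, hcm, hmem, fun x => Subtype.ext ?_, fun g hg => ?_⟩
  · rw [hσ, coe_res_σ, Subgroup.coe_inv, hneg _ x.2]
  · let g' : ℕ → G := fun i => if i < m then g i else a
    have hg' : ∀ i < m, g' i = g i := fun i hi => if_pos hi
    have hgm : g' m = a := if_neg (lt_irrefl m)
    have h1 := (T.res L hL hinv).exists_transfer hG hA hcm g' (m + 1) (by
      show (T.r (g' m) - 1) * chain T.r g' m = 0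
      rw [hgm, chain_congr _ hg', hvan g hg])
    have h2 : (T1.r (g' m) - 1) * chain T1.r g' m = 0 := h1
    rwa [hgm, chain_congr _ hg'] at h2

/-- The two inner factors of an action commuting with an involution. -/
theorem exists_halves (hG : IsPGroup 2 G) (hA : ∀ g, T.r g ∈ S.A) (hq2 : Odd q)
    (hM : ∀ v : M, v ^ q = 1) {X : MulAut M} (hX : ∀ a b, S.χ (X a) (X b) = S.χ a b)
    (hX2 : ∀ v, X (X v) = v) (hfix : ∀ g, T.σ g * X = X * T.σ g) :
    ∃ (Tp : Act (S.res (fixd X) (S.nd_fixd hq2 hM hX hX2)) G)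
      (Tm : Act (S.res (neg X) (S.nd_neg hq2 hM hX hX2)) G),
      (∀ g (x : fixd X), ((Tp.σ g x : fixd X) : M) = T.σ g x) ∧
      (∀ g (x : neg X), ((Tm.σ g x : neg X) : M) = T.σ g x) ∧
      (∀ g, Tp.r g ∈ (S.res (fixd X) (S.nd_fixd hq2 hM hX hX2)).A) ∧
      (∀ g, Tm.r g ∈ (S.res (neg X) (S.nd_neg hq2 hM hX hX2)).A) ∧
      (∀ g h, Commute (Tp.r g) (Tm.r h)) ∧ ∀ g, T.r g = Tp.r g * Tm.r g := by
  have hp := S.nd_fixd hq2 hM hX hX2
  have hm := S.nd_neg hq2 hM hX hX2
  have hXg : ∀ g x, X (T.σ g x) = T.σ g (X x) := fun g x =>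
    (MulEquiv.congr_fun (hfix g) x).symm
  have hip : ∀ g, ∀ x ∈ fixd X, T.σ g x ∈ fixd X := fun g x hx => by
    rw [mem_fixd] at hx ⊢; rw [hXg, hx]
  have him : ∀ g, ∀ x ∈ neg X, T.σ g x ∈ neg X := fun g x hx => by
    rw [HHTwo.mem_neg'] at hx ⊢; rw [hXg, hx, map_inv]
  obtain ⟨Tp, hpσ, hpA, hpc⟩ := (T.res _ hp hip).exists_inner hG
  have hrmA : ∀ g, Tp.r g⁻¹ * T.r g ∈ (S.res (neg X) hm).A := fun g =>
    S.mem_res_of_commute hm (S.orth_neg hq2 hM hX hX2)
      (mul_mem (S.res_A_le _ hp (hpA _)) (hA g)) (fun a ha => (hpc g ⟨a, ha⟩).symm)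
  have hpm : ∀ a ∈ neg X, ∀ g, Commute (S.e a) (Tp.r g) := fun a ha g =>
    S.commute_res hp (fun a ha x hx => (S.orth hX ha hx).1) (hpA g) a ha
  have hcom : ∀ g h, Commute (Tp.r g) (Tp.r h⁻¹ * T.r h) := fun g h =>
    S.commute_of_mem_res hp (hpA g) (fun a ha => (hpc h ⟨a, ha⟩).symm)
  let rm : G →* Module.End K V :=
    { toFun := fun g => Tp.r g⁻¹ * T.r g
      map_one' := by rw [inv_one, map_one, map_one, mul_one]
      map_mul' := fun g h => by
        rw [mul_inv_rev, map_mul, map_mul, mul_assoc (Tp.r h⁻¹), ← mul_assoc (Tp.r g⁻¹),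
          ← mul_assoc (Tp.r h⁻¹), (hcom h⁻¹ g).eq]
        simp only [mul_assoc] }
  let σm : G →* MulAut (neg X) := (T.res _ hm him).σ
  refine ⟨Tp, ⟨rm, σm, fun g a => ?_⟩, fun g x => by rw [hpσ]; rfl, fun g x => rfl, hpA, hrmA,
    hcom, fun g => ?_⟩
  · obtain ⟨c, hc⟩ := T.intw g (a : M)
    refine ⟨c, ?_⟩
    show Tp.r g⁻¹ * T.r g * S.e a = c • (S.e (T.σ g a) * (Tp.r g⁻¹ * T.r g))
    rw [mul_assoc, hc, mul_smul_comm, ← mul_assoc, ← (hpm _ (him g a a.2) g⁻¹).eq, mul_assoc]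
  · show T.r g = Tp.r g * (Tp.r g⁻¹ * T.r g)
    rw [← mul_assoc, Tp.r_inv, one_mul]

set_option maxSynthPendingDepth 4 in
set_option maxHeartbeats 1000000 in
/-- A top of length `m + 1` gives one of length `m` on a half. -/
theorem half (hG : IsPGroup 2 G) (hA : ∀ g, T.r g ∈ S.A) (hq2 : Odd q) (hM : ∀ v : M, v ^ q = 1)
    {m : ℕ} {a : G} (htop : T.Top (m + 1) a) {X : MulAut M}
    (hX : ∀ a b, S.χ (X a) (X b) = S.χ a b) (hX2 : ∀ v, X (X v) = v) {G0 : Subgroup G}
    (hN : commutator G ≤ G0) {Tp : Act (S.res (fixd X) (S.nd_fixd hq2 hM hX hX2)) G0}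
    {Tm : Act (S.res (neg X) (S.nd_neg hq2 hM hX hX2)) G0}
    (hpσ : ∀ g (x : fixd X), ((Tp.σ g x : fixd X) : M) = T.σ g x)
    (hmσ : ∀ g (x : neg X), ((Tm.σ g x : neg X) : M) = T.σ g x)
    (hpA : ∀ g, Tp.r g ∈ (S.res (fixd X) (S.nd_fixd hq2 hM hX hX2)).A)
    (hmA : ∀ g, Tm.r g ∈ (S.res (neg X) (S.nd_neg hq2 hM hX hX2)).A)
    (hpm : ∀ g h, Commute (Tp.r g) (Tm.r h))
    (hprod : ∀ g : G0, T.r g = Tp.r g * Tm.r g) {t : G}
    (ht1 : ∀ x ∈ fixd X, T.σ t x ∈ neg X) (ht2 : ∀ x ∈ neg X, T.σ t x ∈ fixd X)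
    (haN : a ∈ commutator G) :
    (Tp.comp (Subgroup.inclusion hN)).Top m ⟨a, haN⟩ := by
  classical
  haveI := Fact.mk Nat.prime_two
  have hp := S.nd_fixd hq2 hM hX hX2
  have hm := S.nd_neg hq2 hM hX hX2
  have hG0 : IsPGroup 2 G0 := hG.to_subgroup G0
  have hAp : (S.res (fixd X) hp).A ≤ S.A := S.res_A_le _ hp
  have hAm : (S.res (neg X) hm).A ≤ S.A := S.res_A_le _ hm
  set a0 : G0 := ⟨a, hN haN⟩ with ha0
  have hsq0 : ∀ x : M, T.σ a (T.σ a x) = x := fun x => by rw [htop.neg, htop.neg, inv_inv]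
  have hpneg : ∀ x, Tp.σ a0 x = x⁻¹ := fun x => Subtype.ext (by
    rw [hpσ, Subgroup.coe_inv]; exact htop.neg _)
  have hmneg : ∀ x, Tm.σ a0 x = x⁻¹ := fun x => Subtype.ext (by
    rw [hmσ, Subgroup.coe_inv]; exact htop.neg _)
  set p := Tp.r a0 with hpdef
  set u := Tm.r a0 with hudef
  have hpp : p * p = 1 := by
    rw [hpdef, ← map_mul]; exact Tp.r_eq_one hG0 (hpA _) (by rw [map_mul, Tp.σ_sq hpneg])
  have huu : u * u = 1 := by
    rw [hudef, ← map_mul]; exact Tm.r_eq_one hG0 (hmA _) (by rw [map_mul, Tm.σ_sq hmneg])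
  have hpg : ∀ g, Commute (Tp.r g) p := fun g => by
    show _ * _ = _ * _
    rw [hpdef, ← map_mul, ← map_mul]
    exact Tp.r_eq hG0 hpA (by rw [map_mul, map_mul, Tp.σ_comm hpneg])
  have hug : ∀ g, Commute (Tm.r g) u := fun g => by
    show _ * _ = _ * _
    rw [hudef, ← map_mul, ← map_mul]
    exact Tm.r_eq hG0 hmA (by rw [map_mul, map_mul, Tm.σ_comm hmneg])
  set Zp := p - 1 with hZp
  set Zm := u - 1 with hZm
  have hZmA : Zm ∈ (S.res (neg X) hm).A := sub_mem (hmA _) (one_mem _)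
  have hZpA : Zp ∈ (S.res (fixd X) hp).A := sub_mem (hpA _) (one_mem _)
  have hZmZm : Zm * Zm = 0 := by
    rw [hZm, sub_mul, mul_sub, huu, mul_one, one_mul, sub_sub_eq_add_sub, sub_add_eq_add_sub]
    rw [end_sub, end_sub, end_add_self (1 : Module.End K V), zero_add, end_add_self]
  have hcp : ∀ Y ∈ (S.res (fixd X) hp).A, ∀ W ∈ (S.res (neg X) hm).A, Commute Y W := fun Y hY W hW =>
    S.commute_of_mem_res hp hY (fun x hx =>
      S.commute_res hm (fun x hx y hy => (S.orth hX hy hx).2) hW x hx)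
  -- the element exchanging the factors
  have hγe : ∀ {L : Subgroup M} (hL : ∀ w ∈ L, w ≠ 1 → ∃ b ∈ L, S.χ b w ≠ 1) {L' : Subgroup M}
      (hL' : ∀ w ∈ L', w ≠ 1 → ∃ b ∈ L', S.χ b w ≠ 1), (∀ x ∈ L, T.σ t x ∈ L') →
      ∀ Y ∈ (S.res L hL).A, T.γ t Y ∈ (S.res L' hL').A := by
    intro L hL L' hL' hmap Y hY
    induction (S.res L hL).mem_A.1 hY using Submodule.span_induction with
    | mem y hy =>
      obtain ⟨x, rfl⟩ := hy
      obtain ⟨c, hc, -⟩ := T.γ_e t (x : M)
      show T.γ t (S.e x) ∈ _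
      rw [hc]
      exact (S.res L' hL').A.smul_mem ((S.res L' hL').e_mem ⟨_, hmap x x.2⟩) c
    | zero => rw [map_zero]; exact zero_mem _
    | add x y hx hy h1 h2 => rw [map_add]; exact add_mem (h1 hx) (h2 hy)
    | smul c x hx h1 => rw [map_smul]; exact (S.res L' hL').A.smul_mem (h1 hx) c
  have hswap : T.γ t u = p := by
    have hY := hγe hm hp ht2 u (hmA _)
    have hX' := hγe hp hm ht1 p (hpA _)
    have hcomt : T.r t * T.r a = T.r a * T.r t := by
      rw [← map_mul, ← map_mul]; exact T.r_eq hG hA (by rw [map_mul, map_mul, T.σ_comm htop.neg])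
    have heq : T.γ t u * T.γ t p = p * u := by
      rw [← T.γ_mul, ← (hpm a0 a0).eq, ← hprod a0, γ_apply,
        show T.r t * T.r ((a0 : G0) : G) = T.r ((a0 : G0) : G) * T.r t from hcomt, mul_assoc, T.r_inv,
        mul_one]
    have hpp' : T.γ t p * T.γ t p = 1 := by rw [← T.γ_mul, hpp, γ_apply, mul_one, T.r_inv]
    have hD : p * T.γ t u = u * T.γ t p := by
      calc p * T.γ t u = p * (T.γ t u * T.γ t p) * T.γ t p := by
            rw [mul_assoc, mul_assoc (T.γ t u), hpp', mul_one]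
        _ = _ := by rw [heq, ← mul_assoc p, hpp, one_mul]
    obtain ⟨c, hc⟩ := (S.res (fixd X) hp).smul_of_cen (mul_mem (hpA a0) hY) fun x => by
      rw [hD]
      exact (hcp _ ((S.res (fixd X) hp).e_mem x) _ (mul_mem (hmA a0) hX'))
    have h2 : T.γ t u = c • p := by
      calc T.γ t u = p * (p * T.γ t u) := by rw [← mul_assoc, hpp, one_mul]
        _ = _ := by rw [hc, mul_smul_comm, mul_one]
    have h3 : T.γ t u * T.γ t u = 1 := by rw [← T.γ_mul, huu, γ_apply, mul_one, T.r_inv]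
    rw [h2, smul_mul_smul_comm, hpp, ← sq] at h3
    rw [h2, eq_one_of_two_pow (k := 1) (Tw.smul_cancel isUnit_one
      (show c ^ 2 ^ 1 • (1 : Module.End K V) = (1 : K) • 1 by rw [pow_one, one_smul]; exact h3)), one_smul]
  -- the vector fixed modulo the image
  obtain ⟨R, hRA, hZR, hRne, hRfix⟩ : ∃ R ∈ (S.res (neg X) hm).A, Zm * R = 0 ∧ (∀ W ∈ (S.res (neg X) hm).A, R ≠ Zm * W) ∧
      ∀ b : G0, ∃ W ∈ (S.res (neg X) hm).A, Tm.r b * R - R = Zm * W := by
    let A' : Submodule K (Module.End K V) := Submodule.span K (Set.range (S.res (neg X) hm).e)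
    let f : A' →ₗ[K] A' := (LinearMap.mulLeft K Zm).restrict fun W hW =>
      (mul_mem hZmA (show W ∈ (S.res (neg X) hm).A from hW) : Zm * W ∈ (S.res (neg X) hm).A)
    have hle : LinearMap.range f ≤ LinearMap.ker f := by
      rintro _ ⟨W, rfl⟩
      apply Subtype.ext
      show Zm * (Zm * (W : Module.End K V)) = 0
      rw [← mul_assoc, hZmZm, zero_mul]
    let J : Submodule K (LinearMap.ker f) := (LinearMap.range f).comap (LinearMap.ker f).subtype
    have hne : J ≠ ⊤ := by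
      intro h
      have heq : LinearMap.range f = LinearMap.ker f :=
        le_antisymm hle fun x hx => (h.ge (Submodule.mem_top : (⟨x, hx⟩ : LinearMap.ker f) ∈ ⊤))
      have h1 := LinearMap.finrank_range_add_finrank_ker f
      rw [← heq, ← two_mul] at h1
      have hodd : Odd (Nat.card (neg X)) := by
        refine Nat.odd_iff.2 (Nat.mod_two_ne_zero.1 fun h0 => ?_)
        refine (S.res (neg X) hm).card_ne ?_
        rw [CharP.cast_eq_zero_iff K 2]
        exact Nat.dvd_of_mod_eq_zero h0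
      have h2 : Module.finrank K A' = Nat.card (neg X) :=
        (S.res (neg X) hm).finrank_A
      rw [h2] at h1
      exact Nat.not_even_iff_odd.2 hodd ⟨_, by rw [← h1, two_mul]⟩
    haveI : Nontrivial (LinearMap.ker f ⧸ J) := Submodule.Quotient.nontrivial_iff.2 hne
    let L : G0 → (LinearMap.ker f →ₗ[K] LinearMap.ker f) := fun b =>
      ((LinearMap.mulLeft K (Tm.r b)).restrict fun W hW =>
        (mul_mem (hmA b) (show W ∈ (S.res (neg X) hm).A from hW) :
          Tm.r b * W ∈ (S.res (neg X) hm).A) : A' →ₗ[K] A').restrict fun x hx => by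
        rw [LinearMap.mem_ker] at hx ⊢
        apply Subtype.ext
        show Zm * (Tm.r b * (x : Module.End K V)) = 0
        have hxv : Zm * (x : Module.End K V) = 0 := congrArg Subtype.val hx
        rw [← mul_assoc, show Zm * Tm.r b = Tm.r b * Zm by
          rw [hZm, sub_mul, mul_sub, (hug b).eq, one_mul, mul_one], mul_assoc, hxv, mul_zero]
    have hJ : ∀ b, J ≤ J.comap (L b) := by
      rintro b x ⟨W, hW⟩
      refine ⟨⟨Tm.r b * (W : Module.End K V), (mul_mem (hmA b) (show (W : Module.End K V) ∈ (S.res (neg X) hm).A from W.2) : _ ∈ (S.res (neg X) hm).A)⟩, ?_⟩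
      apply Subtype.ext
      have hW' : Zm * (W : Module.End K V) = ((x : A') : Module.End K V) := congrArg Subtype.val hW
      show Zm * (Tm.r b * (W : Module.End K V)) = Tm.r b * ((x : A') : Module.End K V)
      rw [← hW', ← mul_assoc, ← mul_assoc, show Zm * Tm.r b = Tm.r b * Zm by
          rw [hZm, sub_mul, mul_sub, (hug b).eq, one_mul, mul_one]]
    let ρ : Representation K G0 (LinearMap.ker f ⧸ J) :=
      { toFun := fun b => J.mapQ J (L b) (hJ b)
        map_one' := LinearMap.ext fun x => by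
          obtain ⟨x, rfl⟩ := Submodule.Quotient.mk_surjective J x
          refine congrArg (Submodule.Quotient.mk) (Subtype.ext (Subtype.ext ?_))
          show Tm.r 1 * _ = _
          rw [map_one, one_mul]
          rfl
        map_mul' := fun b c => LinearMap.ext fun x => by
          obtain ⟨x, rfl⟩ := Submodule.Quotient.mk_surjective J x
          refine congrArg (Submodule.Quotient.mk) (Subtype.ext (Subtype.ext ?_))
          show Tm.r (b * c) * _ = Tm.r b * (Tm.r c * _)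
          rw [map_mul, mul_assoc] }
    obtain ⟨x, hx⟩ := exists_ne (0 : LinearMap.ker f ⧸ J)
    obtain ⟨w, hw, hfix⟩ := CfsgLib.Blocks.exists_fixed_ne_zero (p := 2) hG0 ρ hx
    obtain ⟨R, rfl⟩ := Submodule.Quotient.mk_surjective J w
    refine ⟨((R : A') : Module.End K V), (R : A').2, congrArg Subtype.val R.2,
      fun W hW h => hw ((Submodule.Quotient.mk_eq_zero J).2 ⟨⟨W, hW⟩, Subtype.ext h.symm⟩), fun b => ?_⟩
    have h1 : L b R - R ∈ J := (Submodule.Quotient.eq J).1 (hfix b)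
    obtain ⟨W, hW⟩ := h1
    exact ⟨(W : Module.End K V), W.2, (congrArg Subtype.val hW).symm⟩
  -- multiples of `Zm`
  let Jp : Module.End K V → Prop := fun Y => ∃ W ∈ S.A, Y = Zm * W
  have hJadd : ∀ {Y Y'}, Jp Y → Jp Y' → Jp (Y + Y') := fun ⟨W, hW, e⟩ ⟨W', hW', e'⟩ =>
    ⟨W + W', add_mem hW hW', by rw [e, e', mul_add]⟩
  have hJl : ∀ {Y B}, B ∈ S.A → Commute B Zm → Jp Y → Jp (B * Y) := fun hB hBc ⟨W, hW, e⟩ =>
    ⟨_ * W, mul_mem hB hW, by rw [e, ← mul_assoc, hBc.eq, mul_assoc]⟩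
  have hJr : ∀ {Y B}, B ∈ S.A → Jp Y → Jp (Y * B) := fun hB ⟨W, hW, e⟩ =>
    ⟨W * _, mul_mem hW hB, by rw [e, mul_assoc]⟩
  refine ⟨?_, fun x => hpneg x, fun g hg => ?_⟩
  · have h1 := htop.mem
    rw [show m + 1 = 1 + m by omega, ← dser_add, show dser (⊤ : Subgroup G) 1 = commutator G from rfl,
      ← map_subtype_dser_top] at h1
    obtain ⟨a', ha', he⟩ := h1
    rwa [show (⟨a, haN⟩ : commutator G) = a' from Subtype.ext he.symm]
  set ι := Subgroup.inclusion hN with hι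
  set Qp := chain (Tp.r.comp ι) g m with hQp
  -- the sequence in `G`
  set gs : ℕ → G := fun i => (g i : G) with hgs
  set g' : ℕ → G := fun i => Nat.casesOn i t gs with hg'
  have hvan := htop.vanish g' (fun i hi => by
    rcases i with _ | i
    · exact Subgroup.mem_top t
    · show (g i : G) ∈ dser ⊤ (i + 1)
      rw [show i + 1 = 1 + i by omega, ← dser_add, show dser (⊤ : Subgroup G) 1 = commutator G from rfl,
        ← map_subtype_dser_top]
      exact ⟨g i, hg i (by omega), rfl⟩)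
  rw [chain_succ'] at hvan
  change (T.r a - 1) * (chain T.r gs m * (T.r t - 1)) = 0 at hvan
  set Q := chain T.r gs m with hQ
  have hQk : ∀ k, chain T.r gs k ∈ S.A ∧ chain (Tp.r.comp ι) g k ∈ (S.res (fixd X) hp).A ∧
      Commute (chain T.r gs k) Zp ∧ Commute (chain T.r gs k) u ∧
      Commute (chain (Tp.r.comp ι) g k) Zp ∧
      Jp (chain T.r gs k * R - chain (Tp.r.comp ι) g k * R) := by
    intro k
    induction k with
    | zero => exact ⟨one_mem _, one_mem _, Commute.one_left _, Commute.one_left _, Commute.one_left _,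
        0, zero_mem _, by simp [chain]⟩
    | succ k ih =>
      obtain ⟨h1, h2, h3, h4, h5, h6⟩ := ih
      set b := ι (g k) with hb
      have hrb : T.r (gs k) = Tp.r b * Tm.r b := hprod b
      have hcZp : Commute (Tm.r b) Zp := (hpm a0 b).symm.sub_right (Commute.one_right _)
      have hbZp : Commute (Tp.r b) Zp := (hpg b).sub_right (Commute.one_right _)
      have hbu : Commute (T.r (gs k)) u := by rw [hrb]; exact (hpm b a0).mul_left (hug b)
      refine ⟨mul_mem (sub_mem (hA _) (one_mem _)) h1, mul_mem (sub_mem (hpA b) (one_mem _)) h2, ?_,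
        ((hbu.sub_left (Commute.one_left _))).mul_left h4,
        (hbZp.sub_left (Commute.one_left _)).mul_left h5, ?_⟩
      · exact ((show Commute (T.r (gs k)) Zp by rw [hrb]; exact hbZp.mul_left hcZp).sub_left
          (Commute.one_left _)).mul_left h3
      · obtain ⟨W, hW, hWe⟩ := hRfix b
        have e : chain T.r gs (k + 1) * R - chain (Tp.r.comp ι) g (k + 1) * R =
            (T.r (gs k) - 1) * (chain T.r gs k * R - chain (Tp.r.comp ι) g k * R) +
              Tp.r b * chain (Tp.r.comp ι) g k * (Tm.r b * R - R) := by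
          show (T.r (gs k) - 1) * chain T.r gs k * R -
            (Tp.r b - 1) * chain (Tp.r.comp ι) g k * R = _
          rw [hrb, mul_sub (Tp.r b * chain (Tp.r.comp ι) g k), ← mul_assoc _ (Tm.r b) R,
            show Tp.r b * chain (Tp.r.comp ι) g k * Tm.r b = Tp.r b * Tm.r b * chain (Tp.r.comp ι) g k by
              rw [mul_assoc, (hcp _ h2 _ (hmA b)).eq, mul_assoc]]
          noncomm_ring
        rw [e]
        refine hJadd (hJl (sub_mem (hA _) (one_mem _))
          ((hbu.sub_left (Commute.one_left _)).sub_right (Commute.one_right _)) h6) ?_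
        exact hJl (mul_mem (hAp (hpA b)) (hAp h2))
          (hcp _ (mul_mem (hpA b) h2) _ hZmA) ⟨W, hAm hW, hWe⟩
  obtain ⟨hQA, hQpA, hQZp, hQu, hQpZp, hQR⟩ := hQk m
  have hZeq : T.r a - 1 = Zp * u + Zm := by
    rw [show T.r a = p * u from hprod a0, hZp, hZm]; noncomm_ring
  set R' := T.γ t R with hR'
  have hR'A : R' ∈ S.A := T.γ_mem t (hAm hRA)
  have hZpR' : Zp * R' = 0 := by
    have h1 : T.γ t (Zm * R) = 0 := by rw [hZR, map_zero]
    rwa [T.γ_mul, hZm, map_sub, hswap, T.γ_apply t (1 : Module.End K V), mul_one, T.r_inv] at h1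
  have h1 : Jp ((T.r a - 1) * (Q * R')) := by
    rw [hZeq, add_mul]
    refine hJadd ⟨0, zero_mem _, ?_⟩ ⟨Q * R', mul_mem hQA hR'A, rfl⟩
    rw [mul_zero, mul_assoc, ← mul_assoc u, ← hQu.eq, mul_assoc, ← mul_assoc Zp, ← hQZp.eq,
      mul_assoc, ← mul_assoc Zp, show Zp * u = u * Zp from (hcp _ hZpA _ (hmA a0)).eq, mul_assoc,
      hZpR', mul_zero, mul_zero]
  have h2 : Jp ((T.r a - 1) * (Q * R)) := by
    have e : (T.r a - 1) * (Q * R) = (T.r a - 1) * (Q * R') * T.r t := by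
      have h3 : (T.r a - 1) * (Q * (T.r t - 1)) * R = 0 := by rw [hvan, zero_mul]
      have hRt : R' * T.r t = T.r t * R := by rw [hR', γ_apply, mul_assoc, T.r_inv', mul_one]
      rw [mul_assoc (T.r a - 1) (Q * R') (T.r t), mul_assoc Q R', hRt]
      refine eq_of_sub_eq_zero ?_
      rw [← neg_inj, neg_zero, ← h3]
      noncomm_ring
    rw [e]
    exact hJr (hA t) h1
  have h3 : Jp (Zp * Qp * R) := by
    have e : Zp * Qp * R = (T.r a - 1) * (Q * R) + (Zm * (Q * R) +
        (Zp * u * (Q * R - Qp * R) + Zm * (Zp * (Qp * R)))) := by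
      have hu1 : u = 1 + Zm := by rw [hZm]; abel
      have hcomQ : Zm * (Zp * (Qp * R)) + Zp * u * (Qp * R) = Zp * Qp * R + (Zm * (Zp * (Qp * R)) +
          Zm * (Zp * (Qp * R))) := by
        rw [show Zp * u = u * Zp from (hcp _ hZpA _ (hmA a0)).eq, hu1]
        noncomm_ring
      rw [end_add_self, add_zero] at hcomQ
      rw [hZeq, ← hcomQ]
      calc _ = Zm * (Zp * (Qp * R)) + Zp * u * (Qp * R) + (Zp * u * (Q * R) + Zp * u * (Q * R)) +
            (Zm * (Q * R) + Zm * (Q * R)) - (Zp * u * (Qp * R) + Zp * u * (Qp * R)) := by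
              simp only [end_add_self, add_zero, sub_zero]
        _ = _ := by noncomm_ring
    rw [e]
    refine hJadd h2 (hJadd ⟨_, mul_mem hQA (hAm hRA), rfl⟩ (hJadd (hJl (mul_mem (hAp hZpA) (hAm (hmA a0)))
      ((hcp _ hZpA _ hZmA).mul_left ((Commute.refl u).sub_right (Commute.one_right _))) hQR)
      ⟨_, mul_mem (hAp hZpA) (mul_mem (hAp hQpA) (hAm hRA)), rfl⟩))
  -- the coefficient
  show (Tp.r a0 - 1) * Qp = 0
  set Y := Zp * Qp with hY
  have hYA : Y ∈ (S.res (fixd X) hp).A := mul_mem hZpA hQpA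
  obtain ⟨W, hW, hWe⟩ := h3
  haveI := Fintype.ofFinite (fixd X)
  rw [← (S.res (fixd X) hp).sum_P Y]
  refine Finset.sum_eq_zero fun x _ => ?_
  by_contra hne
  obtain ⟨c, hc⟩ := (S.res (fixd X) hp).P_mem (x := x) hYA
  have hc0 : c ≠ 0 := fun h => hne (by rw [hc, h, zero_smul])
  have hcR : ∀ a, Commute ((S.res (fixd X) hp).e a) R := fun a => hcp _ ((S.res (fixd X) hp).e_mem a) _ hRA
  have hcZ : ∀ a, Commute ((S.res (fixd X) hp).e a) Zm := fun a => hcp _ ((S.res (fixd X) hp).e_mem a) _ hZmA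
  have h4 := congrArg ((S.res (fixd X) hp).P x) hWe
  rw [(S.res (fixd X) hp).P_left x hcR, (S.res (fixd X) hp).P_right x hcZ, hc] at h4
  have h5 : R = Zm * (c⁻¹ • ((S.res (fixd X) hp).ei x * (S.res (fixd X) hp).P x W)) := by
    rw [mul_smul_comm, ← mul_assoc, ← (hcp _ ((S.res (fixd X) hp).ei_mem x) _ hZmA).eq, mul_assoc, ← h4, smul_mul_assoc,
      mul_smul_comm, smul_smul, inv_mul_cancel₀ hc0, one_smul, ← mul_assoc, (S.res (fixd X) hp).ei_e, one_mul]
  set W2 := c⁻¹ • ((S.res (fixd X) hp).ei x * (S.res (fixd X) hp).P x W) with hW2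
  have hW2A : W2 ∈ S.A := S.A.smul_mem (mul_mem (hAp ((S.res (fixd X) hp).ei_mem x)) (S.P_res_mem hp x hW)) _
  have h6 := congrArg ((S.res (fixd X) hp).P 1) h5
  rw [(S.res (fixd X) hp).P_of_eigen (y := 1) (fun b => by rw [(S.res (fixd X) hp).cj_eq_self (hcR b), (S.res (fixd X) hp).χ_one_right, one_smul]),
    if_pos rfl, (S.res (fixd X) hp).P_right 1 hcZ] at h6
  refine hRne _ (S.mem_res_of_commute hm (S.orth_neg hq2 hM hX hX2) (S.P_res_mem hp 1 hW2A) ?_) h6
  intro b hb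
  have h7 := (S.res (fixd X) hp).commute_of_cj (a := ⟨b, hb⟩) (T := (S.res (fixd X) hp).P 1 W2) (by
    rw [(S.res (fixd X) hp).cj_P, (S.res (fixd X) hp).χ_one_right, one_smul])
  exact h7

end Act

end CfsgLib.Core.HHTwoDerived
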