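import Mathlib
import Cfsg.Agent.Lib.Core.HHCritical.TwoDerived.Half
import Cfsg.Agent.Lib.Core.HHCritical.TwoTops.ExcPlane
import Cfsg.Agent.Lib.Core.Nilpotent
import Cfsg.Agent.Lib.PGroups.MaxAbelian

/-!
# No tops of length two or more

* `card_le_eight`: isometric `2`-groups of a plane of order `9`
* `exists_special_involution`: a noncentral involution commuting up to the central involution
* `Act.not_top`: no top of length `m ≥ 2`
-/

set_option autoImplicit false
set_option linter.all false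

namespace CfsgLib.Core.HHTwoDerived

open Finset CfsgLib.Core.HHTwo
open scoped commutatorElement

theorem mulAut_comm_of_isCyclic {C : Type*} [Group C] [IsCyclic C] (f g : MulAut C) : f * g = g * f := by
  obtain ⟨x, hx⟩ := IsCyclic.exists_generator (α := C)
  obtain ⟨i, hi⟩ := Subgroup.mem_zpowers_iff.1 (hx (f x))
  obtain ⟨j, hj⟩ := Subgroup.mem_zpowers_iff.1 (hx (g x))
  refine MulEquiv.ext fun y => ?_
  obtain ⟨k, rfl⟩ := Subgroup.mem_zpowers_iff.1 (hx y)
  simp only [MulAut.mul_apply, map_zpow, ← hi, ← hj]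
  rw [← zpow_mul x i j, ← zpow_mul x j i, mul_comm i j]

/-- Only the central involutions `1, z`, and `z ∈ H''`: a further involution. -/
theorem exists_special_involution {H : Type*} [Group H] [Finite H] (hH : IsPGroup 2 H) {z : H}
    (hzc : ∀ g, g * z = z * g) (hz2 : z * z = 1) (hz : z ∈ dser (⊤ : Subgroup H) 2) (hz1 : z ≠ 1)
    (huniq : ∀ y : H, (∀ g, g * y = y * g) → y * y = 1 → y = 1 ∨ y = z) :
    ∃ x : H, x * x = 1 ∧ x ≠ 1 ∧ x ≠ z ∧ (∀ g, g * x * g⁻¹ = x ∨ g * x * g⁻¹ = z * x) ∧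
      ∃ t, t * x * t⁻¹ = z * x := by
  classical
  haveI := Fact.mk Nat.prime_two
  obtain ⟨A, -, hAn, hAc, hAC⟩ := CfsgLib.PGroups.exists_selfCentralizing hH (A₀ := ⊥)
    inferInstance inferInstance
  haveI := hAn
  haveI := hAc
  by_cases hcyc : IsCyclic A
  · exfalso
    let c : H →* MulAut A := MulAut.conjNormal
    have hker : ∀ g, c g = 1 → g ∈ A := by
      intro g hg
      rw [← hAC, Subgroup.mem_centralizer_iff]
      intro y hy
      have h1 : c g ⟨y, hy⟩ = ⟨y, hy⟩ := by rw [hg]; rfl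
      have h2 := congrArg Subtype.val h1
      rw [MulAut.conjNormal_apply] at h2
      exact ((mul_inv_eq_iff_eq_mul).1 h2).symm
    have h1 : dser (⊤ : Subgroup H) 1 ≤ A := Subgroup.commutator_le.2 fun g _ k _ => hker _ (by
      rw [map_commutatorElement]
      exact commutatorElement_eq_one_iff_mul_comm.2 (mulAut_comm_of_isCyclic _ _))
    have h2 : dser (⊤ : Subgroup H) 2 ≤ ⊥ := by
      refine Subgroup.commutator_le.2 fun g hg k hk => ?_
      rw [Subgroup.mem_bot]
      exact commutatorElement_eq_one_iff_mul_comm.2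
        (congrArg Subtype.val (mul_comm' (⟨g, h1 hg⟩ : A) ⟨k, h1 hk⟩))
    exact hz1 (Subgroup.mem_bot.1 (h2 hz))
  obtain ⟨p, hp, E, hEA, hEp, hEcard⟩ := CfsgLib.Core.exists_elementary_of_not_isCyclic A hcyc
  obtain ⟨e, he, he1⟩ : ∃ e ∈ E, e ≠ 1 := by
    by_contra hno
    push Not at hno
    have : Nat.card E = 1 := by
      rw [Subgroup.card_eq_one, Subgroup.eq_bot_iff_forall]; exact hno
    rw [this] at hEcard
    nlinarith [hp.two_le]
  obtain rfl : p = 2 := by
    haveI := Fact.mk hp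
    obtain ⟨i, hi⟩ := IsPGroup.iff_orderOf.mp hH e
    rw [orderOf_eq_prime (hEp e he) he1] at hi
    exact (Nat.prime_dvd_prime_iff_eq hp Nat.prime_two).1 (hp.dvd_of_dvd_pow (dvd_of_eq hi))
  let Ω : Subgroup H :=
    { carrier := {x | x ∈ A ∧ x * x = 1}
      one_mem' := ⟨one_mem A, one_mul 1⟩
      mul_mem' := fun {x y} hx hy => ⟨mul_mem hx.1 hy.1, by
        have hc : x * y = y * x := congrArg Subtype.val (mul_comm' (⟨x, hx.1⟩ : A) ⟨y, hy.1⟩)
        calc x * y * (x * y) = x * y * (y * x) := by rw [← hc]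
          _ = x * (y * y) * x := by group
          _ = 1 := by rw [hy.2, mul_one, hx.2]⟩
      inv_mem' := fun {x} hx => ⟨inv_mem hx.1, by rw [← mul_inv_rev, hx.2, inv_one]⟩ }
  haveI : Ω.Normal := ⟨fun x hx g => ⟨hAn.conj_mem x hx.1 g, by
    rw [show g * x * g⁻¹ * (g * x * g⁻¹) = g * (x * x) * g⁻¹ by group, hx.2, mul_one,
      mul_inv_cancel]⟩⟩
  set Zs := Subgroup.zpowers z with hZs
  haveI : Zs.Normal := ⟨fun x hx g => by
    obtain ⟨i, rfl⟩ := Subgroup.mem_zpowers_iff.1 hx
    rw [((show Commute g z from hzc g).zpow_right i).eq, mul_inv_cancel_right]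
    exact hx⟩
  have hmem : ∀ x ∈ Zs, x = 1 ∨ x = z := by
    intro x hx
    obtain ⟨i, rfl⟩ := Subgroup.mem_zpowers_iff.1 hx
    rcases Int.even_or_odd' i with ⟨j, rfl | rfl⟩
    · left; rw [zpow_mul, zpow_two, hz2, one_zpow]
    · right; rw [zpow_add, zpow_mul, zpow_two, hz2, one_zpow, one_mul, zpow_one]
  set π := QuotientGroup.mk' Zs with hπ
  haveI : (Ω.map π).Normal := Subgroup.Normal.map inferInstance _ (QuotientGroup.mk'_surjective _)
  have hne : Ω.map π ≠ ⊥ := by
    intro h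
    rw [Subgroup.map_eq_bot_iff, QuotientGroup.ker_mk'] at h
    have hEZ : E ≤ Zs := fun x hx => h ⟨hEA hx, by rw [← sq]; exact hEp x hx⟩
    have h1 := (hEcard.trans (Subgroup.card_le_of_le hEZ))
    rw [hZs, Nat.card_zpowers, orderOf_eq_prime (by rw [sq]; exact hz2) hz1] at h1
    norm_num at h1
  obtain ⟨⟨w, hw⟩, hw1⟩ := Subgroup.ne_bot_iff_exists_ne_one.1
    (CfsgLib.PGroups.inf_center_ne_bot (hH.to_quotient Zs) hne)
  obtain ⟨⟨x, hxΩ, rfl⟩, hwc⟩ := Subgroup.mem_inf.1 hw
  have hxZ : x ∉ Zs := fun h => hw1 (Subtype.ext ((QuotientGroup.eq_one_iff x).2 h))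
  have hdich : ∀ g, g * x * g⁻¹ = x ∨ g * x * g⁻¹ = z * x := by
    intro g
    have h : g * x * g⁻¹ * x⁻¹ ∈ Zs := by
      rw [← QuotientGroup.eq_one_iff, QuotientGroup.mk_mul, QuotientGroup.mk_mul, QuotientGroup.mk_mul,
        QuotientGroup.mk_inv, QuotientGroup.mk_inv]
      show π g * π x * (π g)⁻¹ * (π x)⁻¹ = 1
      rw [Subgroup.mem_center_iff.1 hwc (π g), mul_inv_cancel_right, mul_inv_cancel]
    rcases hmem _ h with h1 | h1
    · exact Or.inl (mul_inv_eq_one.1 h1)
    · exact Or.inr (mul_inv_eq_iff_eq_mul.1 h1)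
  have hx1 : x ≠ 1 := fun h => hxZ (h ▸ one_mem Zs)
  have hxz : x ≠ z := fun h => hxZ (h ▸ Subgroup.mem_zpowers z)
  refine ⟨x, hxΩ.2, hx1, hxz, hdich, ?_⟩
  by_contra hno
  push Not at hno
  rcases huniq x (fun g => mul_inv_eq_iff_eq_mul.1 ((hdich g).resolve_right (hno g))) hxΩ.2 with h | h
  · exact hx1 h
  · exact hxz h

variable {K : Type*} [Field K] [CharP K 2] {V : Type*} [AddCommGroup V] [Module K V]
  [FiniteDimensional K V] [Nontrivial V]

/-- An isometric `2`-group of a plane of order `9` acts freely. -/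
theorem card_le_eight {M : Type*} [CommGroup M] [Finite M] (S : Tw M K V) (hM : ∀ v : M, v ^ 3 = 1)
    (hcard : Nat.card M = 9) {Hs : Subgroup (MulAut M)} (hHs : IsPGroup 2 Hs)
    (hiso : ∀ h ∈ Hs, ∀ a b, S.χ (h a) (h b) = S.χ a b) {z : MulAut M} (hzneg : ∀ x, z x = x⁻¹)
    (hz : ∀ a b, S.χ (z a) (z b) = S.χ a b) : Nat.card Hs ≤ 8 := by
  haveI := Fact.mk Nat.prime_two
  haveI := Fact.mk Nat.prime_three
  have hq2 : Odd 3 := by decide
  have hfree : ∀ h ∈ Hs, ∀ v, v ≠ 1 → h v = v → h = 1 := by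
    intro h hh v hv hfix
    by_contra hne
    obtain ⟨k, hk⟩ := hHs ⟨h, hh⟩
    have hk' : h ^ 2 ^ k = 1 := congrArg Subtype.val hk
    obtain ⟨j, -, hj⟩ := (Nat.dvd_prime_pow Nat.prime_two).1 (orderOf_dvd_of_pow_eq_one hk')
    rcases j with _ | j
    · exact hne (orderOf_eq_one_iff.1 (by rw [hj, pow_zero]))
    set y := h ^ 2 ^ j with hy
    have hy1 : y ≠ 1 := by
      intro e
      have := orderOf_dvd_of_pow_eq_one e
      rw [hj] at this
      have h2 := Nat.le_of_dvd (pow_pos two_pos _) this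
      rw [pow_succ] at h2
      have := Nat.two_pow_pos j
      omega
    have hy2 : ∀ d, y (y d) = d := fun d => by
      rw [← MulAut.mul_apply, hy, ← pow_add, ← two_mul, ← pow_succ', ← hj, pow_orderOf_eq_one]; rfl
    have htop : ∀ d, d ∈ neg z := fun d => by rw [HHTwo.mem_neg', hzneg]
    have hpz : Pairing S.χ z := ⟨S.χ_mul, S.χ_ne, S.nd, S.χ_swap, S.χ_self, hz⟩
    have hpy : Pairing S.χ y :=
      ⟨S.χ_mul, S.χ_ne, S.nd, S.χ_swap, S.χ_self, hiso _ (pow_mem hh _)⟩
    rcases neg_or_id hq2 hM hpz (fun x => by rw [hzneg, hzneg, inv_inv])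
      (by rw [show neg z = ⊤ from eq_top_iff.2 fun x _ => htop x, Subgroup.card_top, hcard]; norm_num)
      hpy (fun d _ => htop _) (fun d _ => hy2 d) with h' | h'
    · exact hy1 (MulEquiv.ext fun d => h' d (htop d))
    · have h1 := h' v (htop v)
      rw [hy, pow_apply_of_fix hfix, eq_inv_iff_mul_eq_one, ← sq] at h1
      exact hv (eq_one_of_sq hq2 hM h1)
  haveI : Nontrivial M := Finite.one_lt_card_iff_nontrivial.1 (by omega)
  obtain ⟨v, hv⟩ := exists_ne (1 : M)
  let ev : Hs → {m : M // m ≠ 1} := fun h =>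
    ⟨(h : MulAut M) v, fun e => hv ((h : MulAut M).map_eq_one_iff.1 e)⟩
  have hinj : Function.Injective ev := by
    intro h h' e
    have e' : (h : MulAut M) v = (h' : MulAut M) v := congrArg Subtype.val e
    refine Subtype.ext (inv_mul_eq_one.1 (hfree _ (mul_mem (inv_mem h'.2) h.2) v hv ?_)).symm
    rw [MulAut.mul_apply, e']
    exact (h' : MulAut M).symm_apply_apply v
  refine (Nat.card_le_card_of_injective ev hinj).trans ?_
  classical
  haveI := Fintype.ofFinite M
  rw [Nat.card_eq_fintype_card, Fintype.card_subtype_compl, Fintype.card_subtype_eq,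
    ← Nat.card_eq_fintype_card, hcard]

universe uM uG

namespace Act

variable [IsAlgClosed K]

set_option maxHeartbeats 2000000 in
theorem not_top_aux (n : ℕ) : ∀ (M : Type uM) [CommGroup M] [Finite M] (S : Tw M K V) (G : Type uG)
    [Group G] [Finite G] (T : Act S G) (q m : ℕ) (a : G), Nat.card M ≤ n → q.Prime → Odd q →
    (∀ v : M, v ^ q = 1) → Nontrivial M → IsPGroup 2 G → (∀ g, T.r g ∈ S.A) → 2 ≤ m →
    T.Top m a → False := by
  induction n with
  | zero => intro M _ _ S G _ _ T q m a h; exact absurd h (not_le.2 Nat.card_pos)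
  | succ n ih =>
  intro M _ _ S G _ _ T q m a hn hq hq2 hM hMnt hG hA hm htop
  classical
  haveI := Fact.mk Nat.prime_two
  haveI := hMnt
  have hz := htop.neg
  have hza : T.σ a ≠ 1 := by
    intro e
    obtain ⟨x, hx⟩ := exists_ne (1 : M)
    have h1 := hz x
    rw [e, MulAut.one_apply, eq_inv_iff_mul_eq_one, ← sq] at h1
    exact hx (eq_one_of_sq hq2 hM h1)
  have hlt : ∀ L : Subgroup M, L ≠ ⊤ → Nat.card L ≤ n := fun L hL => by
    have h1 : Nat.card L < Nat.card M := lt_of_le_of_ne (Subgroup.card_le_card_group L)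
      fun e => hL (Subgroup.eq_top_of_card_eq L e)
    omega
  -- central involutions
  by_cases hy : ∃ b : G, (∀ g, T.σ g * T.σ b = T.σ b * T.σ g) ∧ T.σ b * T.σ b = 1 ∧
      T.σ b ≠ 1 ∧ T.σ b ≠ T.σ a
  · obtain ⟨b, hbc, hb2, hb1, hbz⟩ := hy
    have hb2' : ∀ v, T.σ b (T.σ b v) = v := fun v => by rw [← MulAut.mul_apply, hb2]; rfl
    have hnd := S.nd_neg hq2 hM (T.isometry b) hb2'
    have hinv : ∀ g, ∀ x ∈ neg (T.σ b), T.σ g x ∈ neg (T.σ b) := fun g x hx => by
      rw [HHTwo.mem_neg'] at hx ⊢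
      rw [← MulAut.mul_apply, ← hbc, MulAut.mul_apply, hx, map_inv]
    have hne : neg (T.σ b) ≠ ⊤ := fun e => hbz (MulEquiv.ext fun v => by
      rw [hz, HHTwo.mem_neg'.1 (e.ge (Subgroup.mem_top v) : v ∈ neg (T.σ b))])
    haveI : Nontrivial (neg (T.σ b)) := by
      rw [Subgroup.nontrivial_iff_ne_bot]
      intro e
      refine hb1 (MulEquiv.ext fun v => ?_)
      obtain ⟨d, hd, c, hc, rfl⟩ := exists_split hq2 hM hb2' v
      rw [e, Subgroup.mem_bot] at hd
      rw [hd, one_mul, hc]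
      rfl
    obtain ⟨T1, -, hA1, -, h1⟩ := T.exists_top_res hG htop.mem htop.vanish hnd hinv (fun x _ => hz x)
    exact ih _ _ G T1 q m a (hlt _ hne) hq hq2 (fun v => Subtype.ext (hM v)) inferInstance hG hA1 hm h1
  push Not at hy
  -- the image
  set H := T.σ.range with hHdef
  haveI : Finite H := Finite.of_surjective _ T.σ.rangeRestrict_surjective
  have hHp : IsPGroup 2 H := hG.of_surjective _ T.σ.rangeRestrict_surjective
  set zH : H := T.σ.rangeRestrict a with hzH
  have hzH2 : zH ∈ dser (⊤ : Subgroup H) 2 := by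
    have h1 := Subgroup.mem_map_of_mem T.σ.rangeRestrict (dser_antitone _ hm htop.mem)
    rwa [map_dser, Subgroup.map_top_of_surjective _ T.σ.rangeRestrict_surjective] at h1
  obtain ⟨x, hx2, hx1, hxz, hdich, t0, ht0⟩ := exists_special_involution hHp (z := zH)
    (fun g => by
      obtain ⟨g, rfl⟩ := T.σ.rangeRestrict_surjective g
      exact Subtype.ext (T.σ_comm hz g).symm)
    (Subtype.ext (T.σ_sq hz)) hzH2 (fun e => hza (congrArg Subtype.val e))
    (fun y hyc hy2 => by
      obtain ⟨b, rfl⟩ := T.σ.rangeRestrict_surjective y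
      by_cases h1 : T.σ b = 1
      · exact Or.inl (Subtype.ext h1)
      · exact Or.inr (Subtype.ext (hy b (fun g => congrArg Subtype.val (hyc (T.σ.rangeRestrict g)))
          (congrArg Subtype.val hy2) h1)))
  obtain ⟨b0, rfl⟩ := T.σ.rangeRestrict_surjective x
  obtain ⟨t, rfl⟩ := T.σ.rangeRestrict_surjective t0
  set X := T.σ b0 with hX
  have hX2 : X * X = 1 := congrArg Subtype.val hx2
  have hX1 : X ≠ 1 := fun e => hx1 (Subtype.ext e)
  have hXz : X ≠ T.σ a := fun e => hxz (Subtype.ext e)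
  have hXd : ∀ g, T.σ g * X * (T.σ g)⁻¹ = X ∨ T.σ g * X * (T.σ g)⁻¹ = T.σ a * X := fun g =>
    (hdich (T.σ.rangeRestrict g)).imp (fun h => congrArg Subtype.val h) (fun h => congrArg Subtype.val h)
  have hXt : T.σ t * X * (T.σ t)⁻¹ = T.σ a * X := congrArg Subtype.val ht0
  have hXi : ∀ u v, S.χ (X u) (X v) = S.χ u v := T.isometry b0
  have hX2' : ∀ v, X (X v) = v := fun v => by rw [← MulAut.mul_apply, hX2]; rfl
  set z := T.σ a with hzdef
  have hzX : z * X = X * z := T.σ_comm hz b0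
  let G0 : Subgroup G :=
    { carrier := {g | T.σ g * X = X * T.σ g}
      one_mem' := by show T.σ 1 * X = X * T.σ 1; rw [map_one, one_mul, mul_one]
      mul_mem' := fun {g k} (hg : _ = _) (hk : _ = _) => by
        show T.σ (g * k) * X = X * T.σ (g * k)
        rw [map_mul, mul_assoc, hk, ← mul_assoc, hg, mul_assoc]
      inv_mem' := fun {g} (hg : _ = _) => by
        show T.σ g⁻¹ * X = X * T.σ g⁻¹
        rw [map_inv, inv_mul_eq_iff_eq_mul, ← mul_assoc, hg, mul_inv_cancel_right] }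
  have hG0 : ∀ g, g ∈ G0 ↔ T.σ g * X = X * T.σ g := fun g => Iff.rfl
  have hout : ∀ g, g ∉ G0 → T.σ g * X = z * X * T.σ g := fun g hg =>
    mul_inv_eq_iff_eq_mul.1 ((hXd g).resolve_left fun h => hg (mul_inv_eq_iff_eq_mul.1 h))
  have hsqG0 : ∀ g, g * g ∈ G0 := by
    intro g
    by_cases hg : g ∈ G0
    · exact mul_mem hg hg
    · rw [hG0, map_mul, mul_assoc, hout g hg, ← mul_assoc, ← mul_assoc, ← T.σ_comm hz g,
        mul_assoc z, hout g hg, ← mul_assoc, ← mul_assoc, T.σ_sq hz, one_mul, mul_assoc]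
  have hindex : ∀ g, g ∉ G0 → t⁻¹ * g ∈ G0 := by
    intro g hg
    have h1 := hout g hg
    have h2 : T.σ t * X = z * X * T.σ t := mul_inv_eq_iff_eq_mul.1 hXt
    rw [hG0, map_mul, map_inv, mul_assoc, h1, inv_mul_eq_iff_eq_mul, ← mul_assoc, ← mul_assoc, h2,
      mul_inv_cancel_right]
  haveI : G0.Normal := ⟨fun g hg k => by
    by_cases hk : k ∈ G0
    · exact mul_mem (mul_mem hk hg) (inv_mem hk)
    · rw [hG0] at hg ⊢
      have h2 := hout k hk
      have h3 : X * T.σ k = T.σ k * (z * X) := by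
        rw [← mul_assoc, ← T.σ_comm hz k, mul_assoc z, h2, ← mul_assoc, ← mul_assoc, T.σ_sq hz, one_mul]
      have h4 : (z * X) * (T.σ k)⁻¹ = (T.σ k)⁻¹ * X := by
        rw [eq_inv_mul_iff_mul_eq, ← mul_assoc, ← h3, mul_inv_cancel_right]
      have h5 : T.σ g * (z * X) = (z * X) * T.σ g := by
        rw [← mul_assoc, ← T.σ_comm hz g, mul_assoc, hg, ← mul_assoc]
      rw [map_mul, map_mul, map_inv]
      calc T.σ k * T.σ g * (T.σ k)⁻¹ * X = T.σ k * T.σ g * ((z * X) * (T.σ k)⁻¹) := by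
            rw [h4, ← mul_assoc]
        _ = T.σ k * ((z * X) * T.σ g) * (T.σ k)⁻¹ := by rw [← h5]; simp only [mul_assoc]
        _ = X * (T.σ k * T.σ g * (T.σ k)⁻¹) := by
            rw [← mul_assoc (T.σ k) (z * X), ← h3]; simp only [mul_assoc]⟩
  have hN : commutator G ≤ G0 := commutator_le_of_sq hsqG0
  have haN : a ∈ commutator G := commutator_def G ▸ dser_antitone _ (show 1 ≤ m by omega) htop.mem
  have hG0p : IsPGroup 2 G0 := hG.to_subgroup G0
  have hNp : IsPGroup 2 (commutator G) := hG.to_subgroup _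
  -- the halves
  have hp := S.nd_fixd hq2 hM hXi hX2'
  have hmd := S.nd_neg hq2 hM hXi hX2'
  have htzX : ∀ x, T.σ t (X x) = z (X (T.σ t x)) := fun x =>
    MulEquiv.congr_fun (mul_inv_eq_iff_eq_mul.1 hXt) x
  have ht1 : ∀ x ∈ fixd X, T.σ t x ∈ neg X := fun x hx => by
    rw [mem_fixd] at hx
    have h1 := htzX x
    rw [hx, hz] at h1
    rw [HHTwo.mem_neg']
    conv_rhs => rw [h1, inv_inv]
  have ht2 : ∀ x ∈ neg X, T.σ t x ∈ fixd X := fun x hx => by
    rw [HHTwo.mem_neg'] at hx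
    have h1 := htzX x
    rw [hx, hz, map_inv, inv_inj] at h1
    exact h1.symm
  obtain ⟨Tp, Tm, hpσ, hmσ, hpA, hmA, hpm, hprod⟩ := (T.comp G0.subtype).exists_halves hG0p
    (fun g => hA _) hq2 hM hXi hX2' (fun g => (hG0 _).1 g.2)
  obtain ⟨m', rfl⟩ : ∃ m', m = m' + 1 := ⟨m - 1, by omega⟩
  have htp := T.half hG hA hq2 hM htop hXi hX2' hN hpσ hmσ hpA hmA hpm hprod ht1 ht2 haN
  have hpnt : Nontrivial (fixd X) := by
    rw [Subgroup.nontrivial_iff_ne_bot]
    intro e
    refine hXz (MulEquiv.ext fun v => ?_)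
    obtain ⟨d, hd, c, hc, rfl⟩ := exists_split hq2 hM hX2' v
    have hc1 : c = 1 := by rw [← Subgroup.mem_bot, ← e]; exact hc
    rw [hc1, mul_one, hz]
    exact HHTwo.mem_neg'.1 hd
  have hmnt : Nontrivial (neg X) := by
    rw [Subgroup.nontrivial_iff_ne_bot]
    intro e
    refine hX1 (MulEquiv.ext fun v => ?_)
    obtain ⟨d, hd, c, hc, rfl⟩ := exists_split hq2 hM hX2' v
    rw [e, Subgroup.mem_bot] at hd
    rw [hd, one_mul, hc]
    rfl
  by_cases hm2 : 2 ≤ m'
  · refine ih _ _ _ (Tp.comp (Subgroup.inclusion hN)) q m' _ (hlt _ ?_) hq hq2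
      (fun v => Subtype.ext (hM v)) hpnt hNp (fun g => hpA _) hm2 htp
    intro e
    exact hX1 (MulEquiv.ext fun v => (e.ge (Subgroup.mem_top v) : v ∈ fixd X))
  obtain rfl : m' = 1 := by omega
  obtain ⟨hq3, hpcard, hpsq, hpcomm, gp, hgp⟩ := htp.core_one _ hq hq2 (fun v => Subtype.ext (hM v)) hNp
    (fun g => hpA _)
  subst hq3
  -- the other half
  set X' := z * X with hX'
  have hX'i : ∀ u v, S.χ (X' u) (X' v) = S.χ u v := fun u v =>
    (T.isometry a _ _).trans (hXi u v)
  have hX'2 : ∀ v, X' (X' v) = v := fun v => by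
    show z (X (z (X v))) = v
    rw [hz, hz, map_inv, inv_inv, hX2']
  have hfx' : ∀ v, v ∈ fixd X' ↔ v ∈ neg X := fun v => by
    rw [mem_fixd, HHTwo.mem_neg']
    show z (X v) = v ↔ _
    rw [hz, inv_eq_iff_eq_inv]
  have hng' : ∀ v, v ∈ neg X' ↔ v ∈ fixd X := fun v => by
    rw [mem_fixd, HHTwo.mem_neg']
    show z (X v) = v⁻¹ ↔ _
    rw [hz, inv_inj]
  obtain ⟨Tp', Tm', hpσ', hmσ', hpA', hmA', hpm', hprod'⟩ := (T.comp G0.subtype).exists_halves hG0p
    (fun g => hA _) hq2 hM hX'i hX'2 (fun g => by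
      show T.σ (g : G) * (z * X) = z * X * T.σ (g : G)
      rw [← mul_assoc, ← T.σ_comm hz, mul_assoc, (hG0 _).1 g.2, ← mul_assoc])
  have htm := T.half hG hA hq2 hM htop hX'i hX'2 hN hpσ' hmσ' hpA' hmA' hpm' hprod'
    (fun x hx => (hng' _).2 (ht2 x ((hfx' x).1 hx))) (fun x hx => (hfx' _).2 (ht1 x ((hng' x).1 hx))) haN
  haveI : Nontrivial (fixd X') := by
    rw [show fixd X' = neg X from SetLike.ext hfx']; exact hmnt
  obtain ⟨-, hmcard', hmsq', -, -⟩ := htm.core_one _ hq hq2 (fun v => Subtype.ext (hM v)) hNp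
    (fun g => hpA' _)
  -- transport to `neg X`
  have hmcard : Nat.card (neg X) = 9 := by rw [← SetLike.ext hfx']; exact hmcard'
  set a0 : G0 := ⟨a, hN haN⟩ with ha0
  set ι := Subgroup.inclusion hN with hι
  have hext_p : ∀ {g k : G0}, (∀ x ∈ fixd X, T.σ g x = T.σ k x) ↔ Tp.σ g = Tp.σ k := fun {g k} =>
    ⟨fun h => MulEquiv.ext fun x => Subtype.ext (by rw [hpσ, hpσ]; exact h x x.2), fun h x hx => by
      have := congrArg Subtype.val (MulEquiv.congr_fun h ⟨x, hx⟩)
      rwa [hpσ, hpσ] at this⟩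
  have hext_m : ∀ {g k : G0}, (∀ x ∈ neg X, T.σ g x = T.σ k x) ↔ Tm.σ g = Tm.σ k := fun {g k} =>
    ⟨fun h => MulEquiv.ext fun x => Subtype.ext (by rw [hmσ, hmσ]; exact h x x.2), fun h x hx => by
      have := congrArg Subtype.val (MulEquiv.congr_fun h ⟨x, hx⟩)
      rwa [hmσ, hmσ] at this⟩
  have hmσ'' : ∀ (g : G0) (x : fixd X'), ((Tp'.σ g x : fixd X') : M) = T.σ g x := hpσ'
  have hmsq : ∀ b : commutator G, Tm.σ (ι b * ι b) = 1 ∨ Tm.σ (ι b * ι b) = Tm.σ a0 := by
    intro b
    rcases hmsq' b with h | h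
    · left
      rw [← Tm.σ.map_one]
      refine hext_m.1 fun x hx => ?_
      have h1 := congrArg Subtype.val (MulEquiv.congr_fun h ⟨x, (hfx' x).2 hx⟩)
      rw [MulAut.one_apply] at h1
      refine ((hmσ'' (ι (b * b)) _).symm.trans h1).trans ?_
      show x = T.σ ((1 : G0) : G) x
      rw [Subgroup.coe_one, map_one]; rfl
    · right
      refine hext_m.1 fun x hx => ?_
      have h1 := congrArg Subtype.val (MulEquiv.congr_fun h ⟨x, (hfx' x).2 hx⟩)
      exact ((hmσ'' (ι (b * b)) _).symm.trans h1).trans (hmσ'' a0 _)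
  have hpneg : ∀ x, Tp.σ a0 x = x⁻¹ := fun x => Subtype.ext (by rw [hpσ, Subgroup.coe_inv]; exact hz _)
  have hmneg : ∀ x, Tm.σ a0 x = x⁻¹ := fun x => Subtype.ext (by rw [hmσ, Subgroup.coe_inv]; exact hz _)
  -- both restrictions of `G0` agree with those of `G'`
  have hsmall : ∀ {L : Type uM} [CommGroup L] [Finite L] (SL : Tw L K V) (TL : Act SL G0),
      Nat.card L = 9 → (∀ v : L, v ^ 3 = 1) → (∀ x, TL.σ a0 x = x⁻¹) →
      ∀ g : G0, ∃ b : commutator G, TL.σ g = TL.σ (ι b) := by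
    intro L _ _ SL TL hcard hexp hneg g
    haveI : Nontrivial L := Finite.one_lt_card_iff_nontrivial.1 (by omega)
    have hR : IsPGroup 2 TL.σ.range := hG0p.of_surjective _ TL.σ.rangeRestrict_surjective
    have h8 : Nat.card TL.σ.range ≤ 8 := card_le_eight SL hexp hcard hR
      (by rintro _ ⟨k, rfl⟩; exact TL.isometry k) hneg (TL.isometry a0)
    set Rn := ((TL.σ).comp ι).range with hRn
    have hle : Rn ≤ TL.σ.range := by rintro _ ⟨k, rfl⟩; exact ⟨ι k, rfl⟩
    suffices h : Rn = TL.σ.range by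
      obtain ⟨b, hb⟩ : TL.σ g ∈ Rn := h ▸ ⟨g, rfl⟩
      exact ⟨b, hb.symm⟩
    refine Subgroup.eq_of_le_of_card_ge hle (h8.trans ?_)
    obtain ⟨j, hj⟩ := IsPGroup.iff_card.1 (hR.to_le hle)
    rw [hj]
    by_contra hlt8
    have hj2 : j ≤ 2 := by
      by_contra h
      exact hlt8 (le_trans (by norm_num) (Nat.pow_le_pow_right two_pos (show 3 ≤ j by omega)))
    have hcomm : ∀ x y : Rn, x * y = y * x := by
      rcases (show j = 2 ∨ j ≤ 1 by omega) with rfl | hj1
      · exact IsPGroup.commutative_of_card_eq_prime_sq hj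
      · haveI : IsCyclic Rn := by
          rcases (show j = 1 ∨ j = 0 by omega) with rfl | rfl
          · exact isCyclic_of_prime_card (p := 2) (hj.trans (pow_one 2))
          · haveI : Subsingleton Rn := (Nat.card_eq_one_iff_unique.1 (hj.trans (pow_zero 2))).1
            infer_instance
        intro x y
        exact mul_comm' x y
    have hmem2 : (⟨a, haN⟩ : commutator G) ∈ commutator (commutator G) := by
      have h1 := htp.mem
      exact commutator_def (commutator G) ▸ h1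
    have hker : commutator (commutator G) ≤ ((TL.σ).comp ι).ker := by
      rw [commutator_def (↥(commutator G)), Subgroup.commutator_le]
      intro u _ v _
      rw [MonoidHom.mem_ker, map_commutatorElement]
      exact commutatorElement_eq_one_iff_mul_comm.2
        (congrArg Subtype.val (hcomm ⟨_, u, rfl⟩ ⟨_, v, rfl⟩))
    obtain ⟨x, hx⟩ := exists_ne (1 : L)
    have h1 : TL.σ a0 x = x := by
      have := hker hmem2
      rw [MonoidHom.mem_ker] at this
      exact MulEquiv.congr_fun this x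
    rw [hneg, inv_eq_iff_mul_eq_one, ← sq] at h1
    exact hx (eq_one_of_sq (by decide) hexp h1)
  have hmatchp := hsmall _ Tp hpcard (fun v => Subtype.ext (hM v)) hpneg
  have hmatchm := hsmall _ Tm hmcard (fun v => Subtype.ext (hM v)) hmneg
  -- an element trivial on one half with square inverting the other
  obtain ⟨g, hgp1, hgm⟩ : ∃ g : G0, Tp.σ g = 1 ∧ Tm.σ (g * g) = Tm.σ a0 := by
    by_contra hno
    push Not at hno
    let Pr : MulAut M → Prop := fun h => (∀ x ∈ fixd X, h x = x) ∨ ∀ x ∈ fixd X, h x = x⁻¹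
    set K4 := Subgroup.closure ({z, X} : Set (MulAut M)) with hK4
    set C := K4.comap T.σ with hC
    haveI : C.Normal := ⟨fun g hg k => by
      rw [hC, Subgroup.mem_comap] at hg ⊢
      have h1 : K4 ≤ K4.comap (MulAut.conj (T.σ k)).toMonoidHom := by
        conv_lhs => rw [hK4]
        rw [Subgroup.closure_le]
        rintro y (rfl | rfl)
        · show T.σ k * z * (T.σ k)⁻¹ ∈ K4
          rw [← T.σ_comm hz k, mul_inv_cancel_right]
          exact Subgroup.subset_closure (Or.inl rfl)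
        · show T.σ k * X * (T.σ k)⁻¹ ∈ K4
          rcases hXd k with h | h <;> rw [h]
          · exact Subgroup.subset_closure (Or.inr rfl)
          · exact mul_mem (Subgroup.subset_closure (Or.inl rfl)) (Subgroup.subset_closure (Or.inr rfl))
      rw [map_mul, map_mul, map_inv]
      exact h1 hg⟩
    have hgen : ∀ g : G, g ∈ G0 → ∃ b ∈ commutator G, b⁻¹ * g ∈ C := by
      intro g hg
      obtain ⟨b, hb⟩ := hmatchp ⟨g, hg⟩
      refine ⟨b, b.2, ?_⟩
      set k : G0 := (ι b)⁻¹ * ⟨g, hg⟩ with hk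
      have hk1 : Tp.σ k = 1 := by rw [hk, map_mul, map_inv, hb, inv_mul_cancel]
      have hk2 : Tm.σ (k * k) = 1 := by
        obtain ⟨c, hc⟩ := hmatchm k
        have h1 : Tm.σ (k * k) = Tm.σ (ι c * ι c) := by rw [map_mul Tm.σ k k, map_mul Tm.σ (ι c), hc]
        rcases hmsq c with h | h
        · rw [h1, h]
        · exact absurd (h1.trans h) (hno k hk1)
      have hpk : ∀ x ∈ fixd X, T.σ k x = x := fun x hx => by
        have := congrArg Subtype.val (MulEquiv.congr_fun hk1 ⟨x, hx⟩)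
        rwa [hpσ] at this
      have hcases : (∀ x ∈ neg X, T.σ k x = x) ∨ ∀ x ∈ neg X, T.σ k x = x⁻¹ := by
        refine neg_or_id (q := 3) (hqf := ⟨Nat.prime_three⟩) hq2 hM (T.pairing b0) hX2'
          (by rw [hmcard]; norm_num) (T.pairing k) (fun d hd => ?_) fun d hd => ?_
        · have h := (Tm.σ k ⟨d, hd⟩).2
          rw [hmσ] at h
          exact h
        · have h := congrArg Subtype.val (MulEquiv.congr_fun hk2 ⟨d, hd⟩)
          rw [map_mul, MulAut.mul_apply, hmσ, hmσ, MulAut.one_apply] at h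
          exact h
      rw [hC, Subgroup.mem_comap]
      show T.σ ((k : G0) : G) ∈ K4
      rcases hcases with h | h
      · rw [show T.σ (k : G) = 1 from MulEquiv.ext fun v => by
          obtain ⟨d, hd, c, hc, rfl⟩ := exists_split hq2 hM hX2' v
          rw [map_mul, hpk c hc, h d hd]; rfl]
        exact one_mem _
      · rw [show T.σ (k : G) = X from MulEquiv.ext fun v => by
          obtain ⟨d, hd, c, hc, rfl⟩ := exists_split hq2 hM hX2' v
          rw [map_mul, map_mul, hpk c hc, h d hd, hc, HHTwo.mem_neg'.1 hd]]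
        exact Subgroup.subset_closure (Or.inr rfl)
    have htop' : (Subgroup.zpowers t ⊔ C) ⊔ commutator G = ⊤ := by
      haveI := CfsgLib.PGroups.commutator_le_frattini' hG
      rw [eq_top_iff]
      intro g _
      by_cases hg : g ∈ G0
      · obtain ⟨b, hb, hbg⟩ := hgen g hg
        rw [show g = b * (b⁻¹ * g) by rw [mul_inv_cancel_left]]
        exact mul_mem (Subgroup.mem_sup_right hb) (Subgroup.mem_sup_left (Subgroup.mem_sup_right hbg))
      · obtain ⟨b, hb, hbg⟩ := hgen _ (hindex g hg)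
        rw [show g = t * (b * (b⁻¹ * (t⁻¹ * g))) by simp only [mul_inv_cancel_left]]
        exact mul_mem (Subgroup.mem_sup_left (Subgroup.mem_sup_left (Subgroup.mem_zpowers t)))
          (mul_mem (Subgroup.mem_sup_right hb) (Subgroup.mem_sup_left (Subgroup.mem_sup_right hbg)))
    have htC : Subgroup.zpowers t ⊔ C = ⊤ := frattini_nongenerating (eq_top_iff.2
      (htop'.ge.trans (sup_le_sup_left (CfsgLib.PGroups.commutator_le_frattini' hG) _)))
    have hNC : commutator G ≤ C := by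
      set π := QuotientGroup.mk' C with hπ
      have hcyc : ∀ y, ∃ i : ℤ, π t ^ i = π y := by
        intro y
        have h1 := Subgroup.mem_map_of_mem π (htC.ge (Subgroup.mem_top y))
        rw [Subgroup.map_sup, hπ, QuotientGroup.map_mk'_self, sup_bot_eq, MonoidHom.map_zpowers] at h1
        exact Subgroup.mem_zpowers_iff.1 h1
      rw [commutator_def, Subgroup.commutator_le]
      intro u _ v _
      rw [← QuotientGroup.eq_one_iff]
      show π ⁅u, v⁆ = 1
      rw [map_commutatorElement, commutatorElement_eq_one_iff_mul_comm]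
      obtain ⟨i, hi⟩ := hcyc u
      obtain ⟨j, hj⟩ := hcyc v
      rw [← hi, ← hj, ← zpow_add, ← zpow_add, add_comm]
    -- so `G'` acts by scalars on `fixd X`
    have hscal : ∀ b : commutator G, Pr (T.σ b) := by
      intro b
      have hb : T.σ b ∈ K4 := hNC b.2
      generalize T.σ (b : G) = h at hb ⊢
      induction hb using Subgroup.closure_induction with
      | mem y hy =>
        rcases hy with rfl | rfl
        · exact Or.inr fun x _ => hz x
        · exact Or.inl fun x hx => hx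
      | one => exact Or.inl fun x _ => rfl
      | mul u v _ _ hu hv =>
        rcases hu with hu | hu <;> rcases hv with hv | hv
        · exact Or.inl fun x hx => by rw [MulAut.mul_apply, hv x hx, hu x hx]
        · exact Or.inr fun x hx => by rw [MulAut.mul_apply, hv x hx, map_inv, hu x hx]
        · exact Or.inr fun x hx => by rw [MulAut.mul_apply, hv x hx, hu x hx]
        · exact Or.inl fun x hx => by rw [MulAut.mul_apply, hv x hx, map_inv, hu x hx, inv_inv]
      | inv u _ hu =>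
        rcases hu with hu | hu
        · exact Or.inl fun x hx => apply_inv_of_fix (hu x hx)
        · exact Or.inr fun x hx => u.injective (by
            show u (u.symm x) = u x⁻¹
            rw [u.apply_symm_apply, map_inv, hu x hx, inv_inv])
    rcases hscal (gp) with h | h <;>
    · have h1 : Tp.σ (ι gp * ι gp) = 1 := by
        rw [← Tp.σ.map_one]
        refine hext_p.1 fun x hx => ?_
        show T.σ ((gp : G) * gp) x = T.σ ((1 : G0) : G) x
        rw [map_mul, MulAut.mul_apply, h x hx, Subgroup.coe_one, map_one, MulAut.one_apply]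
        first
          | exact h x hx
          | rw [map_inv, h x hx, inv_inv]
      have h2 : Tp.σ (ι gp * ι gp) = Tp.σ a0 := hgp
      rw [h1] at h2
      obtain ⟨x, hx⟩ := exists_ne (1 : fixd X)
      have h3 := hpneg x
      rw [← h2, MulAut.one_apply, eq_inv_iff_mul_eq_one, ← sq] at h3
      exact hx (eq_one_of_sq hq2 (fun v => Subtype.ext (hM v)) h3)
  -- the contradiction
  obtain ⟨b, hb⟩ := hmatchm g
  haveI := charP_end (K := K) (V := V)
  set Bp := Tp.r (ι b) - 1 with hBp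
  set B := Tm.r (ι b) - 1 with hB
  set Zp := Tp.r a0 - 1 with hZp
  set Zm := Tm.r a0 - 1 with hZm
  have hrg : Tm.r g = Tm.r (ι b) := Tm.r_eq hG0p hmA hb
  have hvan := htop.vanish (fun i => if i = 0 then (g : G) else (b : G)) (fun i hi => by
    rcases i with _ | _ | i
    · exact Subgroup.mem_top _
    · exact (commutator_def G).le b.2
    · omega)
  have hrG : ∀ k : G0, T.r k = Tp.r k * Tm.r k := hprod
  have hvan' : (T.r a - 1) * ((T.r (b : G) - 1) * (T.r (g : G) - 1)) = 0 := by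
    simpa [chain] using hvan
  have hZpBp : Zp * Bp = 0 := by
    have h1 := htp.vanish (fun _ => b) (fun i hi => by
      obtain rfl : i = 0 := by omega
      exact Subgroup.mem_top b)
    simp only [chain, mul_one] at h1
    exact h1
  have hZmB : Zm * B = 0 := by
    have h1 := htm.vanish (fun _ => b) (fun i hi => by
      obtain rfl : i = 0 := by omega
      exact Subgroup.mem_top b)
    have hnd := hmd
    -- the inner factors agree
    have hAeq : ∀ k : G0, Tp'.r k = Tm.r k := by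
      intro k
      have hk' : Tp'.r k ∈ (S.res (neg X) hmd).A := by
        refine Submodule.span_mono ?_ (hpA' k)
        rintro _ ⟨x, rfl⟩
        exact ⟨⟨x, (hfx' x).1 x.2⟩, rfl⟩
      have hm' : Tm'.r k⁻¹ ∈ (S.res (fixd X) hp).A := by
        refine Submodule.span_mono ?_ (hmA' k⁻¹)
        rintro _ ⟨x, rfl⟩
        exact ⟨⟨x, (hng' x).1 x.2⟩, rfl⟩
      have hY : Tm.r k⁻¹ * Tp'.r k = Tp.r k * Tm'.r k⁻¹ := by
        have h2 : Tp.r k * Tm.r k = Tp'.r k * Tm'.r k := (hprod k).symm.trans (hprod' k)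
        calc Tm.r k⁻¹ * Tp'.r k = Tm.r k⁻¹ * (Tp'.r k * Tm'.r k) * Tm'.r k⁻¹ := by
              simp only [mul_assoc, Tm'.r_inv, mul_one]
          _ = Tm.r k⁻¹ * (Tm.r k * Tp.r k) * Tm'.r k⁻¹ := by rw [← h2, (hpm k k).eq]
          _ = _ := by rw [← mul_assoc (Tm.r k⁻¹), Tm.r_inv', one_mul]
      obtain ⟨c, hc⟩ := (S.res (neg X) hmd).smul_of_cen (mul_mem (hmA k⁻¹) hk') fun x => by
        rw [hY]
        exact (S.commute_res hp (fun y hy w hw => (S.orth hXi hy hw).1) (mul_mem (hpA k) hm') _ x.2)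
      obtain ⟨j, hj⟩ := hG0p k
      have hp1 : ∀ i : ℕ, Tp'.r (k ^ i) = c ^ i • Tm.r (k ^ i) := by
        intro i
        induction i with
        | zero => rw [pow_zero, pow_zero, map_one, map_one, one_smul]
        | succ i ih =>
          rw [pow_succ k, map_mul, map_mul, ih, pow_succ c]
          have h4 : Tp'.r k = c • Tm.r k := by
            calc Tp'.r k = Tm.r k * (Tm.r k⁻¹ * Tp'.r k) := by rw [← mul_assoc, Tm.r_inv, one_mul]
              _ = _ := by rw [hc, mul_smul_comm, mul_one]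
          rw [h4, smul_mul_smul_comm]
      have h5 := hp1 (2 ^ j)
      rw [hj, map_one, map_one] at h5
      have hc1 := eq_one_of_two_pow (Tw.smul_cancel isUnit_one
        (show c ^ 2 ^ j • (1 : Module.End K V) = (1 : K) • 1 by rw [one_smul]; exact h5.symm))
      have h6 := hp1 1
      rwa [pow_one, pow_one, hc1, one_smul] at h6
    simp only [chain, mul_one] at h1
    change (Tp'.r a0 - 1) * (Tp'.r (ι b) - 1) = 0 at h1
    rwa [hAeq, hAeq] at h1
  have hcpm : ∀ Y ∈ (S.res (fixd X) hp).A, ∀ W ∈ (S.res (neg X) hmd).A, Commute Y W := fun Y hY W hW =>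
    S.commute_of_mem_res hp hY (fun x hx =>
      S.commute_res hmd (fun x hx y hy => (S.orth hXi hy hx).2) hW x hx)
  have hBpA : Bp ∈ (S.res (fixd X) hp).A := sub_mem (hpA _) (one_mem _)
  have hBA : B ∈ (S.res (neg X) hmd).A := sub_mem (hmA _) (one_mem _)
  have hZpA : Zp ∈ (S.res (fixd X) hp).A := sub_mem (hpA _) (one_mem _)
  have hZmA : Zm ∈ (S.res (neg X) hmd).A := sub_mem (hmA _) (one_mem _)
  have hBB : B * B = Zm := by
    have h1 : Tm.r (ι b) * Tm.r (ι b) = Tm.r a0 := by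
      rw [← map_mul]
      refine Tm.r_eq hG0p hmA ?_
      rw [← hgm, map_mul, map_mul, hb]
    rw [hB, hZm, sub_mul, mul_sub, one_mul, mul_one, h1]
    simp only [end_sub]
    rw [add_add_add_comm, ← add_assoc, add_assoc (Tm.r a0), end_add_self, add_zero]
  have hra : T.r a - 1 = Zp + Zm + Zp * Zm := by
    rw [show T.r a = Tp.r a0 * Tm.r a0 from hrG a0, hZp, hZm]; noncomm_ring
  have hrb : T.r (b : G) - 1 = Bp + B + Bp * B := by
    rw [show T.r (b : G) = Tp.r (ι b) * Tm.r (ι b) from hrG (ι b), hBp, hB]; noncomm_ring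
  have hrg' : T.r (g : G) - 1 = B := by
    rw [hrG g, Tp.r_eq_one hG0p (hpA g) hgp1, one_mul, hrg]
  rw [hra, hrb, hrg'] at hvan'
  have c1 : Zm * Bp = Bp * Zm := ((hcpm _ hBpA _ hZmA).eq).symm
  have hfin : Zp * Zm = 0 := by
    rw [← hvan']
    have e : (Zp + Zm + Zp * Zm) * ((Bp + B + Bp * B) * B) =
        Zp * Bp * B + Zp * (B * B) + Zp * Bp * (B * B) + (Zm * Bp * B + Zm * B * B + Zm * Bp * (B * B)) +
          Zp * (Zm * Bp * B + Zm * B * B + Zm * Bp * (B * B)) := by noncomm_ring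
    rw [e, hZpBp, c1, hZmB, hBB]
    simp only [mul_assoc, hZmB, zero_mul, mul_zero, add_zero, zero_add]
    have h0 : Zm * Zm = 0 := by rw [← hBB, ← mul_assoc, hBB, ← hBB, mul_assoc B B B, ← mul_assoc B B, hBB, hZmB]; simp
    simp only [h0, mul_zero, add_zero, zero_add]
  haveI := hpnt
  haveI := hmnt
  have hZm0 : Zm ≠ 0 := fun e => by
    obtain ⟨x, hx⟩ := exists_ne (1 : neg X)
    have h1 := hmneg x
    rw [Tm.σ_eq_one (sub_eq_zero.1 e), MulAut.one_apply, eq_inv_iff_mul_eq_one, ← sq] at h1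
    exact hx (eq_one_of_sq hq2 (fun v => Subtype.ext (hM v)) h1)
  have hZp0 : Zp = 0 := (S.res (fixd X) hp).eq_zero_of_mul_eq_zero hZpA
    (fun x => hcpm _ ((S.res (fixd X) hp).e_mem x) _ hZmA) hfin hZm0
  obtain ⟨x, hx⟩ := exists_ne (1 : fixd X)
  have h1 := hpneg x
  rw [Tp.σ_eq_one (sub_eq_zero.1 hZp0), MulAut.one_apply, eq_inv_iff_mul_eq_one, ← sq] at h1
  exact hx (eq_one_of_sq hq2 (fun v => Subtype.ext (hM v)) h1)

theorem not_top {M : Type uM} [CommGroup M] [Finite M] [Nontrivial M] {S : Tw M K V} {G : Type uG}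
    [Group G] [Finite G] (T : Act S G) {q m : ℕ} {a : G} (hq : q.Prime) (hq2 : Odd q)
    (hM : ∀ v : M, v ^ q = 1) (hG : IsPGroup 2 G) (hA : ∀ g, T.r g ∈ S.A) (hm : 2 ≤ m) :
    ¬ T.Top m a := fun h => not_top_aux _ M S G T q m a le_rfl hq hq2 hM inferInstance hG hA hm h

end Act

end CfsgLib.Core.HHTwoDerived
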