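import Mathlib
import Cfsg.Agent.Lib.Core.HHCritical.TwoDerived.CoreTwo

/-!
# Derived series with vanishing products

* `Act.core`: if the products along the derived series of length `m + 1` vanish then `G^(m)` acts
  trivially, or `m = 1`, `q = 3` and `G` moves a single plane
-/

set_option autoImplicit false
set_option linter.all false

namespace CfsgLib.Core.HHTwoDerived

open Finset CfsgLib.Core.HHTwo
open scoped commutatorElement

variable {K : Type*} [Field K] [CharP K 2] [IsAlgClosed K] {M : Type*} [CommGroup M] [Finite M]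
  {V : Type*} [AddCommGroup V] [Module K V] [FiniteDimensional K V] [Nontrivial V]
  {S : Tw M K V} {G : Type*} [Group G] [Finite G]

/-- What remains: `G` moves a single plane. -/
structure Plane (σ : G →* MulAut M) (b : G) : Prop where
  four : σ (b * b) * σ (b * b) = 1
  card : Nat.card (neg (σ (b * b))) = 9
  fix : ∀ g, ∀ x, σ (b * b) x = x → σ g x = x
  sq : ∀ g, σ (g * g) = 1 ∨ σ (g * g) = σ (b * b)
  comm : ∀ g ∈ dser (⊤ : Subgroup G) 1, σ g = 1 ∨ σ g = σ (b * b)

theorem Act.core (T : Act S G) {q m : ℕ} (hq : q.Prime) (hq2 : Odd q) (hM : ∀ v : M, v ^ q = 1)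
    (hG : IsPGroup 2 G)
    (hchain : ∀ g : ℕ → G, (∀ i ≤ m, g i ∈ dser (⊤ : Subgroup G) i) → chain T.r g (m + 1) = 0) :
    (∀ a ∈ dser (⊤ : Subgroup G) m, T.σ a = 1) ∨
      (m = 1 ∧ q = 3 ∧ ∃ b, Plane T.σ b) := by
  classical
  haveI := Fact.mk Nat.prime_two
  refine or_iff_not_imp_left.2 fun hne => ?_
  push Not at hne
  obtain ⟨a0, ha0, ha01⟩ := hne
  obtain ⟨m, rfl⟩ : ∃ m', m = m' + 1 := by
    refine ⟨m - 1, ?_⟩
    by_contra h0
    obtain rfl : m = 0 := by omega
    refine ha01 (T.σ_eq_one (sub_eq_zero.1 ?_))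
    simpa [chain] using hchain (fun _ => a0) (fun i hi => by
      obtain rfl : i = 0 := by omega
      exact ha0)
  -- a central involution
  set ψ := T.σ.rangeRestrict
  haveI : Finite T.σ.range := Finite.of_surjective _ T.σ.rangeRestrict_surjective
  have hHp : IsPGroup 2 T.σ.range := hG.of_surjective _ T.σ.rangeRestrict_surjective
  set Nm := (dser (⊤ : Subgroup G) (m + 1)).map ψ with hNm
  haveI : Nm.Normal := (normal_dser (P := (⊤ : Subgroup G)) (m + 1)).map _ T.σ.rangeRestrict_surjective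
  have hNne : Nm ≠ ⊥ := fun h => by
    have h1 : ψ a0 ∈ Nm := Subgroup.mem_map_of_mem ψ ha0
    rw [h, Subgroup.mem_bot] at h1
    exact ha01 (congrArg Subtype.val h1)
  obtain ⟨⟨y, hy⟩, hy1⟩ := Subgroup.ne_bot_iff_exists_ne_one.1
    (CfsgLib.PGroups.inf_center_ne_bot hHp hNne)
  replace hy1 : y ≠ 1 := fun e => hy1 (Subtype.ext e)
  obtain ⟨j, hj⟩ := IsPGroup.iff_orderOf.mp hHp y
  obtain ⟨j, rfl⟩ : ∃ i, j = i + 1 := by
    refine ⟨j - 1, ?_⟩
    by_contra h0
    obtain rfl : j = 0 := by omega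
    exact hy1 (orderOf_eq_one_iff.1 (by rw [hj, pow_zero]))
  obtain ⟨a, ha, hae⟩ : y ^ 2 ^ j ∈ Nm := pow_mem (Subgroup.mem_inf.1 hy).1 _
  have hzc : ∀ g, T.σ g * T.σ a = T.σ a * T.σ g := fun g => by
    have h1 := Subgroup.mem_center_iff.1 (pow_mem (Subgroup.mem_inf.1 hy).2 (2 ^ j)) (ψ g)
    rw [← hae] at h1
    exact congrArg Subtype.val h1
  have hz2 : T.σ a * T.σ a = 1 := by
    have h1 : ψ a * ψ a = 1 := by rw [hae, ← pow_add, ← two_mul, ← pow_succ', ← hj, pow_orderOf_eq_one]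
    exact congrArg Subtype.val h1
  have hz1 : T.σ a ≠ 1 := by
    intro e
    have h1 : y ^ 2 ^ j = 1 := hae ▸ Subtype.ext e
    have h2 := Nat.le_of_dvd (pow_pos two_pos _) (orderOf_dvd_of_pow_eq_one h1)
    rw [hj, pow_succ] at h2
    have := Nat.two_pow_pos j
    omega
  have hz2' : ∀ v, T.σ a (T.σ a v) = v := fun v => by rw [← MulAut.mul_apply, hz2]; rfl
  -- inner
  obtain ⟨T1, hσ1, hA1, hcm1⟩ := T.exists_inner hG
  have hchain1 : ∀ g : ℕ → G, (∀ i ≤ m + 1, g i ∈ dser (⊤ : Subgroup G) i) → chain T1.r g (m + 1 + 1) = 0 :=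
    fun g hg => T.exists_transfer hG hA1 hcm1 g _ (hchain g hg)
  rw [← hσ1] at hzc hz2 hz1 hz2' ⊢
  obtain ⟨Tp, Tm, hpσ, hmσ, hpA, hmA, hpm, hprod⟩ := T1.exists_halves hG hA1 hq2 hM
    (T1.isometry a) hz2' (fun g => hzc g)
  have hp := S.nd_fixd hq2 hM (T1.isometry a) hz2'
  have hn := S.nd_neg hq2 hM (T1.isometry a) hz2'
  have him : ∀ g, ∀ x ∈ neg (T1.σ a), T1.σ g x ∈ neg (T1.σ a) := fun g x hx => by
    rw [HHTwo.mem_neg'] at hx ⊢
    rw [← MulAut.mul_apply, ← hzc, MulAut.mul_apply, hx, map_inv]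
  have hmneg : ∀ x, Tm.σ a x = x⁻¹ := fun x => Subtype.ext (by
    rw [hmσ, Subgroup.coe_inv]; exact HHTwo.mem_neg'.1 x.2)
  have htrans : ∀ g : ℕ → G, ∀ k, chain T1.r g k = 0 → chain Tm.r g k = 0 := fun g k h =>
    (T1.res _ hn him).exists_transfer hG hmA (fun k' x => by
      show Commute (Tm.r k'⁻¹ * T1.r k') (S.e (x : M))
      rw [hprod k', ← mul_assoc, ← (hpm k' k'⁻¹).eq, mul_assoc, Tm.r_inv', mul_one]
      exact (S.commute_res hp (fun y hy w hw => (S.orth (T1.isometry a) hy hw).1) (hpA k') _ x.2).symm)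
      g k h
  have hg' : ∀ g : ℕ → G, (∀ i < m + 1, g i ∈ dser (⊤ : Subgroup G) i) →
      (T1.r a - 1) * chain T1.r g (m + 1) = 0 ∧ (Tm.r a - 1) * chain Tm.r g (m + 1) = 0 := by
    intro g hg
    let g' : ℕ → G := fun i => if i < m + 1 then g i else a
    have e1 : ∀ i < m + 1, g' i = g i := fun i hi => if_pos hi
    have e2 : g' (m + 1) = a := if_neg (lt_irrefl _)
    have h1 := hchain1 g' fun i hi => by
      rcases lt_or_eq_of_le hi with h | rfl
      · rw [e1 i h]; exact hg i h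
      · rw [e2]; exact ha
    have h2 := htrans g' _ h1
    change (T1.r (g' (m + 1)) - 1) * chain T1.r g' (m + 1) = 0 at h1
    change (Tm.r (g' (m + 1)) - 1) * chain Tm.r g' (m + 1) = 0 at h2
    rw [e2, chain_congr _ e1] at h1 h2
    exact ⟨h1, h2⟩
  have htop : Tm.Top (m + 1) a := ⟨ha, hmneg, fun g hg => (hg' g hg).2⟩
  haveI : Nontrivial (neg (T1.σ a)) := by
    rw [Subgroup.nontrivial_iff_ne_bot]
    intro e
    refine hz1 (MulEquiv.ext fun v => ?_)
    obtain ⟨d, hd, c, hc, rfl⟩ := exists_split hq2 hM hz2' v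
    rw [e, Subgroup.mem_bot] at hd
    rw [hd, one_mul, hc]
    rfl
  rcases Nat.eq_zero_or_pos m with rfl | hm
  swap
  · exact absurd htop (Tm.not_top hq hq2 (fun v => Subtype.ext (hM v)) hG hmA (by omega))
  obtain ⟨hq3, hcard, hsq, hcomm, b, hb⟩ := htop.core_one _ hq hq2 (fun v => Subtype.ext (hM v)) hG hmA
  -- the other elements fix the complement
  have hTpa : Tp.r a = 1 := Tp.r_eq_one hG (hpA a) (MulEquiv.ext fun x => Subtype.ext (by
    rw [hpσ, MulAut.one_apply]; exact x.2))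
  have hfix : ∀ g, ∀ x, T1.σ a x = x → T1.σ g x = x := by
    intro g x hx
    obtain ⟨h1, h2⟩ := hg' (fun _ => g) fun i hi => by
      obtain rfl : i = 0 := by omega
      exact Subgroup.mem_top g
    simp only [chain, mul_one] at h1 h2
    rw [hprod a, hTpa, one_mul, hprod g] at h1
    have h3 : (Tm.r a - 1) * Tm.r g = Tm.r a - 1 := by
      rwa [mul_sub, mul_one, sub_eq_zero] at h2
    rw [mul_sub, mul_one, (hpm g g).eq, ← mul_assoc, h3] at h1
    have hTp : Tp.r g - 1 = 0 := (S.res _ hp).eq_zero_of_mul_eq_zero (sub_mem (hpA g) (one_mem _))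
      (fun y => (S.commute_res hn (fun x hx y hy => (S.orth (T1.isometry a) hy hx).2)
        (sub_mem (hmA a) (one_mem _)) _ y.2))
      (by
        rw [((hpm g a).sub_left (Commute.one_left _)).sub_right (Commute.one_right _), mul_sub, mul_one]
        exact h1)
      (fun e => by
        obtain ⟨y, hy⟩ := exists_ne (1 : neg (T1.σ a))
        have h4 := hmneg y
        rw [Tm.σ_eq_one (sub_eq_zero.1 e), MulAut.one_apply, eq_inv_iff_mul_eq_one, ← sq] at h4
        exact hy (eq_one_of_sq hq2 (fun v => Subtype.ext (hM v)) h4))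
    have := congrArg Subtype.val (MulEquiv.congr_fun (Tp.σ_eq_one (sub_eq_zero.1 hTp)) ⟨x, hx⟩)
    rwa [hpσ] at this
  have hext : ∀ {u v : G}, Tm.σ u = Tm.σ v → T1.σ u = T1.σ v := fun {u v} h => MulEquiv.ext fun x => by
    obtain ⟨d, hd, c, hc, rfl⟩ := exists_split hq2 hM hz2' x
    have h1 := congrArg Subtype.val (MulEquiv.congr_fun h ⟨d, hd⟩)
    rw [hmσ, hmσ] at h1
    rw [map_mul, map_mul, hfix u c hc, hfix v c hc, h1]
  have hext1 : ∀ {u : G}, Tm.σ u = 1 → T1.σ u = 1 := fun {u} h => by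
    rw [← T1.σ.map_one]; exact hext (by rw [h, map_one])
  have hbz : T1.σ (b * b) = T1.σ a := hext hb
  refine ⟨rfl, hq3, b, ⟨by rw [hbz, hz2], by rw [hbz]; exact hcard, fun g x hx => hfix g x (hbz ▸ hx),
    fun g => ?_, fun g hg => ?_⟩⟩
  · exact (hsq g).imp hext1 fun h => (hext h).trans hbz.symm
  · exact (hcomm g ((commutator_def G).ge hg)).imp hext1 fun h => (hext h).trans hbz.symm

end CfsgLib.Core.HHTwoDerived
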