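import Mathlib
import Cfsg.Agent.Lib.Core.HHCritical.TwoDerived.Inner
import Cfsg.Agent.Lib.Core.HHCritical.TwoDerived.Dser
import Cfsg.Agent.Lib.Core.HHCritical.QuadraticDerived

/-!
# Vanishing products and systems of eigenvalues

* `exists_fixed_level`: if the products along the derived series of a `p`-group `P` of length `N`
  vanish, some `P^(j)`, `j < N`, fixes the system `f` and the shorter products vanish on its
  eigenspace
-/

set_option autoImplicit false
set_option linter.all false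

namespace CfsgLib.Core.HHTwoDerived

open Finset QuadDerived

variable {X : Type*} [Group X] [Finite X] {K : Type*} [Field K] {V : Type*} [AddCommGroup V]
  [Module K V]

/-- The conjugate system. -/
def conjF (g : X) (f : X → K) : X → K := fun s => f (g⁻¹ * s * g)

theorem conjF_conjF (g h : X) (f : X → K) : conjF g (conjF h f) = conjF (g * h) f := by
  funext s
  simp only [conjF, mul_inv_rev, mul_assoc]

/-- The projection to a system of eigenvalues. -/
noncomputable def proj (ρ : X →* Module.End K V) (L : Subgroup X) (f : X → K) : Module.End K V :=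
  haveI := Fintype.ofFinite L
  (Nat.card L : K)⁻¹ • ∑ s : L, f (s : X)⁻¹ • ρ s

theorem proj_eq (ρ : X →* Module.End K V) (L : Subgroup X) [Fintype L] (f : X → K) :
    proj ρ L f = (Nat.card L : K)⁻¹ • ∑ s : L, f (s : X)⁻¹ • ρ s := by
  unfold proj
  congr 1
  exact sum_congr (by ext; simp) fun _ _ => rfl

theorem proj_apply (ρ : X →* Module.End K V) (L : Subgroup X) [Fintype L] (f : X → K) (v : V) :
    proj ρ L f v = (Nat.card L : K)⁻¹ • ∑ s : L, f (s : X)⁻¹ • ρ s v := by
  rw [proj_eq, LinearMap.smul_apply, LinearMap.sum_apply]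
  rfl

theorem proj_congr (ρ : X →* Module.End K V) {L : Subgroup X} {f f' : X → K}
    (h : ∀ s ∈ L, f s = f' s) : proj ρ L f = proj ρ L f' := by
  haveI := Fintype.ofFinite L
  rw [proj_eq, proj_eq]
  congr 1
  exact sum_congr rfl fun s _ => by rw [h _ (L.inv_mem s.2)]

theorem proj_conj (ρ : X →* Module.End K V) {L : Subgroup X} {g : X}
    (hg : ∀ s ∈ L, g * s * g⁻¹ ∈ L) (hg' : ∀ s ∈ L, g⁻¹ * s * g ∈ L) (f : X → K) :
    ρ g * proj ρ L f = proj ρ L (conjF g f) * ρ g := by
  haveI := Fintype.ofFinite L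
  rw [proj_eq, proj_eq, mul_smul_comm, smul_mul_assoc, mul_sum, sum_mul]
  congr 1
  refine Fintype.sum_equiv
    { toFun := fun s : L => (⟨g * (s : X) * g⁻¹, hg s s.2⟩ : L)
      invFun := fun s : L => (⟨g⁻¹ * (s : X) * g, hg' s s.2⟩ : L)
      left_inv := fun s => Subtype.ext (by simp only; group)
      right_inv := fun s => Subtype.ext (by simp only; group) } _ _ fun s => ?_
  show ρ g * (f (s : X)⁻¹ • ρ s) = conjF g f (g * (s : X) * g⁻¹)⁻¹ • ρ (g * s * g⁻¹) * ρ g
  rw [mul_smul_comm, smul_mul_assoc, ← map_mul, ← map_mul, inv_mul_cancel_right, conjF]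
  congr 2
  group

/-- The combinations of products of length `j`. -/
def chainSpan (ρ : X →* Module.End K V) (P : Subgroup X) (j : ℕ) : Submodule K V :=
  Submodule.span K {v | ∃ g : ℕ → X, (∀ i < j, g i ∈ dser P i) ∧ ∃ w, chain ρ g j w = v}

theorem sub_one_mem_chainSpan {ρ : X →* Module.End K V} {P : Subgroup X} {j : ℕ} {g : X}
    (hg : g ∈ dser P j) {u : V} (hu : u ∈ chainSpan ρ P j) :
    (ρ g - 1) u ∈ chainSpan ρ P (j + 1) := by
  classical
  induction hu using Submodule.span_induction with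
  | mem v hv =>
    obtain ⟨gs, hgs, w, rfl⟩ := hv
    let g' : ℕ → X := fun i => if i < j then gs i else g
    have e1 : ∀ i < j, g' i = gs i := fun i hi => if_pos hi
    have e2 : g' j = g := if_neg (lt_irrefl j)
    refine Submodule.subset_span ⟨g', fun i hi => ?_, w, ?_⟩
    · rcases lt_or_eq_of_le (Nat.lt_succ_iff.1 hi) with h | rfl
      · rw [e1 i h]; exact hgs i h
      · rw [e2]; exact hg
    · show ((ρ (g' j) - 1) * chain ρ g' j) w = _
      rw [e2, chain_congr ρ e1, Module.End.mul_apply]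
  | zero => rw [map_zero]; exact zero_mem _
  | add u v _ _ h1 h2 => rw [map_add]; exact add_mem h1 h2
  | smul c u _ h1 => rw [map_smul]; exact Submodule.smul_mem _ c h1

/-- Some derived step fixes the system. -/
theorem exists_fixed_level (ρ : X →* Module.End K V) {L : Subgroup X} (hL : (Nat.card L : K) ≠ 0)
    {p : ℕ} [Fact p.Prime] {P : Subgroup X} (hP : IsPGroup p P)
    (hnorm : ∀ g ∈ P, ∀ s ∈ L, g * s * g⁻¹ ∈ L) {f : X → K} {v0 : V}
    (hv0 : v0 ∈ eig ρ (L : Set X) f) (hne : v0 ≠ 0) {N : ℕ}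
    (hchain : ∀ g : ℕ → X, (∀ i < N, g i ∈ dser P i) → chain ρ g N = 0) :
    ∃ j < N, (∀ g ∈ dser P j, ∀ s ∈ L, f (g⁻¹ * s * g) = f s) ∧
      (∀ t < j, ∃ g ∈ dser P t, ∃ s ∈ L, f (g⁻¹ * s * g) ≠ f s) ∧
      ∀ g : ℕ → X, (∀ i < N - j, g i ∈ dser P (j + i)) → ∀ v ∈ eig ρ (L : Set X) f,
        chain ρ g (N - j) v = 0 := by
  classical
  haveI := Fintype.ofFinite L
  have hnorm' : ∀ g ∈ P, ∀ s ∈ L, g⁻¹ * s * g ∈ L := fun g hg s hs => by
    simpa using hnorm g⁻¹ (inv_mem hg) s hs
  have hf_mul : ∀ {s t : X}, s ∈ L → t ∈ L → f (s * t) = f s * f t := fun {s t} hs ht => by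
    refine smul_left_injective K hne ?_
    show f (s * t) • v0 = (f s * f t) • v0
    rw [← hv0 _ (mul_mem hs ht), map_mul, Module.End.mul_apply, hv0 t ht, map_smul, hv0 s hs,
      smul_smul, mul_comm]
  have hf_one : f 1 = 1 := smul_left_injective K hne (show f 1 • v0 = (1 : K) • v0 by
    rw [← hv0 1 (one_mem L), map_one, Module.End.one_apply, one_smul])
  have hproj : ∀ v ∈ eig ρ (L : Set X) f, proj ρ L f v = v := by
    intro v hv
    rw [proj_apply]
    simp only [hv _ (Subtype.mem _), smul_smul, ← sum_smul, ← mul_sum]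
    have h1 : ∀ s : L, f (s : X)⁻¹ * f (s : X) = 1 := fun s => by
      rw [← hf_mul (L.inv_mem s.2) s.2, inv_mul_cancel, hf_one]
    simp only [h1, sum_const, card_univ, nsmul_one, ← Nat.card_eq_fintype_card, inv_mul_cancel₀ hL,
      one_smul]
  have horth : ∀ h ∈ P, (∃ s ∈ L, f (h⁻¹ * s * h) ≠ f s) → ∀ v ∈ eig ρ (L : Set X) f,
      proj ρ L (conjF h f) v = 0 := by
    rintro h hh ⟨s0, hs0, hs0'⟩ v hv
    rw [proj_apply]
    simp only [hv _ (Subtype.mem _), smul_smul, ← sum_smul, ← mul_sum]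
    suffices h0 : ∑ s : L, conjF h f (s : X)⁻¹ * f (s : X) = 0 by
      rw [h0, mul_zero, zero_smul]
    set c := f (h⁻¹ * s0⁻¹ * h) * f s0 with hc
    have hc1 : c ≠ 1 := by
      intro e
      refine hs0' ?_
      have e2 : f (h⁻¹ * s0 * h) * f (h⁻¹ * s0⁻¹ * h) = 1 := by
        rw [← hf_mul (hnorm' h hh _ hs0) (hnorm' h hh _ (inv_mem hs0)),
          show h⁻¹ * s0 * h * (h⁻¹ * s0⁻¹ * h) = 1 by group, hf_one]
      calc f (h⁻¹ * s0 * h) = f (h⁻¹ * s0 * h) * c := by rw [e, mul_one]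
        _ = f s0 := by rw [hc, ← mul_assoc, e2, one_mul]
    have h1 : c * ∑ s : L, conjF h f (s : X)⁻¹ * f (s : X) = ∑ s : L, conjF h f (s : X)⁻¹ * f (s : X) := by
      rw [mul_sum]
      refine Fintype.sum_equiv (Equiv.mulLeft (⟨s0, hs0⟩ : L)) _ _ fun s => ?_
      show c * (conjF h f (s : X)⁻¹ * f (s : X)) = conjF h f (s0 * (s : X))⁻¹ * f (s0 * (s : X))
      rw [hf_mul hs0 s.2, conjF, conjF, show h⁻¹ * (s0 * (s : X))⁻¹ * h =
        (h⁻¹ * (s : X)⁻¹ * h) * (h⁻¹ * s0⁻¹ * h) by group,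
        hf_mul (hnorm' h hh _ (inv_mem s.2)) (hnorm' h hh _ (inv_mem hs0)), hc]
      ring
    by_contra h0
    exact hc1 ((mul_eq_right₀ h0).1 h1)
  -- the fixing elements
  let H : Subgroup X :=
    { carrier := {g | g ∈ P ∧ ∀ s ∈ L, f (g⁻¹ * s * g) = f s}
      one_mem' := ⟨one_mem P, fun s _ => by simp⟩
      mul_mem' := fun {g h} hg hh => ⟨mul_mem hg.1 hh.1, fun s hs => by
        rw [show (g * h)⁻¹ * s * (g * h) = h⁻¹ * (g⁻¹ * s * g) * h by group,
          hh.2 _ (hnorm' g hg.1 s hs), hg.2 s hs]⟩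
      inv_mem' := fun {g} hg => ⟨inv_mem hg.1, fun s hs => by
        have h := hg.2 _ (hnorm g hg.1 s hs)
        rw [show g⁻¹ * (g * s * g⁻¹) * g = s by group] at h
        rw [inv_inv, ← h]⟩ }
  have hmoveH : ∀ {g}, g ∈ P → g ∉ H → ∃ s ∈ L, f (g⁻¹ * s * g) ≠ f s := by
    intro g hgP hg
    by_contra hno
    push Not at hno
    exact hg ⟨hgP, hno⟩
  have key : ∀ j, j ≤ N → (∀ t < j, ∃ g ∈ dser P t, ∃ s ∈ L, f (g⁻¹ * s * g) ≠ f s) →
      ∀ v ∈ eig ρ (L : Set X) f, ∃ u ∈ chainSpan ρ P j, proj ρ L f u = v ∧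
        ∀ h ∈ dser P j, (∃ s ∈ L, f (h⁻¹ * s * h) ≠ f s) → proj ρ L (conjF h f) u = 0 := by
    intro j
    induction j with
    | zero => exact fun _ _ v hv => ⟨v, Submodule.subset_span ⟨fun _ => 1, fun i hi => absurd hi (by omega),
        v, rfl⟩, hproj v hv, fun h hh hm => horth h hh hm v hv⟩
    | succ j ih =>
      intro hj hmoved v hv
      obtain ⟨u, hu, hu1, hu2⟩ := ih (by omega) (fun t ht => hmoved t (by omega)) v hv
      obtain ⟨g0, hg0, s0, hs0, hs0'⟩ := hmoved j (by omega)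
      obtain ⟨g, hg, hgx⟩ := exists_mem_not_mem_sup (hP.to_le (dser_le P j))
        (H := H) (fun hle => hs0' ((hle hg0).2 s0 hs0))
      have hgP : g ∈ P := dser_le P j hg
      have hgi : ρ g * proj ρ L (conjF g⁻¹ f) = proj ρ L f * ρ g := by
        rw [proj_conj ρ (hnorm g hgP) (hnorm' g hgP), conjF_conjF, mul_inv_cancel]
        congr 1
        exact proj_congr ρ fun s _ => by simp [conjF]
      have hgu : proj ρ L f (ρ g u) = 0 := by
        rw [← Module.End.mul_apply, ← hgi, Module.End.mul_apply,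
          hu2 _ (inv_mem hg) (hmoveH (inv_mem hgP) fun h => ?_), map_zero]
        have := hgx 1 (one_mem _)
        exact this (by rw [inv_one, one_mul]; simpa using H.inv_mem h)
      refine ⟨-((ρ g - 1) u), Submodule.neg_mem _ (sub_one_mem_chainSpan hg hu), ?_, fun h hh hm => ?_⟩
      · rw [map_neg, LinearMap.sub_apply, Module.End.one_apply, map_sub, hgu, hu1, zero_sub, neg_neg]
      · have hhP : h ∈ P := dser_le P _ hh
        have hhj : h ∈ dser P j := dser_succ_le P j hh
        have e : ρ g * proj ρ L (conjF (g⁻¹ * h) f) = proj ρ L (conjF h f) * ρ g := by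
          rw [proj_conj ρ (hnorm g hgP) (hnorm' g hgP), conjF_conjF, mul_inv_cancel_left]
        have h0 : proj ρ L (conjF h f) (ρ g u) = 0 := by
          rw [← Module.End.mul_apply, ← e, Module.End.mul_apply,
            hu2 _ (mul_mem (inv_mem hg) hhj) (hmoveH (mul_mem (inv_mem hgP) hhP) fun h' => ?_), map_zero]
          exact hgx h hh (by simpa using H.inv_mem h')
        rw [map_neg, LinearMap.sub_apply, Module.End.one_apply, map_sub, h0, hu2 h hhj hm, sub_zero,
          neg_zero]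
  have hbot : ∀ u ∈ chainSpan ρ P N, u = 0 := fun u hu => by
    induction hu using Submodule.span_induction with
    | mem v hv => obtain ⟨g, hg, w, rfl⟩ := hv; rw [hchain g hg, LinearMap.zero_apply]
    | zero => rfl
    | add u v _ _ h1 h2 => rw [h1, h2, add_zero]
    | smul c u _ h1 => rw [h1, smul_zero]
  have hex : ∃ j, j < N ∧ ∀ g ∈ dser P j, ∀ s ∈ L, f (g⁻¹ * s * g) = f s := by
    by_contra hno
    push Not at hno
    obtain ⟨u, hu, hu1, -⟩ := key N le_rfl hno v0 hv0
    exact hne (by rw [← hu1, hbot u hu, map_zero])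
  obtain ⟨hjN, hjfix⟩ := Nat.find_spec hex
  set j := Nat.find hex with hj
  have hmin : ∀ t < j, ∃ g ∈ dser P t, ∃ s ∈ L, f (g⁻¹ * s * g) ≠ f s := fun t ht => by
    have h := Nat.find_min hex ht
    push Not at h
    exact h (by omega)
  refine ⟨j, hjN, hjfix, hmin, fun g hg v hv => ?_⟩
  obtain ⟨u, hu, hu1, -⟩ := key j hjN.le hmin v hv
  have hcom : ∀ k ≤ N - j, Commute (chain ρ g k) (proj ρ L f) ∧ chain ρ g k u ∈ chainSpan ρ P (j + k) := by
    intro k
    induction k with
    | zero => exact fun _ => ⟨Commute.one_left _, hu⟩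
    | succ k ih =>
      intro hk
      obtain ⟨h1, h2⟩ := ih (by omega)
      have hgk := hg k (by omega)
      have hgP : g k ∈ P := dser_le P _ hgk
      have hgj : g k ∈ dser P j := dser_antitone P (Nat.le_add_right j k) hgk
      refine ⟨(Commute.sub_left ?_ (Commute.one_left _)).mul_left h1, sub_one_mem_chainSpan hgk h2⟩
      show _ * _ = _ * _
      rw [proj_conj ρ (hnorm _ hgP) (hnorm' _ hgP),
        proj_congr ρ (f := conjF (g k) f) (f' := f) (hjfix _ hgj)]
  obtain ⟨h1, h2⟩ := hcom (N - j) le_rfl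
  rw [show j + (N - j) = N by omega] at h2
  rw [← hu1, ← Module.End.mul_apply, h1.eq, Module.End.mul_apply, hbot _ h2, map_zero]

end CfsgLib.Core.HHTwoDerived
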