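import Mathlib
import Cfsg.Agent.Lib.Core.HHCritical.TwoDerived.Core
import Cfsg.Agent.Lib.Core.HHCritical.TwoDerived.Orbit
import Cfsg.Agent.Lib.Core.HHCritical.TwoTops.Main

/-!
# The derived series of a `2`-group on one piece

* `centralizes_of_chain`: the last derived step centralises normal abelian subgroups of odd order
* `piece_derived`: on one piece it acts trivially or the step before moves a single plane
-/

set_option autoImplicit false
set_option linter.all false

namespace CfsgLib.Core.HHTwoDerived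

open Subgroup CfsgLib.Core.HHTwo QuadDerived
open scoped commutatorElement

theorem chain_restrict {G : Type*} [Monoid G] {K : Type*} [Field K] {V : Type*} [AddCommGroup V]
    [Module K V] {E : Submodule K V} (r : G →* Module.End K E) (r' : G →* Module.End K V)
    (h : ∀ g (v : E), ((r g v : E) : V) = r' g v) (g : ℕ → G) :
    ∀ (k : ℕ) (v : E), ((chain r g k v : E) : V) = chain r' g k v
  | 0, v => rfl
  | k + 1, v => by
    show (((r (g k) - 1) * chain r g k) v : E).val = ((r' (g k) - 1) * chain r' g k) v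
    simp only [Module.End.mul_apply, LinearMap.sub_apply, Module.End.one_apply, Submodule.coe_sub, h,
      chain_restrict r r' h g k]

variable {X : Type*} [Group X] [Finite X] {K : Type*} [Field K] [IsAlgClosed K] [CharP K 2]
  {V : Type*} [AddCommGroup V] [Module K V] [FiniteDimensional K V] {ρ : X →* Module.End K V}

theorem natCast_ne_zero_of_coprime {n : ℕ} (h : n.Coprime 2) : (n : K) ≠ 0 := by
  rw [ne_eq, CharP.cast_eq_zero_iff K 2, ← Nat.prime_two.coprime_iff_not_dvd]
  exact h.symm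

/-- The last derived step centralises normal abelian subgroups of odd order. -/
theorem centralizes_of_chain (hρ : Function.Injective ρ) {W : Subgroup X} [W.Normal]
    (hWc : ∀ s ∈ W, ∀ t ∈ W, s * t = t * s) (hodd : (Nat.card W).Coprime 2) {P : Subgroup X}
    (hP : IsPGroup 2 P) {n : ℕ}
    (hchain : ∀ g : ℕ → X, (∀ i ≤ n, g i ∈ dser P i) → chain ρ g (n + 1) = 0) :
    dser P n ≤ centralizer (W : Set X) := by
  haveI := Fact.mk Nat.prime_two
  intro a ha
  rw [mem_centralizer_iff]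
  intro s hs
  by_contra hne
  have hz : ⁅a, s⁆ ∈ W := by
    rw [commutatorElement_def]
    exact mul_mem ((inferInstance : W.Normal).conj_mem s hs a) (inv_mem hs)
  have hz1 : ⁅a, s⁆ ≠ 1 := fun h => hne (commutatorElement_eq_one_iff_mul_comm.1 h).symm
  obtain ⟨f, ⟨v, hv, hv0⟩, hf⟩ := exists_char_ne_one ρ hρ hWc hz hz1
    (Nat.coprime_two_right.1 hodd) (orderOf_dvd_iff_pow_eq_one.1 (Subgroup.orderOf_dvd_natCard W hz))
  obtain ⟨j, hj, hfix, -, -⟩ := exists_fixed_level ρ (natCast_ne_zero_of_coprime hodd) hP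
    (fun g _ t ht => (inferInstance : W.Normal).conj_mem t ht g) hv hv0 (N := n + 1)
    (fun g hg => hchain g fun i hi => hg i (by omega))
  have ha' : a ∈ dser P j := dser_antitone P (by omega : j ≤ n) ha
  have hmul : ∀ {x y}, x ∈ W → y ∈ W → f (x * y) = f x * f y := fun {x y} hx hy => by
    refine smul_left_injective K hv0 ?_
    show f (x * y) • v = (f x * f y) • v
    rw [← hv _ (mul_mem hx hy), map_mul, Module.End.mul_apply, hv y hy, map_smul, hv x hx, smul_smul,
      mul_comm]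
  refine hf ?_
  have h1 := hfix _ (inv_mem ha') s hs
  rw [inv_inv] at h1
  rw [commutatorElement_def, hmul ((inferInstance : W.Normal).conj_mem s hs a) (inv_mem hs), h1,
    ← hmul hs (inv_mem hs), mul_inv_cancel]
  exact smul_left_injective K hv0 (show f 1 • v = (1 : K) • v by
    rw [← hv 1 (one_mem W), map_one, Module.End.one_apply, one_smul])

set_option maxHeartbeats 1000000 in
/-- On one piece. -/
theorem piece_derived {q : ℕ} (S : Piece ρ q) (hq : q.Prime) (hq2 : q ≠ 2) (hUq : IsPGroup q S.U)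
    {P : Subgroup X} (hP : IsPGroup 2 P) {n : ℕ}
    (hchain : ∀ g : ℕ → X, (∀ i ≤ n, g i ∈ dser P i) → chain ρ g (n + 1) = 0) :
    (∀ a ∈ dser P n, ∃ h : a ∈ S.Xf, S.φ ⟨a, h⟩ = 1) ∨
      (∃ i, n = i + 1 ∧ q = 3 ∧ ∃ hB : dser P i ≤ S.Xf, ∃ b,
        Plane (S.φ.comp (Subgroup.inclusion hB)) b) := by
  classical
  haveI := Fact.mk Nat.prime_two
  haveI hqf := Fact.mk hq
  obtain ⟨v0, hv0, hv00⟩ := S.wit
  have hoddq : ∀ {L : Subgroup X}, L ≤ S.U → (Nat.card L).Coprime 2 := fun {L} hL => by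
    obtain ⟨i, hi⟩ := IsPGroup.iff_card.1 (hUq.to_le hL)
    rw [hi]
    exact ((Nat.coprime_primes hq Nat.prime_two).2 hq2).pow_left i
  obtain ⟨j, hjN, hjfix, -, hjchain⟩ := exists_fixed_level ρ
    (natCast_ne_zero_of_coprime (hoddq (show S.W ≤ S.U from fun s hs => S.hWU hs))) hP
    (fun g _ s hs => S.nW.conj_mem s hs g) hv0 hv00 (N := n + 1)
    (fun g hg => hchain g fun i hi => hg i (by omega))
  have hjXf : dser P j ≤ S.Xf := fun g hg => hjfix g hg
  set Vl := eig ρ (S.W : Set X) S.f with hVl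
  obtain ⟨μ, v1, hv10, hv1μ, hv1l⟩ : ∃ (μ : X → K) (v : V), v ≠ 0 ∧ v ∈ eig ρ (S.Kl : Set X) μ ∧ v ∈ Vl := by
    have hinv : ∀ s : S.Kl, ∀ v ∈ Vl, ρ (s : X) v ∈ Vl := fun s v hv t ht => by
      rw [← Module.End.mul_apply, ← map_mul, S.hWc ht s.2.1, map_mul, Module.End.mul_apply, hv t ht,
        map_smul]
    haveI : Nontrivial Vl := Submodule.nontrivial_iff_ne_bot.2
      ((Submodule.ne_bot_iff _).2 ⟨v0, hv0, hv00⟩)
    obtain ⟨lam, v, hv, hlam⟩ := CfsgLib.Core.HHCritical.exists_common_eigenvector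
      (fun s : S.Kl => (ρ (s : X)).restrict (hinv s)) (fun s t => LinearMap.ext fun v => Subtype.ext (by
        show ρ (s : X) (ρ (t : X) v) = ρ (t : X) (ρ (s : X) v)
        have e : (s : X) * (t : X) = ⁅(s : X), (t : X)⁆ * ((t : X) * s) := by
          rw [commutatorElement_def]; group
        rw [← Module.End.mul_apply, ← map_mul, e, map_mul, Module.End.mul_apply, map_mul,
          Module.End.mul_apply, (hinv t (ρ (s : X) v) (hinv s v v.2)) _ (S.hcW _ s.2.1 _ t.2.1),
          s.2.2 _ t.2.1, one_smul]))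
    refine ⟨fun x => if h : x ∈ S.Kl then lam ⟨x, h⟩ else 0, (v : V), fun h => hv (Subtype.ext h),
      fun s hs => ?_, v.2⟩
    show ρ s (v : V) = (if h : s ∈ S.Kl then lam ⟨s, h⟩ else 0) • (v : V)
    rw [dif_pos (show s ∈ S.Kl from hs)]
    exact congrArg Subtype.val (hlam ⟨s, hs⟩)
  have hVlinv : ∀ b : S.Xf, ∀ v ∈ Vl, ρ (b : X) v ∈ Vl := by
    intro b v hv s hs
    refine (eig_conj ρ (S.hWconj (b : X)) hv s hs).trans ?_
    show S.f ((b : X)⁻¹ * s * b) • _ = _
    rw [b.2 s hs]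
  have hUXf : S.U ≤ S.Xf := fun x hx => S.centralizer_le_Xf
    (mem_centralizer_iff.2 fun s hs => S.hWc hs hx)
  let ρl : S.Xf →* Module.End K Vl :=
    { toFun := fun b => (ρ (b : X)).restrict (hVlinv b)
      map_one' := LinearMap.ext fun v => Subtype.ext (by
        show ρ ((1 : S.Xf) : X) (v : V) = v
        rw [Subgroup.coe_one, map_one]; rfl)
      map_mul' := fun b c => LinearMap.ext fun v => Subtype.ext (by
        show ρ ((b * c : S.Xf) : X) (v : V) = ρ (b : X) (ρ (c : X) v)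
        rw [Subgroup.coe_mul, map_mul]; rfl) }
  set L2 := S.Kl.subgroupOf S.Xf with hL2
  have hL2odd : (Nat.card L2 : K) ≠ 0 := by
    rw [Nat.card_congr (Subgroup.subgroupOfEquivOfLe (show S.Kl ≤ S.Xf from
      fun s hs => hUXf hs.1)).toEquiv]
    exact natCast_ne_zero_of_coprime (hoddq fun s hs => hs.1)
  set P2 := (dser P j).subgroupOf S.Xf with hP2
  have hP2p : IsPGroup 2 P2 :=
    (hP.to_le (dser_le P j)).of_equiv (Subgroup.subgroupOfEquivOfLe hjXf).symm
  have hP2d : ∀ i, (dser P2 i).map S.Xf.subtype = dser P (j + i) := fun i => by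
    rw [map_dser, hP2, map_subgroupOf_eq_of_le hjXf, dser_add]
  have hnorm2 : ∀ g ∈ P2, ∀ s ∈ L2, g * s * g⁻¹ ∈ L2 := by
    intro g _ s hs
    rw [hL2, mem_subgroupOf] at hs ⊢
    have h := S.Kl_conj (S.Xf.inv_mem g.2) _ hs
    rw [inv_inv] at h
    exact h
  set μl : S.Xf → K := fun s => μ (s : X) with hμl
  have hv1E : (⟨v1, hv1l⟩ : Vl) ∈ eig ρl (L2 : Set S.Xf) μl := fun s hs => Subtype.ext (hv1μ (s : X) hs)
  obtain ⟨j2, hj2N, hj2fix, -, hj2chain⟩ := exists_fixed_level ρl hL2odd hP2p hnorm2 hv1E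
    (fun h => hv10 (congrArg Subtype.val h)) (N := n + 1 - j) (fun g hg => LinearMap.ext fun v =>
      Subtype.ext (by
        rw [chain_restrict ρl (ρ.comp S.Xf.subtype) (fun b w => rfl) g, chain_map, LinearMap.zero_apply,
          Submodule.coe_zero]
        exact hjchain _ (fun i hi => (hP2d i).le (mem_map_of_mem _ (hg i hi))) v v.2))
  obtain ⟨m, hm⟩ : ∃ m, n = j + j2 + m := ⟨n - (j + j2), by omega⟩
  set G := dser P2 j2 with hG
  have hGp : IsPGroup 2 G := hP2p.to_le (dser_le P2 j2)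
  set E := eig ρl (L2 : Set S.Xf) μl with hE
  haveI : Nontrivial E := Submodule.nontrivial_iff_ne_bot.2
    ((Submodule.ne_bot_iff _).2 ⟨_, hv1E, fun h => hv10 (congrArg Subtype.val h)⟩)
  have hEG : ∀ g : G, ∀ v ∈ E, ρl (g : S.Xf) v ∈ E := by
    intro g v hv s hs
    refine (eig_conj ρl (g := (g : S.Xf)) (fun t ht => ?_) hv s hs).trans ?_
    · have := hnorm2 _ (P2.inv_mem (dser_le P2 j2 g.2)) t ht
      rwa [inv_inv] at this
    · show μl ((g : S.Xf)⁻¹ * s * g) • _ = _
      rw [hj2fix _ g.2 s hs]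
  have hEU : ∀ y : S.Xf, (y : X) ∈ S.U → ∀ v ∈ E, ρl y v ∈ E := by
    intro y hy v hv s hs
    refine Subtype.ext ?_
    show ρ (s : X) (ρ (y : X) v) = μ (s : X) • ρ (y : X) v
    have hs' : (s : X) ∈ S.Kl := hs
    have e : (s : X) * y = ⁅(s : X), (y : X)⁆ * (y * s) := by rw [commutatorElement_def]; group
    have hsW : ⁅(s : X), (y : X)⁆ ∈ S.W := S.hcW _ hs'.1 _ hy
    have h1 : ρ (s : X) (v : V) = μ (s : X) • (v : V) := congrArg Subtype.val (hv s hs)
    have h2 := (v : Vl).2 _ hsW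
    rw [← Module.End.mul_apply, ← map_mul, e, map_mul, map_mul, Module.End.mul_apply,
      Module.End.mul_apply, h1, map_smul, map_smul]
    congr 1
    rw [← Module.End.mul_apply, ← map_mul, S.hWc hsW hy, map_mul, Module.End.mul_apply, h2, hs'.2 _ hy,
      one_smul]
  let r : G →* Module.End K E :=
    { toFun := fun g => (ρl (g : S.Xf)).restrict (hEG g)
      map_one' := LinearMap.ext fun v => Subtype.ext (by
        show ρl ((1 : G) : S.Xf) (v : Vl) = v
        rw [Subgroup.coe_one, map_one]; rfl)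
      map_mul' := fun b c => LinearMap.ext fun v => Subtype.ext (by
        show ρl ((b * c : G) : S.Xf) (v : Vl) = ρl (b : S.Xf) (ρl (c : S.Xf) v)
        rw [Subgroup.coe_mul, map_mul]; rfl) }
  let sec : S.Q → S.U := fun x => x.out
  have hsec : ∀ x, ((sec x : S.U) : S.Q) = x := fun x => QuotientGroup.out_eq' x
  let up : S.U → S.Xf := fun y => ⟨y, hUXf y.2⟩
  let act : S.U → Module.End K E := fun y => (ρl (up y)).restrict (hEU (up y) y.2)
  have hact : ∀ y (v : E), (((act y v : E) : Vl) : V) = ρ (y : X) ((v : Vl) : V) := fun y v => rfl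
  have hactmul : ∀ y z, act (y * z) = act y * act z := fun y z =>
    LinearMap.ext fun v => Subtype.ext (Subtype.ext (by
      show ρ ((y * z : S.U) : X) _ = ρ (y : X) (ρ (z : X) _)
      rw [Subgroup.coe_mul, map_mul]; rfl))
  have hact1 : act 1 = 1 := LinearMap.ext fun v => Subtype.ext (Subtype.ext (by
    show ρ ((1 : S.U) : X) _ = _
    rw [Subgroup.coe_one, map_one]; rfl))
  have hclass : ∀ y z : S.U, (y : S.Q) = (z : S.Q) → ∃ c : K, act y = c • act z := by
    intro y z h
    have hd : (z : X)⁻¹ * y ∈ S.Kl := S.mk_eq_mk.1 h.symm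
    refine ⟨μ ((z : X)⁻¹ * y), LinearMap.ext fun v => Subtype.ext (Subtype.ext ?_)⟩
    show ρ (y : X) ((v : Vl) : V) = μ _ • ρ (z : X) ((v : Vl) : V)
    have h1 : ρ ((z : X)⁻¹ * y) ((v : Vl) : V) = μ ((z : X)⁻¹ * y) • ((v : Vl) : V) :=
      congrArg Subtype.val (v.2 ⟨(z : X)⁻¹ * y, hUXf hd.1⟩ hd)
    rw [← map_smul, ← h1, ← Module.End.mul_apply, ← map_mul, mul_inv_cancel_left]
  have hp1 := S.pairing 1
  let T : Tw S.Q K E :=
    { e := fun x => act (sec x)
      unit := fun x => ⟨⟨act (sec x), act (sec x)⁻¹, by rw [← hactmul, mul_inv_cancel, hact1],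
        by rw [← hactmul, inv_mul_cancel, hact1]⟩, rfl⟩
      χ := S.χ
      comm := fun x y => LinearMap.ext fun v => Subtype.ext (Subtype.ext (by
        show ρ (sec x : X) (ρ (sec y : X) ((v : Vl) : V)) = S.f ⁅(sec x : X), (sec y : X)⁆ • ρ (sec y : X) (ρ (sec x : X) ((v : Vl) : V))
        have e1 : (sec x : X) * sec y = ⁅(sec x : X), (sec y : X)⁆ * ((sec y : X) * sec x) := by
          rw [commutatorElement_def]; group
        have h2 := ((act (sec y) (act (sec x) v) : E) : Vl).2 _ (S.hcW _ (sec x).2 _ (sec y).2)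
        rw [hact, hact] at h2
        rw [← Module.End.mul_apply, ← map_mul, e1, map_mul, Module.End.mul_apply, map_mul,
          Module.End.mul_apply, h2]))
      mul := fun x y => by
        obtain ⟨c, hc⟩ := hclass (sec (x * y)) (sec x * sec y) (by
          rw [hsec, QuotientGroup.mk_mul, hsec, hsec])
        exact ⟨c, by rw [hc, hactmul]⟩
      nd := hp1.nd
      card_ne := natCast_ne_zero_of_coprime (by
        obtain ⟨i, hi⟩ := IsPGroup.iff_card.1
          (show IsPGroup q S.Q from fun x => ⟨1, by rw [pow_one]; exact S.pow_Q x⟩)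
        rw [hi]
        exact ((Nat.coprime_primes hq Nat.prime_two).2 hq2).pow_left i) }
  let A : Act T G :=
    { r := r
      σ := S.φ.comp G.subtype
      intw := fun g x => by
        set y : S.U := ⟨((g : S.Xf) : X) * (sec x : X) * ((g : S.Xf) : X)⁻¹, S.hconj' _ (sec x).2⟩ with hy
        obtain ⟨c, hc⟩ := hclass y (sec (S.φ (g : S.Xf) x)) (by
          rw [hsec]; conv_rhs => rw [← hsec x, S.φ_mk])
        refine ⟨c, ?_⟩
        show r g * act (sec x) = c • (act (sec (S.φ (g : S.Xf) x)) * r g)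
        rw [← smul_mul_assoc, ← hc]
        refine LinearMap.ext fun v => Subtype.ext (Subtype.ext ?_)
        show ρ ((g : S.Xf) : X) (ρ (sec x : X) _) = ρ (y : X) (ρ ((g : S.Xf) : X) _)
        rw [← Module.End.mul_apply, ← Module.End.mul_apply, ← map_mul, ← map_mul, hy,
          inv_mul_cancel_right] }
  have hGd : ∀ i, (dser (⊤ : Subgroup G) i).map G.subtype = dser P2 (j2 + i) := fun i => by
    rw [map_subtype_dser_top, hG, dser_add]
  have hchA : ∀ g : ℕ → G, (∀ i ≤ m, g i ∈ dser (⊤ : Subgroup G) i) → chain A.r g (m + 1) = 0 := by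
    intro g hg
    refine LinearMap.ext fun v => Subtype.ext ?_
    show ((chain r g (m + 1) : Module.End K E) v : E).val = 0
    rw [chain_restrict r (ρl.comp G.subtype) (fun b w => rfl) g, chain_map,
      show m + 1 = n + 1 - j - j2 by omega]
    exact hj2chain _ (fun i hi => (hGd i).le (mem_map_of_mem _ (hg i (by omega)))) _ v.2
  have hGX : ∀ i x, x ∈ dser P (j + j2 + i) →
      ∃ g : G, g ∈ dser (⊤ : Subgroup G) i ∧ ((g : S.Xf) : X) = x := by
    intro i x hx
    rw [add_assoc, ← hP2d, ← hGd] at hx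
    obtain ⟨_, ⟨g, hg, rfl⟩, rfl⟩ := hx
    exact ⟨g, hg, rfl⟩
  rcases A.core hq (hq.odd_of_ne_two hq2) S.pow_Q hGp hchA with h | ⟨hm1, hq3, b, hb⟩
  · left
    intro a ha
    rw [hm] at ha
    obtain ⟨g, hg, rfl⟩ := hGX m a ha
    exact ⟨(g : S.Xf).2, h g hg⟩
  · right
    subst hm1
    obtain ⟨k, hk⟩ : ∃ k, k = j + j2 + 0 := ⟨_, rfl⟩
    have hn1 : k = j + j2 + 0 := hk
    have hB : dser P k ≤ S.Xf := fun x hx => by
      rw [hn1] at hx
      obtain ⟨g, -, rfl⟩ := hGX 0 x hx
      exact (g : S.Xf).2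
    refine ⟨k, by omega, hq3, hB, ?_⟩
    -- the two copies of the group
    have hmem : ∀ g : G, ((g : S.Xf) : X) ∈ dser P k := fun g => by
      rw [hn1, add_zero, ← hP2d]
      exact mem_map_of_mem _ g.2
    let ψ : G →* dser P k := (S.Xf.subtype.comp G.subtype).codRestrict _ hmem
    have hψs : Function.Surjective ψ := fun x => by
      obtain ⟨g, -, hg⟩ := hGX 0 (x : X) (hn1 ▸ x.2)
      exact ⟨g, Subtype.ext hg⟩
    have hψ : ∀ g, (S.φ.comp (Subgroup.inclusion hB)) (ψ g) = A.σ g := fun g => rfl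
    refine ⟨ψ b, ?_, ?_, fun x y hy => ?_, fun x => ?_, fun x hx => ?_⟩
    · rw [← map_mul ψ, hψ]; exact hb.four
    · rw [← map_mul ψ, hψ]; exact hb.card
    · obtain ⟨g, rfl⟩ := hψs x
      rw [← map_mul ψ, hψ] at hy
      rw [hψ]; exact hb.fix g y hy
    · obtain ⟨g, rfl⟩ := hψs x
      rw [← map_mul ψ, ← map_mul ψ, hψ, hψ]
      exact hb.sq g
    · rw [← Subgroup.map_top_of_surjective ψ hψs, ← map_dser] at hx
      obtain ⟨g, hg, rfl⟩ := hx
      rw [← map_mul ψ, hψ, hψ]
      exact hb.comm g hg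

end CfsgLib.Core.HHTwoDerived
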