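import Mathlib
import Cfsg.Agent.Lib.Core.HHCritical.TwoDerived.PieceDerived
import Cfsg.Agent.Lib.Core.HHCritical.TwoTops.Step

/-!
# The last derived step lies in `O_{2',2}`

* `topA n X`: generated by the `n`-th derived subgroups of the Sylow `2`-subgroups
* `tops_piece'`, `topA_le_pCore`: it lies in `O_{2',2}` when the products of length `n + 1` vanish
-/

set_option autoImplicit false
set_option linter.all false

namespace CfsgLib.Core.HHTwoDerived

open Subgroup CfsgLib.Core.HHTwo CfsgLib.Core.HHTop QuadDerived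
open scoped commutatorElement

/-- The products along the derived series of every Sylow `2`-subgroup vanish. -/
def LinData {X : Type*} [Group X] {K : Type*} [Field K] {V : Type*} [AddCommGroup V] [Module K V]
    (n : ℕ) (ρ : X →* Module.End K V) : Prop :=
  ∀ P : Sylow 2 X, ∀ g : ℕ → X, (∀ i ≤ n, g i ∈ dser (P : Subgroup X) i) → chain ρ g (n + 1) = 0

/-- Generated by the `n`-th derived subgroups of the Sylow `2`-subgroups. -/
def topA (n : ℕ) (X : Type*) [Group X] : Subgroup X :=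
  closure {a | ∃ P : Sylow 2 X, a ∈ dser (P : Subgroup X) n}

theorem mem_topA {n : ℕ} {X : Type*} [Group X] {P : Sylow 2 X} {a : X}
    (ha : a ∈ dser (P : Subgroup X) n) : a ∈ topA n X := subset_closure ⟨P, ha⟩

theorem normal_topA (n : ℕ) (X : Type*) [Group X] : (topA n X).Normal := by
  refine ⟨fun a ha g => ?_⟩
  have h : topA n X ≤ (topA n X).comap (MulAut.conj g).toMonoidHom := (closure_le _).2 (by
    rintro b ⟨P, hb⟩
    refine mem_topA (P := g • P) ?_
    have h1 : (MulAut.conj g) b ∈ (dser (P : Subgroup X) n).map (MulAut.conj g).toMonoidHom :=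
      ⟨b, hb, rfl⟩
    rw [map_dser] at h1
    exact h1)
  exact h ha

variable {X : Type*} [Group X] [Finite X]

theorem map_topA {n : ℕ} {Y : Type*} [Group Y] [Finite Y] {f : X →* Y} (hf : Function.Surjective f) :
    (topA n X).map f = topA n Y := by
  haveI := Fact.mk Nat.prime_two
  refine le_antisymm ?_ ((closure_le _).2 ?_)
  · rw [topA, MonoidHom.map_closure, closure_le]
    rintro _ ⟨a, ⟨P, ha⟩, rfl⟩
    refine mem_topA (P := P.mapSurjective hf) ?_
    rw [Sylow.coe_mapSurjective, ← map_dser]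
    exact mem_map_of_mem f ha
  · rintro b ⟨P, hb⟩
    obtain ⟨P', rfl⟩ := Sylow.mapSurjective_surjective hf 2 P
    rw [Sylow.coe_mapSurjective, ← map_dser] at hb
    obtain ⟨a, ha, rfl⟩ := hb
    exact ⟨a, mem_topA ha, rfl⟩

/-- Sylow subgroups of a supplement to a `2'`-core are Sylow subgroups. -/
theorem exists_sylow_eq_map [(Cfsg.pPrimeCore 2 X).Normal] {N : Subgroup X}
    (hN : Function.Surjective ((QuotientGroup.mk' (Cfsg.pPrimeCore 2 X)).comp N.subtype))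
    (Q : Sylow 2 N) : ∃ P : Sylow 2 X, (P : Subgroup X) = (Q : Subgroup N).map N.subtype := by
  haveI := Fact.mk Nat.prime_two
  obtain ⟨P, hP⟩ := (Q.2.map N.subtype).exists_le_sylow
  refine ⟨P, (Subgroup.eq_of_le_of_card_ge hP ?_).symm⟩
  rw [Subgroup.card_map_of_injective N.subtype_injective]
  obtain ⟨j, hj⟩ := IsPGroup.iff_card.1 P.2
  set π := QuotientGroup.mk' (Cfsg.pPrimeCore 2 X) with hπ
  have hinj : Function.Injective (π.comp (P : Subgroup X).subtype) := by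
    rw [injective_iff_map_eq_one]
    rintro ⟨x, hx⟩ h
    obtain ⟨k, hk⟩ := P.2 ⟨x, hx⟩
    exact Subtype.ext (eq_one_of_mk_eq_one ⟨k, congrArg Subtype.val hk⟩ h)
  have hdvd : Nat.card (P : Subgroup X) ∣ Nat.card N :=
    (Subgroup.card_dvd_of_injective _ hinj).trans (Subgroup.card_dvd_of_surjective _ hN)
  rw [hj] at hdvd ⊢
  exact Nat.le_of_dvd Nat.card_pos (Q.pow_dvd_card_of_pow_dvd_card hdvd)

variable {K : Type*} [Field K] [IsAlgClosed K] [CharP K 2] {V : Type*} [AddCommGroup V] [Module K V]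
  [FiniteDimensional K V]

theorem linData_subgroup [(Cfsg.pPrimeCore 2 X).Normal] {n : ℕ} {ρ : X →* Module.End K V}
    (h : LinData n ρ) {N : Subgroup X}
    (hN : Function.Surjective ((QuotientGroup.mk' (Cfsg.pPrimeCore 2 X)).comp N.subtype)) :
    LinData n (ρ.comp N.subtype) := by
  intro Q g hg
  obtain ⟨P, hP⟩ := exists_sylow_eq_map hN Q
  rw [chain_map]
  refine h P _ fun i hi => ?_
  rw [hP, ← map_dser]
  exact mem_map_of_mem _ (hg i hi)

/-- The last derived steps on one piece. -/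
theorem top_piece_cases {ρ : X →* Module.End K V} {n : ℕ} (hlin : LinData n ρ) {q : ℕ} (S : Piece ρ q)
    (hq : q.Prime) (hq2 : q ≠ 2) (hUq : IsPGroup q S.U) (P : Sylow 2 X) {a : X}
    (ha : a ∈ dser (P : Subgroup X) n) (haX : a ∈ S.Xf) :
    S.φ ⟨a, haX⟩ = 1 ∨ (q = 3 ∧ ∃ w : S.Xf, Good 3 (S.φ w) ∧ S.φ ⟨a, haX⟩ = S.φ w ^ 2) := by
  rcases piece_derived S hq hq2 hUq P.2 (hlin P) with h | ⟨i, rfl, hq3, hB, b, hb⟩
  · obtain ⟨_, h⟩ := h a ha
    exact Or.inl h
  · skip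
    set σ := S.φ.comp (Subgroup.inclusion hB) with hσ
    have ha' : (⟨a, dser_succ_le _ i ha⟩ : dser (P : Subgroup X) i) ∈
        dser (⊤ : Subgroup (dser (P : Subgroup X) i)) 1 := by
      have h1 : a ∈ dser (dser (P : Subgroup X) i) 1 := by rw [dser_add]; exact ha
      rw [← map_subtype_dser_top] at h1
      obtain ⟨a', ha', he⟩ := h1
      rwa [show (⟨a, dser_succ_le _ i ha⟩ : dser (P : Subgroup X) i) = a' from Subtype.ext he.symm]
    rcases hb.comm _ ha' with h | h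
    · exact Or.inl h
    refine Or.inr ⟨hq3, Subgroup.inclusion hB b, ⟨?_, fun v hv => ?_, ?_⟩, ?_⟩
    · have h4 := hb.four
      rw [map_mul] at h4
      show σ b ^ 4 = 1
      rw [show (4 : ℕ) = 2 * 2 from rfl, pow_mul, sq, sq]
      exact h4
    · refine hb.fix b v ?_
      rw [map_mul]
      rw [sq] at hv
      exact hv
    · rw [sq]
      have := hb.card
      rw [map_mul] at this
      exact this.trans (by norm_num)
    · rw [sq]
      rw [map_mul] at h
      exact h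

/-- The tops in one piece. -/
theorem per_char' [Fact (Nat.Prime 2)] {ρ : X →* Module.End K V} (hsol : Cfsg.IsPSolvable 2 X) {n : ℕ}
    (hlin : LinData n ρ) {q : ℕ} (S : Piece ρ q) (hq : q.Prime) (hq2 : q ≠ 2) (hUq : IsPGroup q S.U)
    (hfix : ∀ P : Sylow 2 X, dser (P : Subgroup X) n ≤ centralizer (S.W : Set X)) :
    ∃ J L : Subgroup X, (∀ P : Sylow 2 X, dser (P : Subgroup X) n ≤ J) ∧
      (∀ x ∈ J, x ^ 2 ^ Nat.card X ∈ L) ∧
      (∀ g ∈ centralizer (S.W : Set X), ∀ x ∈ L, g * x * g⁻¹ ∈ L) ∧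
      (∀ N : Subgroup X, N.Normal → N ≤ centralizer (S.W : Set X) → (Nat.card N).Coprime 2 → N ≤ L) ∧
      ∀ d ∈ L, (∃ k, d ^ 2 ^ k = 1) → ∀ u ∈ S.U, ∀ y ∈ S.U, S.f ⁅⁅d, u⁆, y⁆ = 1 := by
  classical
  haveI hqf := Fact.mk hq
  have hNcXf : centralizer (S.W : Set X) ≤ S.Xf := S.centralizer_le_Xf
  haveI : Finite S.φ.range := Finite.of_surjective _ S.φ.rangeRestrict_surjective
  set KΓ := Cfsg.pPrimeCore 2 S.φ.range with hKΓ
  set κ := QuotientGroup.mk' KΓ with hκ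
  let JΓ : Subgroup S.Xf := ((Cfsg.pCore 2 (S.φ.range ⧸ KΓ)).comap κ).comap S.φ.rangeRestrict
  let LΓ : Subgroup S.Xf := KΓ.comap S.φ.rangeRestrict
  refine ⟨JΓ.map S.Xf.subtype, LΓ.map S.Xf.subtype, ?_, ?_, ?_, ?_, ?_⟩
  rotate_left
  · rintro _ ⟨x, hx, rfl⟩
    refine ⟨x ^ 2 ^ Nat.card X, ?_, map_pow _ _ _⟩
    show S.φ.rangeRestrict (x ^ 2 ^ Nat.card X) ∈ KΓ
    rw [map_pow, ← QuotientGroup.eq_one_iff, QuotientGroup.mk_pow]
    have hcard : Nat.card (Cfsg.pCore 2 (S.φ.range ⧸ KΓ)) ≤ Nat.card X :=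
      (Subgroup.card_le_card_group _).trans
        ((Nat.card_le_card_of_surjective _ (QuotientGroup.mk'_surjective KΓ)).trans
          ((Nat.card_le_card_of_surjective _ S.φ.rangeRestrict_surjective).trans
            (Subgroup.card_le_card_group S.Xf)))
    obtain ⟨j, hj⟩ := IsPGroup.iff_card.1 (isPGroup_pCore 2 (S.φ.range ⧸ KΓ))
    have hjX : j ≤ Nat.card X := by
      have := Nat.lt_two_pow_self (n := j)
      omega
    refine orderOf_dvd_iff_pow_eq_one.1 (Dvd.dvd.trans ?_ (Nat.pow_dvd_pow 2 hjX))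
    rw [← hj]
    exact Subgroup.orderOf_dvd_natCard _ hx
  · rintro g hg _ ⟨x, hx, rfl⟩
    refine ⟨⟨g, hNcXf hg⟩ * x * (⟨g, hNcXf hg⟩ : S.Xf)⁻¹, ?_, rfl⟩
    exact ((normal_pPrimeCore 2 S.φ.range).comap S.φ.rangeRestrict).conj_mem x hx _
  · intro N hN hNW hNodd x hx
    refine ⟨⟨x, hNcXf (hNW hx)⟩, ?_, rfl⟩
    show S.φ.rangeRestrict ⟨x, hNcXf (hNW hx)⟩ ∈ KΓ
    haveI : ((N.subgroupOf S.Xf).map S.φ.rangeRestrict).Normal :=
      (hN.subgroupOf S.Xf).map _ S.φ.rangeRestrict_surjective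
    refine le_pPrimeCore ?_ (mem_map_of_mem _ (mem_subgroupOf.2 hx))
    refine Nat.Coprime.coprime_dvd_left ((Subgroup.card_map_dvd _ _).trans ?_) hNodd
    rw [Nat.card_congr (Subgroup.subgroupOfEquivOfLe (hNW.trans hNcXf)).toEquiv]
  · rintro _ ⟨d, hd, rfl⟩ ⟨k, hk⟩
    have hd1 : S.φ.rangeRestrict d = 1 := by
      have h1 : S.φ.rangeRestrict d ^ 2 ^ k = 1 := by
        rw [← map_pow, show d ^ 2 ^ k = 1 from Subtype.ext (by simpa using hk), map_one]
      have h2 : S.φ.rangeRestrict d ^ Nat.card KΓ = 1 :=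
        orderOf_dvd_iff_pow_eq_one.1 (Subgroup.orderOf_dvd_natCard _ hd)
      have h3 := pow_gcd_eq_one.mpr (⟨h1, h2⟩ :
        S.φ.rangeRestrict d ^ 2 ^ k = 1 ∧ S.φ.rangeRestrict d ^ Nat.card KΓ = 1)
      rwa [((coprime_card_pPrimeCore 2 S.φ.range).symm.pow_left k).gcd_eq_one, pow_one] at h3
    exact (S.φ_eq_one_iff d).1 (congrArg Subtype.val hd1)
  -- the tops
  intro P a ha
  have haX : a ∈ S.Xf := hNcXf (hfix P ha)
  refine ⟨⟨a, haX⟩, ?_, rfl⟩
  show κ (S.φ.rangeRestrict ⟨a, haX⟩) ∈ Cfsg.pCore 2 (S.φ.range ⧸ KΓ)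
  rcases top_piece_cases hlin S hq hq2 hUq P ha haX with h | ⟨rfl, w, hgood, hw⟩
  · rw [show S.φ.rangeRestrict ⟨a, haX⟩ = 1 from Subtype.ext h, map_one]
    exact one_mem _
  -- a good element and a Sylow subgroup of the image
  set γ := S.φ.rangeRestrict w with hγ
  have hsq2 : γ ^ 2 = S.φ.rangeRestrict ⟨a, haX⟩ := Subtype.ext (by rw [coe_pow]; exact hw.symm)
  have hγP : IsPGroup 2 (zpowers γ) := by
    obtain ⟨j, -, hj⟩ := (Nat.dvd_prime_pow Nat.prime_two).1 (orderOf_dvd_of_pow_eq_one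
      (show γ ^ 4 = 1 from Subtype.ext (by rw [coe_pow]; exact hgood.four)) : orderOf γ ∣ 2 ^ 2)
    exact IsPGroup.of_card (n := j) (by rw [Nat.card_zpowers, hj])
  obtain ⟨P', hP'⟩ := hγP.exists_le_sylow
  have hY : Cfsg.IsPSolvable 2 (S.φ.range ⧸ KΓ) :=
    CfsgLib.PLocal.isPSolvable_quotient (CfsgLib.PLocal.isPSolvable_of_surjective _
      S.φ.rangeRestrict_surjective (CfsgLib.PLocal.isPSolvable_subgroup hsol S.Xf)) _
  rw [← hsq2, map_pow]
  refine sq_mem_pCore hY (pPrimeCore_quotient_pPrimeCore 2 S.φ.range)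
    (P'.mapSurjective (QuotientGroup.mk'_surjective KΓ)) ?_
  rintro _ ⟨t, ht, rfl⟩
  have hPm : IsPGroup 2 ((P' : Subgroup S.φ.range).map S.φ.range.subtype) := P'.2.map _
  rcases Good.conj_inv_or_self (hqf := hqf) (show (3 : ℕ) % 4 = 3 by norm_num) S.pow_Q hPm
    (show Good 3 (S.φ.range.subtype γ) from hgood) (mem_map_of_mem _ (hP' (mem_zpowers γ)))
    (mem_map_of_mem _ ht) with h' | h'
  · left
    have h'' : γ⁻¹ * ((t * γ * t⁻¹)⁻¹ * γ) * γ = (t * γ * t⁻¹)⁻¹ * γ := Subtype.ext h'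
    have := congrArg κ h''
    simpa only [map_mul, map_inv] using this
  · right
    have h'' : γ⁻¹ * ((t * γ * t⁻¹)⁻¹ * γ) * γ = ((t * γ * t⁻¹)⁻¹ * γ)⁻¹ := Subtype.ext h'
    have := congrArg κ h''
    simpa only [map_mul, map_inv] using this

/-- The tops seen by one Sylow subgroup of `O_{2'}`. -/
theorem tops_piece' [(Cfsg.pPrimeCore 2 X).Normal] (hsol : Cfsg.IsPSolvable 2 X)
    (ρ : X →* Module.End K V) (hρ : Function.Injective ρ) {n : ℕ} (hlin : LinData n ρ)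
    {q : ℕ} [hqf : Fact q.Prime] (hq2 : q ≠ 2) (S : Sylow q (Cfsg.pPrimeCore 2 X)) :
    ∃ D : Subgroup (X ⧸ Cfsg.pPrimeCore 2 X),
      (∀ a ∈ topA n (X ⧸ Cfsg.pPrimeCore 2 X), ∀ x ∈ D, a * x * a⁻¹ ∈ D) ∧
      (∀ y ∈ topA n (X ⧸ Cfsg.pPrimeCore 2 X), y ^ 2 ^ Nat.card X ∈ D) ∧
      ∀ d : X, (∃ k, d ^ 2 ^ k = 1) →
        d ∈ normalizer ((S : Subgroup _).map (Cfsg.pPrimeCore 2 X).subtype : Set X) →
        QuotientGroup.mk' (Cfsg.pPrimeCore 2 X) d ∈ D →
        ∀ s ∈ (S : Subgroup _).map (Cfsg.pPrimeCore 2 X).subtype, d * s = s * d := by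
  classical
  haveI := Fact.mk Nat.prime_two
  set S' := (S : Subgroup (Cfsg.pPrimeCore 2 X)).map (Cfsg.pPrimeCore 2 X).subtype with hS'
  set G := normalizer (S' : Set X) with hG
  set π := (QuotientGroup.mk' (Cfsg.pPrimeCore 2 X)).comp G.subtype with hπ
  have hπs : Function.Surjective π := normalizer_covers S
  have hlinG : LinData n (ρ.comp G.subtype) := linData_subgroup hlin hπs
  have hρG : Function.Injective (ρ.comp G.subtype) := hρ.comp G.subtype_injective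
  obtain ⟨U, hUn, hUQ, hUq, hUc, hUp, hUs⟩ := exists_piece (X := G) (q := q)
  haveI := hUn
  set W := U ⊓ centralizer (U : Set G) with hW
  haveI hWn : W.Normal := by rw [hW]; infer_instance
  have hWab : ∀ s ∈ W, ∀ t ∈ W, s * t = t * s := fun s hs t ht =>
    (mem_centralizer_iff.1 hs.2 t ht.1).symm
  have hWodd : (Nat.card W).Coprime 2 := by
    obtain ⟨j, hj⟩ := IsPGroup.iff_card.1 (hUq.to_le (inf_le_left : W ≤ U))
    rw [hj]
    exact ((Nat.coprime_primes hqf.out Nat.prime_two).2 hq2).pow_left j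
  have hfixW : ∀ P : Sylow 2 G, dser (P : Subgroup G) n ≤ centralizer (W : Set G) := fun P =>
    centralizes_of_chain hρG hWab hWodd P.2 (hlinG P)
  let ι := {f : G → K // ∃ v, v ∈ eig (ρ.comp G.subtype) (W : Set G) f ∧ v ≠ 0}
  choose J L hJa hJL hLn hLo hLd using fun f : ι =>
    per_char' (CfsgLib.PLocal.isPSolvable_subgroup hsol G) hlinG
      (⟨U, W, hUn, hW, hUc, hUp, f.1, f.2⟩ : Piece (ρ.comp G.subtype) q) hqf.out hq2 hUq hfixW
  set T := topA n G with hT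
  have hTW : T ≤ centralizer (W : Set G) := (closure_le _).2 (by
    rintro a ⟨P, ha⟩; exact hfixW P ha)
  have hTJ : ∀ f, T ≤ J f := fun f => (closure_le _).2 (by
    rintro a ⟨P, ha⟩; exact hJa f P ha)
  set D0 := T ⊓ ⨅ f, L f with hD0
  refine ⟨D0.map π, ?_, ?_, ?_⟩
  · rintro a ha _ ⟨x, hx, rfl⟩
    rw [← map_topA (n := n) hπs] at ha
    obtain ⟨t, ht, rfl⟩ := ha
    refine ⟨t * x * t⁻¹, Subgroup.mem_inf.2 ⟨(normal_topA n G).conj_mem x hx.1 t,
      Subgroup.mem_iInf.2 fun f => hLn f t (hTW ht) x (Subgroup.mem_iInf.1 hx.2 f)⟩, ?_⟩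
    rw [map_mul, map_mul, map_inv]
  · intro y hy
    rw [← map_topA (n := n) hπs] at hy
    obtain ⟨t, ht, rfl⟩ := hy
    refine ⟨t ^ 2 ^ Nat.card X, Subgroup.mem_inf.2 ⟨pow_mem ht _, Subgroup.mem_iInf.2 fun f => ?_⟩,
      map_pow _ _ _⟩
    obtain ⟨c, hc⟩ := Nat.pow_dvd_pow 2 (Subgroup.card_le_card_group G)
    rw [hc, pow_mul]
    exact pow_mem (hJL f t (hTJ f ht)) _
  · intro d hd2 hdG hdD s hs
    obtain ⟨x, hx, hxd⟩ := hdD
    set dG : G := ⟨d, hdG⟩ with hdGdef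
    obtain ⟨j, hj⟩ := hd2
    have hdG2 : dG ^ 2 ^ j = 1 := Subtype.ext (by rw [coe_pow, hdGdef]; exact hj)
    set Nk := π.ker with hNk
    have hk : x⁻¹ * dG ∈ Nk := by
      rw [hNk, MonoidHom.mem_ker, map_mul, map_inv, show π dG = π x from hxd.symm, inv_mul_cancel]
    have hNle : Nk.map G.subtype ≤ (Cfsg.pPrimeCore 2 X) := by
      rintro _ ⟨y, hy, rfl⟩
      exact (QuotientGroup.eq_one_iff _).1 hy
    have hNodd : (Nat.card Nk).Coprime 2 := by
      rw [← Subgroup.card_map_of_injective G.subtype_injective]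
      exact (coprime_card_pPrimeCore 2 X).coprime_dvd_left (Subgroup.card_dvd_of_le hNle)
    haveI : (centralizer (W : Set G)).Normal := Subgroup.normal_centralizer
    have hmk : QuotientGroup.mk' (centralizer (W : Set G)) dG =
        QuotientGroup.mk' (centralizer (W : Set G)) (x⁻¹ * dG) := by
      rw [map_mul, map_inv, show QuotientGroup.mk' (centralizer (W : Set G)) x = 1 from
        (QuotientGroup.eq_one_iff x).2 (hTW hx.1), inv_one, one_mul]
    have hdW : dG ∈ centralizer (W : Set G) := by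
      rw [← QuotientGroup.eq_one_iff]
      show QuotientGroup.mk' (centralizer (W : Set G)) dG = 1
      have h1 : QuotientGroup.mk' (centralizer (W : Set G)) dG ^ 2 ^ j = 1 := by
        rw [← map_pow, hdG2, map_one]
      have h2 : QuotientGroup.mk' (centralizer (W : Set G)) dG ^ Nat.card Nk = 1 := by
        rw [hmk, ← map_pow, orderOf_dvd_iff_pow_eq_one.1 (Subgroup.orderOf_dvd_natCard _ hk), map_one]
      have h3 := pow_gcd_eq_one.mpr (⟨h1, h2⟩ :
        QuotientGroup.mk' (centralizer (W : Set G)) dG ^ 2 ^ j = 1 ∧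
          QuotientGroup.mk' (centralizer (W : Set G)) dG ^ Nat.card Nk = 1)
      rwa [(hNodd.symm.pow_left j).gcd_eq_one, pow_one] at h3
    have hcomm : ∀ t ∈ Cfsg.pCore q G, dG * t = t * dG :=
      centralizes_of_char (ρ.comp G.subtype) hρG hq2 hUn hUq hUc hUs ⟨j, hdG2⟩ hdW fun f hf => by
        refine hLd ⟨f, hf⟩ dG ?_ ⟨j, hdG2⟩
        rw [show dG = x * (x⁻¹ * dG) by rw [mul_inv_cancel_left]]
        refine mul_mem (Subgroup.mem_iInf.1 hx.2 _) (hLo ⟨f, hf⟩ (Nk ⊓ centralizer (W : Set G))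
          (Subgroup.normal_inf_normal _ _) inf_le_right
          (hNodd.coprime_dvd_left (Subgroup.card_dvd_of_le inf_le_left)) ⟨hk, ?_⟩)
        exact Subgroup.mul_mem _ (Subgroup.inv_mem _ (hTW hx.1)) hdW
    have hsG : s ∈ G := le_normalizer hs
    haveI : (S'.subgroupOf G).Normal := Subgroup.normal_in_normalizer
    have hsQ : (⟨s, hsG⟩ : G) ∈ Cfsg.pCore q G :=
      le_pCore ((S.2.map (Cfsg.pPrimeCore 2 X).subtype).of_equiv (Subgroup.subgroupOfEquivOfLe le_normalizer).symm)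
        (mem_subgroupOf.2 hs)
    exact congrArg Subtype.val (hcomm _ hsQ)

/-- The tops lie in `O_{2',2}`. -/
theorem topA_le_pCore [(Cfsg.pPrimeCore 2 X).Normal] (hsol : Cfsg.IsPSolvable 2 X)
    (hO : Cfsg.pCore 2 X = ⊥) (ρ : X →* Module.End K V) (hρ : Function.Injective ρ) {n : ℕ}
    (hlin : LinData n ρ) :
    topA n (X ⧸ Cfsg.pPrimeCore 2 X) ≤ Cfsg.pCore 2 (X ⧸ Cfsg.pPrimeCore 2 X) := by
  classical
  haveI := Fact.mk Nat.prime_two
  set A := topA n (X ⧸ (Cfsg.pPrimeCore 2 X)) with hA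
  haveI hAn : A.Normal := normal_topA n _
  let ι := Σ q : {q : ℕ // q.Prime ∧ q ≠ 2}, Sylow q (Cfsg.pPrimeCore 2 X)
  choose D hDn hDp hDc using fun i : ι =>
    haveI := Fact.mk i.1.2.1
    tops_piece' hsol ρ hρ hlin i.1.2.2 i.2
  set Db := A ⊓ ⨅ i, D i with hDb
  haveI : (Db.subgroupOf A).Normal := ⟨fun x hx a => by
    rw [mem_subgroupOf] at hx ⊢
    exact Subgroup.mem_inf.2 ⟨(a * x * a⁻¹).2,
      Subgroup.mem_iInf.2 fun i => hDn i a a.2 x (Subgroup.mem_iInf.1 hx.2 i)⟩⟩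
  have hodd : (Nat.card Db).Coprime 2 := by
    rw [Nat.coprime_comm, Nat.prime_two.coprime_iff_not_dvd]
    intro hdvd
    obtain ⟨⟨y, hy⟩, hy2⟩ := exists_prime_orderOf_dvd_card' 2 hdvd
    have hy2' : y ^ 2 ^ 1 = 1 := by
      rw [pow_one]
      have := pow_orderOf_eq_one (⟨y, hy⟩ : Db)
      rw [hy2] at this
      exact congrArg Subtype.val this
    obtain ⟨d, hdy, hd⟩ := exists_two_lift (QuotientGroup.mk'_surjective (Cfsg.pPrimeCore 2 X)) ⟨1, hy2'⟩
    have hd1 : d = 1 := eq_one_of_sylows hsol hO hd fun q hq hq2 => by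
      haveI := Fact.mk hq
      haveI := (isPGroup_zpowers_two hd).isNilpotent
      have hcop : (Nat.card (zpowers d)).Coprime (Nat.card (Cfsg.pPrimeCore 2 X)) := by
        obtain ⟨k, hk⟩ := hd
        rw [Nat.card_zpowers]
        exact ((coprime_card_pPrimeCore 2 X).symm.pow_left k).coprime_dvd_left
          (orderOf_dvd_of_pow_eq_one hk)
      obtain ⟨S, hS⟩ := exists_invariant_sylow (A := zpowers d) (K := (Cfsg.pPrimeCore 2 X)) (le_normalizer_of_normal _ _) hcop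
        (Or.inl inferInstance) q
      exact ⟨S, hDc ⟨⟨q, hq, hq2⟩, S⟩ d hd (hS (mem_zpowers d))
        (by rw [hdy]; exact Subgroup.mem_iInf.1 hy.2 _)⟩
    rw [hd1, map_one] at hdy
    rw [← Subgroup.orderOf_coe, show ((⟨y, hy⟩ : Db) : X ⧸ (Cfsg.pPrimeCore 2 X)) = 1 from hdy.symm, orderOf_one] at hy2
    omega
  have hbot : Db = ⊥ := by
    have h1 : Db.subgroupOf A ≤ Cfsg.pPrimeCore 2 A := le_pPrimeCore
      (by rwa [Nat.card_congr (Subgroup.subgroupOfEquivOfLe inf_le_left).toEquiv])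
    have h2 := (Subgroup.map_mono (f := A.subtype) h1).trans (map_subtype_pPrimeCore_le A)
    rw [map_subgroupOf_eq_of_le inf_le_left, pPrimeCore_quotient_pPrimeCore] at h2
    exact le_bot_iff.1 h2
  refine le_pCore fun a => ⟨Nat.card X, Subtype.ext ?_⟩
  have h : (a : X ⧸ (Cfsg.pPrimeCore 2 X)) ^ 2 ^ Nat.card X ∈ Db :=
    Subgroup.mem_inf.2 ⟨pow_mem a.2 _, Subgroup.mem_iInf.2 fun i => hDp i a a.2⟩
  rw [hbot, Subgroup.mem_bot] at h
  rw [coe_pow, h]; rfl

end CfsgLib.Core.HHTwoDerived
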