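import Mathlib
import Cfsg.Agent.Lib.Core.HHCritical.TwoDerived.Tops

/-!
# The last derived steps form an elementary abelian group

* `piece_words`: short commutators of the last derived steps centralise `O_q`
* `words_trivial`: they vanish in a group without normal `2`-subgroups
-/

set_option autoImplicit false
set_option linter.all false

namespace CfsgLib.Core.HHTwoDerived

open Subgroup CfsgLib.Core.HHTwo CfsgLib.Core.HHTop QuadDerived
open scoped commutatorElement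

variable {X : Type*} [Group X] [Finite X] {K : Type*} [Field K] [IsAlgClosed K] [CharP K 2]
  {V : Type*} [AddCommGroup V] [Module K V] [FiniteDimensional K V]

/-- The elements of `P` lying in some last derived step. -/
def lastSteps (n : ℕ) (P : Subgroup X) : Set X :=
  {d | d ∈ P ∧ ∃ Q : Sylow 2 X, d ∈ dser (Q : Subgroup X) n}

theorem mem_dser_top_one {P : Subgroup X} {i : ℕ} {a : X} (ha : a ∈ dser P (i + 1)) :
    (⟨a, dser_succ_le P i ha⟩ : dser P i) ∈ dser (⊤ : Subgroup (dser P i)) 1 := by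
  have h1 : a ∈ dser (dser P i) 1 := by rw [dser_add]; exact ha
  rw [← map_subtype_dser_top] at h1
  obtain ⟨a', ha', he⟩ := h1
  rwa [show (⟨a, dser_succ_le P i ha⟩ : dser P i) = a' from Subtype.ext he.symm]

set_option maxHeartbeats 200000 in
/-- On one piece. -/
theorem piece_words {ρ : X →* Module.End K V} {i : ℕ} (hlin : LinData (i + 1) ρ) {q : ℕ} (S : Piece ρ q)
    (hq : q.Prime) (hq2 : q ≠ 2) (hUq : IsPGroup q S.U)
    (hfixW : ∀ P : Sylow 2 X, dser (P : Subgroup X) (i + 1) ≤ centralizer (S.W : Set X))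
    (P : Sylow 2 X) :
    (∀ a ∈ dser (P : Subgroup X) (i + 1), ∀ d ∈ lastSteps (i + 1) (P : Subgroup X),
      ∀ (h : ⁅a, d⁆ ∈ S.Xf) (h' : a * a ∈ S.Xf), S.φ ⟨_, h⟩ = 1 ∧ S.φ ⟨_, h'⟩ = 1) ∧
    (∀ b ∈ dser (P : Subgroup X) i, ∀ δ ∈ dser (P : Subgroup X) i,
      δ ∈ closure (lastSteps (i + 1) (P : Subgroup X)) →
      ∀ (h : ⁅b, δ⁆ ∈ S.Xf), S.φ ⟨_, h⟩ = 1) := by
  classical
  haveI := Fact.mk Nat.prime_two
  haveI hqf := Fact.mk hq
  have hXf : ∀ {d : X}, d ∈ lastSteps (i + 1) (P : Subgroup X) → d ∈ S.Xf := fun {d} hd => by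
    obtain ⟨-, Q, hQ⟩ := hd
    exact S.centralizer_le_Xf (hfixW Q hQ)
  have hAX : ∀ {a : X}, a ∈ dser (P : Subgroup X) (i + 1) → a ∈ S.Xf := fun {a} ha =>
    S.centralizer_le_Xf (hfixW P ha)
  by_cases hall : ∀ a (ha : a ∈ dser (P : Subgroup X) (i + 1)), S.φ ⟨a, hAX ha⟩ = 1
  · refine ⟨fun a ha d hd h h' => ⟨?_, ?_⟩, fun b hb δ hδ _ h => ?_⟩
    · rw [show (⟨_, h⟩ : S.Xf) = ⁅(⟨a, hAX ha⟩ : S.Xf), ⟨d, hXf hd⟩⁆ from Subtype.ext rfl,
        map_commutatorElement, hall a ha, commutatorElement_one_left]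
    · rw [show (⟨_, h'⟩ : S.Xf) = (⟨a, hAX ha⟩ : S.Xf) * ⟨a, hAX ha⟩ from rfl, map_mul, hall a ha,
        one_mul]
    · exact hall _ (commutator_mem_commutator hb hδ)
  push Not at hall
  obtain ⟨a1, ha1, ha1ne⟩ := hall
  rcases piece_derived S hq hq2 hUq P.2 (hlin P) with h | ⟨i', hi', hq3, hB, b0, hb0⟩
  · obtain ⟨_, h⟩ := h a1 ha1
    exact absurd h ha1ne
  subst hq3
  obtain rfl : i = i' := by omega
  set z := S.φ (Subgroup.inclusion hB (b0 * b0)) with hz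
  have hzz : z * z = 1 := hb0.four
  have hA : ∀ a (ha : a ∈ dser (P : Subgroup X) (i + 1)),
      S.φ ⟨a, hAX ha⟩ = 1 ∨ S.φ ⟨a, hAX ha⟩ = z := by
    intro a ha
    have e : (⟨a, hAX ha⟩ : S.Xf) =
        Subgroup.inclusion hB ⟨a, dser_succ_le (P : Subgroup X) i ha⟩ := Subtype.ext rfl
    have h := hb0.comm ⟨a, dser_succ_le (P : Subgroup X) i ha⟩ (mem_dser_top_one ha)
    rw [MonoidHom.comp_apply, MonoidHom.comp_apply] at h
    rw [e, hz]
    exact h
  have ha1z : S.φ ⟨a1, hAX ha1⟩ = z := (hA a1 ha1).resolve_left ha1ne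
  have hq2' : Odd 3 := by decide
  have hcomm : ∀ d (hd : d ∈ lastSteps (i + 1) (P : Subgroup X)),
      S.φ ⟨d, hXf hd⟩ * z = z * S.φ ⟨d, hXf hd⟩ := by
    intro d hd
    have hc : d * a1 * d⁻¹ ∈ dser (P : Subgroup X) (i + 1) :=
      conj_mem_dser (fun y hy => mul_mem (mul_mem hd.1 hy) (inv_mem hd.1)) _ ha1
    have he : S.φ ⟨_, hAX hc⟩ = S.φ ⟨d, hXf hd⟩ * z * (S.φ ⟨d, hXf hd⟩)⁻¹ := by
      rw [← ha1z, ← map_inv, ← map_mul, ← map_mul]
      rfl
    rcases hA _ hc with h | h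
    · rw [he, mul_inv_eq_one, mul_eq_left] at h
      exact absurd (ha1z.trans h) ha1ne
    · rw [he] at h
      exact mul_inv_eq_iff_eq_mul.1 h
  refine ⟨fun a ha d hd h h' => ⟨?_, ?_⟩, fun b hb δ hδ hδc h => ?_⟩
  · rw [show (⟨_, h⟩ : S.Xf) = ⁅(⟨a, hAX ha⟩ : S.Xf), ⟨d, hXf hd⟩⁆ from Subtype.ext rfl,
      map_commutatorElement, commutatorElement_eq_one_iff_mul_comm]
    rcases hA a ha with e | e <;> rw [e]
    · rw [one_mul, mul_one]
    · exact (hcomm d hd).symm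
  · rw [show (⟨_, h'⟩ : S.Xf) = (⟨a, hAX ha⟩ : S.Xf) * ⟨a, hAX ha⟩ from rfl, map_mul]
    rcases hA a ha with e | e <;> rw [e]
    · rw [one_mul]
    · exact hzz
  have hz2 : ∀ v, z (z v) = v := fun v => by rw [← MulAut.mul_apply, hzz]; rfl
  -- products of last steps act on the plane by scalars
  have hgood : ∃ hx : δ ∈ S.Xf, S.φ ⟨δ, hx⟩ * z = z * S.φ ⟨δ, hx⟩ ∧
      ((∀ v ∈ neg z, S.φ ⟨δ, hx⟩ v = v) ∨ ∀ v ∈ neg z, S.φ ⟨δ, hx⟩ v = v⁻¹) := by
    clear h hδ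
    induction hδc using Subgroup.closure_induction with
    | mem d hd =>
      refine ⟨hXf hd, hcomm d hd, ?_⟩
      obtain ⟨-, Q, hQ⟩ := hd
      have hsq : ∀ v, S.φ ⟨d, hXf ⟨‹_›, Q, hQ⟩⟩ (S.φ ⟨d, hXf ⟨‹_›, Q, hQ⟩⟩ v) = v := by
        intro v
        rcases top_piece_cases hlin S hq hq2 hUq Q hQ (S.centralizer_le_Xf (hfixW Q hQ)) with
          e | ⟨-, w, hw, e⟩
        · rw [e]; rfl
        · rw [e]; exact hw.sq_sq v
      exact neg_or_id hq2' S.pow_Q (S.pairing _) hz2 (hb0.card.trans (by norm_num)) (S.pairing _)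
        (fun v hv => by
          rw [HHTwo.mem_neg'] at hv ⊢
          rw [← MulAut.mul_apply, ← hcomm d ⟨‹_›, Q, hQ⟩, MulAut.mul_apply, hv, map_inv])
        (fun v _ => hsq v)
    | one =>
      refine ⟨one_mem _, ?_, Or.inl fun v _ => ?_⟩
      · rw [show (⟨1, one_mem _⟩ : S.Xf) = 1 from rfl, map_one, one_mul, mul_one]
      · rw [show (⟨1, one_mem _⟩ : S.Xf) = 1 from rfl, map_one]; rfl
    | mul u v _ _ hu hv =>
      obtain ⟨hux, huc, hus⟩ := hu
      obtain ⟨hvx, hvc, hvs⟩ := hv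
      refine ⟨mul_mem hux hvx, ?_, ?_⟩
      · rw [show (⟨u * v, mul_mem hux hvx⟩ : S.Xf) = ⟨u, hux⟩ * ⟨v, hvx⟩ from rfl, map_mul, mul_assoc,
          hvc, ← mul_assoc, huc, mul_assoc]
      · rw [show (⟨u * v, mul_mem hux hvx⟩ : S.Xf) = ⟨u, hux⟩ * ⟨v, hvx⟩ from rfl, map_mul]
        rcases hus with hu | hu <;> rcases hvs with hv | hv
        · exact Or.inl fun x hx => by rw [MulAut.mul_apply, hv x hx, hu x hx]
        · exact Or.inr fun x hx => by rw [MulAut.mul_apply, hv x hx, map_inv, hu x hx]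
        · exact Or.inr fun x hx => by rw [MulAut.mul_apply, hv x hx, hu x hx]
        · exact Or.inl fun x hx => by rw [MulAut.mul_apply, hv x hx, map_inv, hu x hx, inv_inv]
    | inv u _ hu =>
      obtain ⟨hux, huc, hus⟩ := hu
      refine ⟨inv_mem hux, ?_, ?_⟩
      · rw [show (⟨u⁻¹, inv_mem hux⟩ : S.Xf) = (⟨u, hux⟩ : S.Xf)⁻¹ from rfl, map_inv,
          inv_mul_eq_iff_eq_mul, ← mul_assoc, huc, mul_inv_cancel_right]
      · rw [show (⟨u⁻¹, inv_mem hux⟩ : S.Xf) = (⟨u, hux⟩ : S.Xf)⁻¹ from rfl, map_inv]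
        rcases hus with hu | hu
        · exact Or.inl fun x hx => apply_inv_of_fix (hu x hx)
        · exact Or.inr fun x hx => (S.φ ⟨u, hux⟩).injective (by
            show S.φ ⟨u, hux⟩ ((S.φ ⟨u, hux⟩).symm x) = _
            rw [MulEquiv.apply_symm_apply, map_inv, hu x hx, inv_inv])
  obtain ⟨hδx, hδz, hδs⟩ := hgood
  rw [show (⟨_, h⟩ : S.Xf) = ⁅(⟨b, hB hb⟩ : S.Xf), ⟨δ, hδx⟩⁆ from Subtype.ext rfl,
    map_commutatorElement, commutatorElement_eq_one_iff_mul_comm]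
  have hbf : ∀ v, z v = v → S.φ ⟨b, hB hb⟩ v = v := fun v hv => hb0.fix ⟨b, hb⟩ v hv
  have hbn : ∀ v ∈ neg z, S.φ ⟨b, hB hb⟩ v ∈ neg z := by
    intro v hv
    rw [HHTwo.mem_neg'] at hv ⊢
    obtain ⟨d, hd, c, hc, he⟩ := exists_split hq2' S.pow_Q hz2 (S.φ ⟨b, hB hb⟩ v)
    have hc1 : c = 1 := by
      by_contra hne
      obtain ⟨w, hw⟩ := (S.pairing ⟨b, hB hb⟩).nd c hne
      obtain ⟨w1, hw1, w2, hw2, rfl⟩ := exists_split hq2' S.pow_Q hz2 w
      have hp := S.pairing (Subgroup.inclusion hB (b0 * b0))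
      have horth : ∀ x ∈ neg z, ∀ y, z y = y → S.χ x y = 1 := by
        intro x hx y hy
        have e1 : S.χ (z x) (z y) = S.χ x y := hp.inv' x y
        rw [HHTwo.mem_neg'.1 hx, hy] at e1
        refine eq_one_of_two_pow (k := 1) ?_
        rw [pow_one, sq]
        nth_rewrite 2 [← e1]
        rw [mul_comm]
        exact hp.inv_left x y
      have h2 : S.χ w2 (S.φ ⟨b, hB hb⟩ v) = 1 := by
        have e2 := (S.pairing ⟨b, hB hb⟩).inv' w2 v
        rw [hbf w2 hw2] at e2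
        rw [e2]
        exact (S.pairing ⟨b, hB hb⟩).eq_one_swap (horth v (HHTwo.mem_neg'.2 hv) w2 hw2)
      rw [← he, hp.mul_right, hp.eq_one_swap (horth d hd w2 hw2), one_mul] at h2
      rw [hp.mul, horth w1 hw1 c hc, h2, one_mul] at hw
      exact hw rfl
    rw [← he, hc1, mul_one]
    exact HHTwo.mem_neg'.1 hd
  refine MulEquiv.ext fun v => ?_
  obtain ⟨d, hd, c, hc, rfl⟩ := exists_split hq2' S.pow_Q hz2 v
  have hδf : z (S.φ ⟨δ, hδx⟩ c) = S.φ ⟨δ, hδx⟩ c := by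
    rw [← MulAut.mul_apply, ← hδz, MulAut.mul_apply, hc]
  simp only [MulAut.mul_apply, map_mul, hbf c hc, hbf _ hδf]
  congr 1
  rcases hδs with e | e
  · rw [e d hd, e _ (hbn d hd)]
  · rw [e d hd, e _ (hbn d hd), map_inv]

set_option maxHeartbeats 200000 in
/-- In a group without normal `2`-subgroups. -/
theorem words_trivial [(Cfsg.pPrimeCore 2 X).Normal] (hsol : Cfsg.IsPSolvable 2 X)
    (hO : Cfsg.pCore 2 X = ⊥) (ρ : X →* Module.End K V) (hρ : Function.Injective ρ) {i : ℕ}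
    (hlin : LinData (i + 1) ρ) (P : Sylow 2 X) :
    (∀ a ∈ dser (P : Subgroup X) (i + 1), ∀ d ∈ (P : Subgroup X),
      (∃ Q : Sylow 2 (X ⧸ Cfsg.pPrimeCore 2 X),
        QuotientGroup.mk' (Cfsg.pPrimeCore 2 X) d ∈ dser (Q : Subgroup (X ⧸ Cfsg.pPrimeCore 2 X)) (i + 1)) →
      ⁅a, d⁆ = 1 ∧ a * a = 1) ∧
    (∀ b ∈ dser (P : Subgroup X) i, ∀ δ ∈ dser (P : Subgroup X) i,
      QuotientGroup.mk' (Cfsg.pPrimeCore 2 X) δ ∈ topA (i + 1) (X ⧸ Cfsg.pPrimeCore 2 X) →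
      ⁅b, δ⁆ = 1) := by
  classical
  haveI := Fact.mk Nat.prime_two
  haveI := P.2.isNilpotent
  set κ := QuotientGroup.mk' (Cfsg.pPrimeCore 2 X) with hκ
  have hAR := topA_le_pCore hsol hO ρ hρ hlin
  have hcop : (Nat.card (P : Subgroup X)).Coprime (Nat.card (Cfsg.pPrimeCore 2 X)) := by
    obtain ⟨j, hj⟩ := IsPGroup.iff_card.1 P.2
    rw [hj]
    exact (coprime_card_pPrimeCore 2 X).symm.pow_left j
  have key : ∀ q : ℕ, q.Prime → q ≠ 2 → ∃ S : Sylow q (Cfsg.pPrimeCore 2 X),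
      (∀ a ∈ dser (P : Subgroup X) (i + 1), ∀ d ∈ (P : Subgroup X),
        (∃ Q : Sylow 2 (X ⧸ Cfsg.pPrimeCore 2 X), κ d ∈ dser (Q : Subgroup _) (i + 1)) →
        ∀ s ∈ (S : Subgroup _).map (Cfsg.pPrimeCore 2 X).subtype,
          ⁅a, d⁆ * s = s * ⁅a, d⁆ ∧ a * a * s = s * (a * a)) ∧
      (∀ b ∈ dser (P : Subgroup X) i, ∀ δ ∈ dser (P : Subgroup X) i,
        κ δ ∈ topA (i + 1) (X ⧸ Cfsg.pPrimeCore 2 X) →
        ∀ s ∈ (S : Subgroup _).map (Cfsg.pPrimeCore 2 X).subtype, ⁅b, δ⁆ * s = s * ⁅b, δ⁆) := by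
    intro q hq hq2
    haveI := Fact.mk hq
    obtain ⟨S, hS⟩ := exists_invariant_sylow (A := (P : Subgroup X)) (K := (Cfsg.pPrimeCore 2 X))
      (le_normalizer_of_normal _ _) hcop (Or.inl inferInstance) q
    refine ⟨S, ?_⟩
    set S' := (S : Subgroup (Cfsg.pPrimeCore 2 X)).map (Cfsg.pPrimeCore 2 X).subtype with hS'
    set G := normalizer (S' : Set X) with hG
    set π := κ.comp G.subtype with hπ
    have hπs : Function.Surjective π := normalizer_covers S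
    have hlinG : LinData (i + 1) (ρ.comp G.subtype) := linData_subgroup hlin hπs
    have hρG : Function.Injective (ρ.comp G.subtype) := hρ.comp G.subtype_injective
    set PG : Sylow 2 G := P.subtype hS with hPG
    have hPGd : ∀ k, ∀ g : G, (g : X) ∈ dser (P : Subgroup X) k → g ∈ dser (PG : Subgroup G) k := by
      intro k g hg
      rw [← map_subgroupOf_eq_of_le hS, ← map_dser] at hg
      obtain ⟨g', hg', he⟩ := hg
      rw [show g = g' from Subtype.ext he.symm]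
      exact hg'
    have hinj : ∀ T : Subgroup G, IsPGroup 2 T → ∀ x ∈ T, ∀ y ∈ T, π x = π y → x = y := by
      intro T hT x hx y hy h
      obtain ⟨k, hk⟩ := hT ⟨x⁻¹ * y, T.mul_mem (T.inv_mem hx) hy⟩
      have := eq_one_of_mk_eq_one (X := X) (d := ((x⁻¹ * y : G) : X))
        ⟨k, by rw [← coe_pow, show (x⁻¹ * y) ^ 2 ^ k = 1 from congrArg Subtype.val hk]; rfl⟩
        (by show π (x⁻¹ * y) = 1; rw [map_mul, map_inv, h, inv_mul_cancel])
      exact inv_mul_eq_one.1 (Subtype.ext this)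
    -- the last steps in `P`
    set R := (Cfsg.pCore 2 (X ⧸ Cfsg.pPrimeCore 2 X)).comap π with hR
    set TP := (PG : Subgroup G) ⊓ R with hTP
    have hTPπ : ∀ y ∈ Cfsg.pCore 2 (X ⧸ Cfsg.pPrimeCore 2 X), ∃ t ∈ TP, π t = y := by
      intro y hy
      obtain ⟨t, ht, rfl⟩ : y ∈ (PG : Subgroup G).map π := pCore_le_sylow (PG.mapSurjective hπs) hy
      exact ⟨t, ⟨ht, hy⟩, rfl⟩
    have hsteps : ∀ g : G, g ∈ (PG : Subgroup G) →
        (∃ Q : Sylow 2 (X ⧸ Cfsg.pPrimeCore 2 X), π g ∈ dser (Q : Subgroup _) (i + 1)) →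
        g ∈ lastSteps (i + 1) (PG : Subgroup G) := by
      rintro g hgP ⟨Q, hQ⟩
      refine ⟨hgP, ?_⟩
      obtain ⟨Q', rfl⟩ := Sylow.mapSurjective_surjective hπs 2 Q
      rw [Sylow.coe_mapSurjective, ← map_dser] at hQ
      obtain ⟨g', hg', hgg⟩ := hQ
      have hg'R : g' ∈ R := hAR (by
        rw [← map_topA (n := i + 1) hπs]
        exact mem_map_of_mem π (mem_topA hg'))
      -- move `g'` into `P`
      have hTPp : IsPGroup 2 (TP.subgroupOf R) :=
        (PG.2.to_le inf_le_left).of_equiv (Subgroup.subgroupOfEquivOfLe inf_le_right).symm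
      obtain ⟨S0, hS0⟩ := hTPp.exists_le_sylow
      have hS0eq : ∀ x : R, x ∈ (S0 : Subgroup R) → (x : G) ∈ TP := by
        intro x hx
        obtain ⟨t, ht, hte⟩ := hTPπ (π (x : G)) x.2
        have hx' : (x : G) ∈ (S0 : Subgroup R).map R.subtype := mem_map_of_mem R.subtype hx
        have ht' : t ∈ (S0 : Subgroup R).map R.subtype :=
          ⟨⟨t, ht.2⟩, hS0 (mem_subgroupOf.2 ht), rfl⟩
        rw [hinj _ (S0.2.map R.subtype) _ hx' t ht' hte.symm]
        exact ht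
      have hgz : IsPGroup 2 (zpowers (⟨g', hg'R⟩ : R)) := by
        obtain ⟨k, hk⟩ := Q'.2 ⟨g', dser_le _ _ hg'⟩
        refine isPGroup_zpowers_two ⟨k, Subtype.ext ?_⟩
        rw [coe_pow]
        exact congrArg Subtype.val hk
      obtain ⟨S1, hS1⟩ := hgz.exists_le_sylow
      obtain ⟨r, hr⟩ := MulAction.exists_smul_eq R S1 S0
      have hrg : (r : G) * g' * (r : G)⁻¹ ∈ TP := by
        have h1 : r * ⟨g', hg'R⟩ * r⁻¹ ∈ (S0 : Subgroup R) := by
          rw [← hr]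
          exact ⟨⟨g', hg'R⟩, hS1 (mem_zpowers _), rfl⟩
        exact hS0eq _ h1
      obtain ⟨t, ht, hte⟩ := hTPπ (π (r : G)) r.2
      set k := t⁻¹ * (r : G) with hk
      have hπk : π k = 1 := by rw [hk, map_mul, map_inv, hte, inv_mul_cancel]
      have hkg : k * g' * k⁻¹ ∈ TP := by
        rw [show k * g' * k⁻¹ = t⁻¹ * ((r : G) * g' * (r : G)⁻¹) * t by rw [hk]; group]
        exact mul_mem (mul_mem (inv_mem ht) hrg) ht
      have heq : k * g' * k⁻¹ = g := hinj _ PG.2 _ hkg.1 g hgP (by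
        rw [map_mul, map_mul, map_inv, hπk, one_mul, inv_one, mul_one, hgg])
      refine ⟨k • Q', ?_⟩
      have h1 : (MulAut.conj k) g' ∈ (dser (Q' : Subgroup G) (i + 1)).map (MulAut.conj k).toMonoidHom :=
        ⟨g', hg', rfl⟩
      rw [map_dser] at h1
      rw [← heq]
      exact h1
    obtain ⟨U, hUn, hUQ, hUq, hUc, hUp, hUs⟩ := exists_piece (X := G) (q := q)
    haveI := hUn
    set W := U ⊓ centralizer (U : Set G) with hW
    haveI hWn : W.Normal := by rw [hW]; infer_instance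
    have hWab : ∀ s ∈ W, ∀ t ∈ W, s * t = t * s := fun s hs t ht =>
      (mem_centralizer_iff.1 hs.2 t ht.1).symm
    have hWodd : (Nat.card W).Coprime 2 := by
      obtain ⟨j, hj⟩ := IsPGroup.iff_card.1 (hUq.to_le (inf_le_left : W ≤ U))
      rw [hj]
      exact ((Nat.coprime_primes hq Nat.prime_two).2 hq2).pow_left j
    have hfixW : ∀ P : Sylow 2 G, dser (P : Subgroup G) (i + 1) ≤ centralizer (W : Set G) := fun P =>
      centralizes_of_chain hρG hWab hWodd P.2 (hlinG P)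
    let pc : ∀ f, (∃ v, v ∈ eig (ρ.comp G.subtype) (W : Set G) f ∧ v ≠ 0) →
        Piece (ρ.comp G.subtype) q := fun f hf => ⟨U, W, hUn, hW, hUc, hUp, f, hf⟩
    have hQS : ∀ g : G, (∃ k, g ^ 2 ^ k = 1) → g ∈ centralizer (W : Set G) →
        (∀ f hf, ∀ h : g ∈ (pc f hf).Xf, (pc f hf).φ ⟨g, h⟩ = 1) →
        ∀ s ∈ S', (g : X) * s = s * (g : X) := by
      intro g hg2 hgW hφ s hs
      have hcomm : ∀ t ∈ Cfsg.pCore q G, g * t = t * g :=
        centralizes_of_char (ρ.comp G.subtype) hρG hq2 hUn hUq hUc hUs hg2 hgW fun f hf =>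
          ((pc f hf).φ_eq_one_iff ⟨g, (pc f hf).centralizer_le_Xf hgW⟩).1 (hφ f hf _)
      have hsG : s ∈ G := le_normalizer hs
      haveI : (S'.subgroupOf G).Normal := Subgroup.normal_in_normalizer
      have hsQ : (⟨s, hsG⟩ : G) ∈ Cfsg.pCore q G :=
        le_pCore ((S.2.map (Cfsg.pPrimeCore 2 X).subtype).of_equiv
          (Subgroup.subgroupOfEquivOfLe le_normalizer).symm) (mem_subgroupOf.2 hs)
      exact congrArg Subtype.val (hcomm _ hsQ)
    have h2el : ∀ g : G, g ∈ (PG : Subgroup G) → ∃ k, g ^ 2 ^ k = 1 := fun g hg => by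
      obtain ⟨k, hk⟩ := PG.2 ⟨g, hg⟩
      exact ⟨k, congrArg Subtype.val hk⟩
    refine ⟨fun a ha d hd hdQ s hs => ?_, fun b hb δ hδ hδA s hs => ?_⟩
    · set aG : G := ⟨a, hS (dser_le _ _ ha)⟩ with haG
      set dG : G := ⟨d, hS hd⟩ with hdG
      have haG' := hPGd (i + 1) aG ha
      have hd' := hsteps dG hd hdQ
      have haW := hfixW PG haG'
      obtain ⟨Q, hQ⟩ := hd'.2
      have hcW : ⁅aG, dG⁆ ∈ centralizer (W : Set G) := by
        rw [commutatorElement_def]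
        exact mul_mem (mul_mem (mul_mem haW (hfixW Q hQ)) (inv_mem haW)) (inv_mem (hfixW Q hQ))
      have haP := dser_le _ _ haG'
      have hP2 : ⁅aG, dG⁆ ∈ (PG : Subgroup G) := by
        rw [commutatorElement_def]
        exact mul_mem (mul_mem (mul_mem haP hd'.1) (inv_mem haP)) (inv_mem hd'.1)
      refine ⟨hQS ⁅aG, dG⁆ (h2el _ hP2) hcW (fun f hf h => ?_) s hs,
        hQS (aG * aG) (h2el _ (mul_mem haP haP)) (mul_mem haW haW) (fun f hf h => ?_) s hs⟩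
      · exact ((piece_words hlinG (pc f hf) hq hq2 hUq hfixW PG).1 aG haG' dG hd' h
          ((pc f hf).centralizer_le_Xf (mul_mem haW haW))).1
      · exact ((piece_words hlinG (pc f hf) hq hq2 hUq hfixW PG).1 aG haG' dG hd'
          ((pc f hf).centralizer_le_Xf hcW) h).2
    · set bG : G := ⟨b, hS (dser_le _ _ hb)⟩ with hbG
      set dG : G := ⟨δ, hS (dser_le _ _ hδ)⟩ with hdG
      have hbG' := hPGd i bG hb
      have hdG' := hPGd i dG hδ
      have hcn : ⁅bG, dG⁆ ∈ dser (PG : Subgroup G) (i + 1) := commutator_mem_commutator hbG' hdG'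
      have hcl : dG ∈ closure (lastSteps (i + 1) (PG : Subgroup G)) := by
        have hle : closure (lastSteps (i + 1) (PG : Subgroup G)) ≤ (PG : Subgroup G) :=
          (closure_le _).2 fun x hx => hx.1
        have hmap : topA (i + 1) (X ⧸ Cfsg.pPrimeCore 2 X) ≤
            (closure (lastSteps (i + 1) (PG : Subgroup G))).map π := (closure_le _).2 (by
          rintro y ⟨Q, hy⟩
          obtain ⟨t, ht, rfl⟩ := hTPπ y (hAR (mem_topA hy))
          exact mem_map_of_mem π (subset_closure (hsteps t ht.1 ⟨Q, hy⟩)))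
        obtain ⟨x, hx, hxe⟩ := hmap (show π dG ∈ topA (i + 1) (X ⧸ Cfsg.pPrimeCore 2 X) from hδA)
        rw [← hinj _ PG.2 x (hle hx) dG (dser_le _ _ hdG') hxe]
        exact hx
      exact hQS ⁅bG, dG⁆ (h2el _ (dser_le _ _ hcn)) (hfixW PG hcn)
        (fun f hf h => (piece_words hlinG (pc f hf) hq hq2 hUq hfixW PG).2 bG hbG' dG hdG' hcl h) s hs
  have h2 : ∀ x ∈ (P : Subgroup X), ∃ k, x ^ 2 ^ k = 1 := fun x hx => by
    obtain ⟨k, hk⟩ := P.2 ⟨x, hx⟩
    exact ⟨k, congrArg Subtype.val hk⟩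
  refine ⟨fun a ha d hd hdQ => ⟨?_, ?_⟩, fun b hb δ hδ hδA => ?_⟩
  · refine eq_one_of_sylows hsol hO (h2 _ ?_) fun q hq hq2 => ?_
    · have haP := dser_le _ _ ha
      rw [commutatorElement_def]
      exact mul_mem (mul_mem (mul_mem haP hd) (inv_mem haP)) (inv_mem hd)
    · obtain ⟨S, h1, -⟩ := key q hq hq2
      exact ⟨S, fun s hs => (h1 a ha d hd hdQ s hs).1⟩
  · refine eq_one_of_sylows hsol hO (h2 _ (mul_mem (dser_le _ _ ha) (dser_le _ _ ha))) fun q hq hq2 => ?_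
    obtain ⟨S, h1, -⟩ := key q hq hq2
    exact ⟨S, fun s hs => (h1 a ha d hd hdQ s hs).2⟩
  · refine eq_one_of_sylows hsol hO (h2 _ (dser_le _ (i + 1) (commutator_mem_commutator hb hδ)))
      fun q hq hq2 => ?_
    obtain ⟨S, -, h1⟩ := key q hq hq2
    exact ⟨S, fun s hs => h1 b hb δ hδ hδA s hs⟩

end CfsgLib.Core.HHTwoDerived
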