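import Mathlib
import Cfsg.Agent.Lib.Core.HHCritical.TwoTops.LayerModule
import Cfsg.Agent.Lib.Core.HHCritical.TwoDerived.Tops

/-!
# The module given by invariant sections of `O_2`

* `DerData n X`: a faithful module of exponent two on which the products along the derived series of
  every Sylow `2`-subgroup vanish, these series having length at most `n`
* `derData_quotient`: sections of `O_2(Y)` with vanishing nested commutators give such a module of
  `Y / O_2(Y)`
-/

set_option autoImplicit false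
set_option linter.all false

namespace CfsgLib.Core.HHTwoDerived

open Subgroup CfsgLib.Core.HHTwo CfsgLib.Core.HHTop
open scoped commutatorElement

universe u

/-- A faithful module of exponent two with vanishing products. -/
def DerData (n : ℕ) (X : Type u) [Group X] : Prop :=
  ∃ (M : Type u) (_ : AddCommGroup M) (_ : Finite M) (r : X →* AddMonoid.End M),
    (∀ x : M, 2 • x = 0) ∧ Function.Injective r ∧
      ∀ P : Sylow 2 X, dser (P : Subgroup X) n = ⊥ ∧
        ∀ g : ℕ → X, (∀ i < n, g i ∈ dser (P : Subgroup X) i) → chain r g n = 0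

theorem DerData.congr {n : ℕ} {X X' : Type u} [Group X] [Group X'] [Finite X] [Finite X'] (e : X' ≃* X)
    (h : DerData n X) : DerData n X' := by
  haveI := Fact.mk Nat.prime_two
  obtain ⟨M, iA, iF, r, hM, hr, hn⟩ := h
  refine ⟨M, iA, iF, r.comp e.toMonoidHom, hM, hr.comp e.injective, fun P => ?_⟩
  have hes : Function.Surjective e.toMonoidHom := e.surjective
  obtain ⟨h1, h2⟩ := hn (P.mapSurjective hes)
  rw [Sylow.coe_mapSurjective, ← map_dser] at h1
  refine ⟨(Subgroup.map_eq_bot_iff_of_injective _ e.injective).1 h1, fun g hg => ?_⟩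
  rw [chain_map]
  refine h2 _ fun i hi => ?_
  rw [Sylow.coe_mapSurjective, ← map_dser]
  exact mem_map_of_mem _ (hg i hi)

theorem chain_ringHom {G E E' : Type*} [Monoid G] [Ring E] [Ring E'] (ι : E →+* E') (r : G →* E)
    (g : ℕ → G) : ∀ k : ℕ, ι (chain r g k) = chain (ι.toMonoidHom.comp r) g k
  | 0 => map_one ι
  | k + 1 => by
    show ι ((r (g k) - 1) * chain r g k) = _ * _
    rw [map_mul, map_sub, map_one, chain_ringHom ι r g k]
    rfl

/-- The nested commutator. -/
def nest {Y : Type*} [Group Y] (g : ℕ → Y) (h : Y) : ℕ → Y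
  | 0 => h
  | i + 1 => ⁅g i, nest g h i⁆

theorem nest_mem_dser {Y : Type*} [Group Y] {P : Subgroup Y} {g : ℕ → Y} {h : Y} (hh : h ∈ P) :
    ∀ {n : ℕ}, (∀ i < n, g i ∈ dser P i) → nest g h n ∈ dser P n
  | 0, _ => hh
  | n + 1, hg => commutator_mem_commutator (hg n (Nat.lt_succ_self n))
      (nest_mem_dser hh fun i hi => hg i (Nat.lt_succ_of_lt hi))

theorem nest_mem {Y : Type*} [Group Y] {H : Subgroup Y} [H.Normal] (g : ℕ → Y) {h : Y} (hh : h ∈ H) :
    ∀ n : ℕ, nest g h n ∈ H
  | 0 => hh
  | n + 1 => by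
    have h1 := nest_mem (H := H) g hh n
    show ⁅g n, nest g h n⁆ ∈ H
    rw [commutatorElement_def]
    exact mul_mem ((inferInstance : H.Normal).conj_mem _ h1 _) (inv_mem h1)

variable {Y : Type u} [Group Y] [Finite Y]

/-- An invariant section of `O_2` of exponent two with vanishing nested commutators. -/
structure DerLayer (n : ℕ) (H H' : Subgroup Y) : Prop where
  nH : H.Normal
  nH' : H'.Normal
  le : H' ≤ H
  leR : H ≤ Cfsg.pCore 2 Y
  sq : ∀ h ∈ H, h * h ∈ H'
  der : ∀ h ∈ H, ∀ P : Sylow 2 Y, ∀ g : ℕ → Y, (∀ i < n, g i ∈ dser (P : Subgroup Y) i) →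
    nest g h n ∈ H'

variable {n : ℕ}

/-- The module of one section. -/
theorem DerLayer.exists_rep [(Cfsg.pCore 2 Y).Normal] {H H' : Subgroup Y} (hL : DerLayer n H H')
    (hc : ∀ h ∈ H, ∀ r ∈ Cfsg.pCore 2 Y, ⁅r, h⁆ ∈ H') :
    ∃ (M : Type u) (_ : AddCommGroup M) (_ : Finite M) (r : Y ⧸ Cfsg.pCore 2 Y →* AddMonoid.End M),
      (∀ x : M, 2 • x = 0) ∧
      (∀ P : Sylow 2 Y, ∀ g : ℕ → Y, (∀ i < n, g i ∈ dser (P : Subgroup Y) i) →
        chain r (fun i => (g i : Y ⧸ Cfsg.pCore 2 Y)) n = 0) ∧
      ∀ d : Y, r (d : Y ⧸ Cfsg.pCore 2 Y) = 1 → ∀ h ∈ H, ⁅d, h⁆ ∈ H' := by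
  haveI := hL.nH
  haveI := hL.nH'
  set ψ := QuotientGroup.mk' H' with hψ
  set V := H.map ψ with hV
  haveI : V.Normal := hL.nH.map ψ (QuotientGroup.mk'_surjective H')
  have hone : ∀ x : Y, x ∈ H' → ψ x = 1 := fun x hx => (QuotientGroup.eq_one_iff x).2 hx
  have hVp : ∀ v ∈ V, v * v = 1 := by
    rintro _ ⟨h, hh, rfl⟩
    rw [← map_mul]
    exact hone _ (hL.sq h hh)
  letI : CommGroup V :=
    { (inferInstance : Group V) with
      mul_comm := fun v w => by
        have h2 : ∀ z : V, z * z = 1 := fun z => Subtype.ext (hVp _ z.2)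
        calc v * w = (v * w)⁻¹ := eq_inv_of_mul_eq_one_left (h2 _)
          _ = w * v := by
            rw [mul_inv_rev, inv_eq_of_mul_eq_one_left (h2 w), inv_eq_of_mul_eq_one_left (h2 v)] }
  let c : (Y ⧸ H') →* AddMonoid.End (Additive V) :=
    { toFun := fun x => MonoidHom.toAdditive (MulAut.conjNormal x : MulAut V).toMonoidHom
      map_one' := by rw [map_one]; rfl
      map_mul' := fun x y => by rw [map_mul]; rfl }
  have hcv : ∀ (x : Y ⧸ H') (v : V),
      ((Additive.toMul (c x (Additive.ofMul v)) : V) : Y ⧸ H') = x * v * x⁻¹ :=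
    fun x v => MulAut.conjNormal_apply x v
  have hker : Cfsg.pCore 2 Y ≤ (c.comp ψ).ker := fun x hx => DFunLike.ext _ _ fun v => by
    obtain ⟨⟨_, h, hh, rfl⟩, rfl⟩ := Additive.ofMul.surjective v
    apply Additive.toMul.injective
    apply Subtype.ext
    show ((Additive.toMul (c (ψ x) (Additive.ofMul _)) : V) : Y ⧸ H') = ψ h
    rw [hcv]
    have h1 := hone _ (hc h hh x hx)
    rw [map_commutatorElement, commutatorElement_def, mul_inv_eq_one] at h1
    exact h1
  refine ⟨Additive V, inferInstance, inferInstance, QuotientGroup.lift _ (c.comp ψ) hker, fun x => ?_,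
    fun P g hg => DFunLike.ext _ _ fun v => ?_, fun d hd h hh => ?_⟩
  · rw [two_nsmul]
    exact Additive.toMul.injective (Subtype.ext (hVp _ (Additive.toMul x).2))
  · obtain ⟨⟨_, h, hh, rfl⟩, rfl⟩ := Additive.ofMul.surjective v
    have key : ∀ k, ((Additive.toMul ((chain (QuotientGroup.lift (Cfsg.pCore 2 Y) (c.comp ψ) hker)
        (fun i => (g i : Y ⧸ Cfsg.pCore 2 Y)) k)
        (Additive.ofMul (⟨ψ h, mem_map_of_mem ψ hh⟩ : V))) : V) : Y ⧸ H') = ψ (nest g h k) := by
      intro k
      induction k with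
      | zero => rfl
      | succ k ih =>
        generalize hw : (chain (QuotientGroup.lift (Cfsg.pCore 2 Y) (c.comp ψ) hker)
          (fun i => (g i : Y ⧸ Cfsg.pCore 2 Y)) k) (Additive.ofMul (⟨ψ h, mem_map_of_mem ψ hh⟩ : V)) = w at ih
        show ((Additive.toMul ((c (ψ (g k)) - 1) ((chain (QuotientGroup.lift (Cfsg.pCore 2 Y) (c.comp ψ) hker)
          (fun i => (g i : Y ⧸ Cfsg.pCore 2 Y)) k) (Additive.ofMul (⟨ψ h, mem_map_of_mem ψ hh⟩ : V)))) : V) :
          Y ⧸ H') = ψ ⁅g k, nest g h k⁆
        erw [hw]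
        show ((Additive.toMul (c (ψ (g k)) (Additive.ofMul (Additive.toMul w)) - w) : V) : Y ⧸ H') = _
        rw [toMul_sub, div_eq_mul_inv, Subgroup.coe_mul, Subgroup.coe_inv, hcv, ih, map_commutatorElement,
          commutatorElement_def]
    apply Additive.toMul.injective
    apply Subtype.ext
    show _ = (1 : Y ⧸ H')
    rw [key]
    exact hone _ (hL.der h hh P g hg)
  · have h1 := hcv (ψ d) ⟨ψ h, mem_map_of_mem ψ hh⟩
    rw [show c (ψ d) = 1 from hd] at h1
    change ψ h = ψ d * ψ h * (ψ d)⁻¹ at h1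
    rw [← QuotientGroup.eq_one_iff]
    show ψ ⁅d, h⁆ = 1
    rw [map_commutatorElement, commutatorElement_def, ← h1, mul_inv_cancel]

/-- An element of odd order trivial on all central sections is trivial on every section. -/
theorem DerLayer.commutator_mem [(Cfsg.pCore 2 Y).Normal] {p : ℕ} (hp : p.Prime) (hp2 : p ≠ 2) {d : Y}
    (hd : d ^ p = 1)
    (hlay : ∀ H H' : Subgroup Y, DerLayer n H H' → (∀ h ∈ H, ∀ r ∈ Cfsg.pCore 2 Y, ⁅r, h⁆ ∈ H') →
      ∀ h ∈ H, ⁅d, h⁆ ∈ H') :
    ∀ (N : ℕ) (H H' : Subgroup Y), Nat.card H ≤ N → DerLayer n H H' → ∀ h ∈ H, ⁅d, h⁆ ∈ H' := by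
  haveI := Fact.mk Nat.prime_two
  intro N
  induction N with
  | zero => intro H H' h; exact absurd h (not_le.2 Nat.card_pos)
  | succ N ih =>
    intro H H' hN hL h hh
    haveI := hL.nH
    haveI := hL.nH'
    set R := Cfsg.pCore 2 Y with hR
    have hdh : ⁅d, h⁆ ∈ H := by
      rw [commutatorElement_def]
      exact mul_mem (hL.nH.conj_mem h hh d) (inv_mem hh)
    by_cases hle : H ≤ H'
    · exact hle hdh
    set H1 := ⁅H, R⁆ ⊔ H' with hH1
    have h1le : H1 ≤ H := sup_le (Subgroup.commutator_le_left H R) hL.le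
    have hne : H1 ≠ H := by
      intro heq
      refine hle ?_
      set ψ := QuotientGroup.mk' H' with hψ
      have hHb : ⁅H.map ψ, R.map ψ⁆ = H.map ψ := by
        conv_rhs => rw [← heq, hH1, Subgroup.map_sup, QuotientGroup.map_mk'_self, sup_bot_eq]
        rw [map_commutator]
      have hk : ∀ k, H.map ψ ≤ (R.map ψ).lowerCentralSeries k := by
        intro k
        induction k with
        | zero => simpa using map_mono (f := ψ) hL.leR
        | succ k ihk =>
          rw [Subgroup.lowerCentralSeries_succ, ← hHb]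
          exact commutator_mono ihk le_rfl
      haveI : Group.IsNilpotent (R.map ψ) := ((isPGroup_pCore 2 Y).map ψ).isNilpotent
      have key : ∀ k, ((⊤ : Subgroup (R.map ψ)).lowerCentralSeries k).map (R.map ψ).subtype =
          (R.map ψ).lowerCentralSeries k := by
        intro k
        induction k with
        | zero => simp [← MonoidHom.range_eq_map]
        | succ k ihk =>
          rw [Subgroup.lowerCentralSeries_succ, Subgroup.lowerCentralSeries_succ, map_commutator, ihk,
            ← MonoidHom.range_eq_map, range_subtype]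
      have hbot := key (Group.nilpotencyClass (R.map ψ))
      rw [Subgroup.lowerCentralSeries_nilpotencyClass, Subgroup.map_bot] at hbot
      have h0 := hk (Group.nilpotencyClass (R.map ψ))
      rw [← hbot, le_bot_iff, Subgroup.map_eq_bot_iff, QuotientGroup.ker_mk'] at h0
      exact h0
    have hL1 : DerLayer n H H1 := ⟨hL.nH, inferInstance, h1le, hL.leR,
      fun x hx => mem_sup_right (hL.sq x hx), fun x hx P g hg => mem_sup_right (hL.der x hx P g hg)⟩
    have hL2 : DerLayer n H1 H' := ⟨inferInstance, hL.nH', le_sup_right, h1le.trans hL.leR,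
      fun x hx => hL.sq x (h1le hx), fun x hx => hL.der x (h1le hx)⟩
    have hc : ⁅d, h⁆ ∈ H1 := hlay H H1 hL1 (fun x hx r hr => mem_sup_left (by
      rw [← commutatorElement_inv]; exact inv_mem (commutator_mem_commutator hx hr))) h hh
    have hlt : Nat.card H1 < Nat.card H := by
      refine lt_of_le_of_ne (Subgroup.card_le_of_le h1le) fun e => hne ?_
      exact Subgroup.eq_of_le_of_card_ge h1le e.ge
    have hcd := ih H1 H' (by omega) hL2 _ hc
    rw [← QuotientGroup.eq_one_iff] at hcd ⊢
    have hcd' : ((d : Y ⧸ H')) * (⁅d, h⁆ : Y) = (⁅d, h⁆ : Y) * (d : Y ⧸ H') :=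
      commutatorElement_eq_one_iff_mul_comm.1
        ((map_commutatorElement (QuotientGroup.mk' H') d ⁅d, h⁆).symm.trans hcd)
    refine eq_one_of_conj_eq' (j := 1) hp Nat.prime_two hp2 (S := zpowers ((⁅d, h⁆ : Y) : Y ⧸ H'))
      ?_ (mem_zpowers _) (by rw [pow_one, ← QuotientGroup.mk_pow, hd, QuotientGroup.mk_one]) hcd'
      (u := (h : Y ⧸ H')) ?_
    · have h2 : (((⁅d, h⁆ : Y) : Y ⧸ H')) ^ 2 ^ 1 = 1 := by
        rw [pow_one, ← QuotientGroup.mk_pow, QuotientGroup.eq_one_iff, pow_two]
        exact hL.sq _ hdh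
      obtain ⟨j, -, hj⟩ := (Nat.dvd_prime_pow Nat.prime_two).1 (orderOf_dvd_of_pow_eq_one h2)
      exact IsPGroup.of_card (n := j) (by rw [Nat.card_zpowers, hj])
    · rw [← QuotientGroup.mk_mul, ← QuotientGroup.mk_mul, ← QuotientGroup.mk_mul, commutatorElement_def]
      congr 1
      group

/-- Sections of `O_2` give a faithful module of the quotient. -/
theorem derData_quotient [(Cfsg.pCore 2 Y).Normal] (hsol : Cfsg.IsPSolvable 2 Y)
    (hO : Cfsg.pPrimeCore 2 Y = ⊥) (hR : topA n Y ≤ Cfsg.pCore 2 Y)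
    (hsq : ∀ h ∈ topA n Y, h * h = 1)
    (hder : ∀ h ∈ topA n Y, ∀ P : Sylow 2 Y, ∀ g : ℕ → Y,
      (∀ i < n, g i ∈ dser (P : Subgroup Y) i) → nest g h n = 1) :
    DerData n (Y ⧸ Cfsg.pCore 2 Y) := by
  classical
  haveI := Fact.mk Nat.prime_two
  set R := Cfsg.pCore 2 Y with hRdef
  have hRp : IsPGroup 2 R := isPGroup_pCore 2 Y
  haveI hAn : (topA n Y).Normal := normal_topA n Y
  let I := {p : Subgroup Y × Subgroup Y //
    DerLayer n p.1 p.2 ∧ ∀ h ∈ p.1, ∀ r ∈ R, ⁅r, h⁆ ∈ p.2}
  choose M iA iF r hM hMn hMd using fun i : I => i.2.1.exists_rep i.2.2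
  haveI : ∀ i, Finite (M i) := iF
  let ρ : Y ⧸ R →* AddMonoid.End (∀ i, M i) :=
    { toFun := fun y => piEnd fun i => r i y
      map_one' := DFunLike.ext _ _ fun x => funext fun i => by
        show r i 1 (x i) = x i
        rw [map_one]; rfl
      map_mul' := fun y y' => DFunLike.ext _ _ fun x => funext fun i => by
        show r i (y * y') (x i) = r i y (r i y' (x i))
        rw [map_mul]; rfl }
  haveI : Finite (∀ i, M i) := Pi.finite
  refine ⟨∀ i, M i, inferInstance, inferInstance, ρ, fun x => funext fun i => hM i (x i), ?_, ?_⟩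
  · -- faithful
    rw [← MonoidHom.ker_eq_bot_iff]
    set Nk := ρ.ker.comap (QuotientGroup.mk' R) with hNk
    suffices hle : Nk ≤ R by
      rw [Subgroup.eq_bot_iff_forall]
      intro g hg
      obtain ⟨x, rfl⟩ := QuotientGroup.mk'_surjective R g
      exact (QuotientGroup.eq_one_iff x).2 (hle hg)
    refine le_pCore fun g => ?_
    obtain ⟨j, hj⟩ : ∃ j, orderOf (g : Y) = 2 ^ j := by
      by_contra hno
      push Not at hno
      obtain ⟨p, hp, hpdvd, hp2⟩ : ∃ p, p.Prime ∧ p ∣ orderOf (g : Y) ∧ p ≠ 2 := by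
        by_contra hall
        push Not at hall
        exact hno _ (Nat.eq_prime_pow_of_unique_prime_dvd (orderOf_pos _).ne'
          (fun {d} hd hdd => hall d hd hdd))
      set d := (g : Y) ^ (orderOf (g : Y) / p) with hd
      have hdp : orderOf d = p := by
        rw [hd, orderOf_pow_orderOf_div (orderOf_pos _).ne' hpdvd]
      have hdNk : d ∈ Nk := pow_mem g.2 _
      have hdpow : d ^ p = 1 := hdp ▸ pow_orderOf_eq_one d
      have hr1 : ∀ i, r i (d : Y ⧸ R) = 1 := fun i => DFunLike.ext _ _ fun x => by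
        have h1 := congrFun (DFunLike.congr_fun (show ρ (d : Y ⧸ R) = 1 from hdNk) (Pi.single i x)) i
        change r i (d : Y ⧸ R) (Pi.single i x i) = Pi.single i x i at h1
        rwa [Pi.single_eq_same] at h1
      have hall : ∀ H H' : Subgroup Y, DerLayer n H H' → ∀ h ∈ H, ⁅d, h⁆ ∈ H' := fun H H' hL =>
        DerLayer.commutator_mem hp hp2 hdpow
          (fun H H' hL hc => hMd ⟨(H, H'), hL, hc⟩ d (hr1 _)) _ H H' le_rfl hL
      have hcentA : ∀ h ∈ topA n Y, d * h = h * d := by
        intro h hh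
        have h1 := hall (topA n Y) ⊥ ⟨hAn, inferInstance, bot_le, hR,
          fun x hx => Subgroup.mem_bot.2 (hsq x hx),
          fun x hx P gs hgs => Subgroup.mem_bot.2 (hder x hx P gs hgs)⟩ h hh
        exact commutatorElement_eq_one_iff_mul_comm.1 (Subgroup.mem_bot.1 h1)
      -- from `O_2` down to the last derived steps
      let T : ℕ → Subgroup Y := fun k => topA n Y ⊔ sqIter R k
      have hTR : ∀ k, T k ≤ R := fun k => sup_le hR (sqIter_le R k)
      have hTn : ∀ k, (T k).Normal := fun k => by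
        haveI : (sqIter R k).Normal := ⟨fun a ha g =>
          conj_mem_sqIter (fun a ha => (inferInstance : R.Normal).conj_mem a ha g) k a ha⟩
        exact Subgroup.sup_normal _ _
      have hT0 : ∀ h ∈ T 0, d * h = h * d := by
        refine centralizes_of_series hp hp2 hdpow T hTR (fun k => hall _ _ ⟨hTn k, hTn (k + 1),
          sup_le_sup_left (sqIter_succ_le R k) _, hTR k, fun x hx => ?_, fun x hx P gs hgs => ?_⟩)
          (N := Nat.card R) ?_
        · have hx1 : QuotientGroup.mk' (topA n Y) x ∈ (sqIter R k).map (QuotientGroup.mk' (topA n Y)) := by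
            have := mem_map_of_mem (QuotientGroup.mk' (topA n Y)) hx
            rwa [Subgroup.map_sup, QuotientGroup.map_mk'_self, bot_sup_eq] at this
          obtain ⟨s, hs, hsx⟩ := hx1
          have h2 : x * x ∈ ((sqIter R (k + 1)).map (QuotientGroup.mk' (topA n Y))).comap
              (QuotientGroup.mk' (topA n Y)) :=
            ⟨s * s, mul_self_mem_sqIter hs, by rw [map_mul, map_mul, hsx]⟩
          rwa [Subgroup.comap_map_eq, QuotientGroup.ker_mk', sup_comm] at h2
        · exact mem_sup_left (mem_topA (P := P)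
            (nest_mem_dser (pCore_le_sylow P (hTR k hx)) hgs))
        · intro h hh
          simp only [T, sqIter_eq_bot hRp le_rfl, sup_bot_eq] at hh
          exact hcentA h hh
      have hdR : d ∈ R := CfsgLib.PLocal.centralizer_pCore_le hsol hO
        (mem_centralizer_iff.2 fun h hh => (hT0 h (mem_sup_right hh)).symm)
      obtain ⟨k, hk⟩ := hRp ⟨d, hdR⟩
      have h3 := pow_gcd_eq_one.mpr (⟨hdpow, congrArg Subtype.val hk⟩ : d ^ p = 1 ∧ d ^ 2 ^ k = 1)
      rw [((Nat.coprime_primes hp Nat.prime_two).2 hp2).pow_right k |>.gcd_eq_one, pow_one] at h3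
      rw [h3, orderOf_one] at hdp
      exact hp.ne_one hdp.symm
    exact ⟨j, Subtype.ext (by rw [coe_pow, ← hj, pow_orderOf_eq_one]; rfl)⟩
  · intro Pb
    obtain ⟨P, rfl⟩ := Sylow.mapSurjective_surjective (QuotientGroup.mk'_surjective R) 2 Pb
    rw [Sylow.coe_mapSurjective]
    refine ⟨?_, fun g hg => ?_⟩
    · rw [← map_dser, Subgroup.map_eq_bot_iff, QuotientGroup.ker_mk']
      exact fun a ha => hR (mem_topA ha)
    · have hl : ∀ i, i < n → ∃ y ∈ dser (P : Subgroup Y) i, QuotientGroup.mk' R y = g i := fun i hi => by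
        have h1 := hg i hi
        rw [← map_dser] at h1
        exact h1
      choose y hy hyg using hl
      let g' : ℕ → Y := fun i => if h : i < n then y i h else 1
      have hg' : ∀ i < n, g' i ∈ dser (P : Subgroup Y) i := fun i hi => by
        simp only [g', dif_pos hi]; exact hy i hi
      rw [chain_congr ρ (g' := fun i => (g' i : Y ⧸ R)) (fun i hi => by
        simp only [g', dif_pos hi]; exact (hyg i hi).symm)]
      refine DFunLike.ext _ _ fun x => funext fun i => ?_
      have key : ∀ k, (chain ρ (fun i => (g' i : Y ⧸ R)) k x) i =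
          chain (r i) (fun i => (g' i : Y ⧸ R)) k (x i) := by
        intro k
        induction k with
        | zero => rfl
        | succ k ih =>
          show r i (g' k : Y ⧸ R) ((chain ρ _ k x) i) - (chain ρ _ k x) i =
            r i (g' k : Y ⧸ R) (chain (r i) _ k (x i)) - chain (r i) _ k (x i)
          rw [ih]
      rw [key, hMn i P g' hg']
      rfl

end CfsgLib.Core.HHTwoDerived
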