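import Mathlib
import Cfsg.Agent.Lib.Core.HHCritical.TwoDerived.Elementary
import Cfsg.Agent.Lib.Core.HHCritical.TwoDerived.Layers

/-!
# One step of Bryukhanova's bound by the derived length

* `derData_step`: the quotient by `O_{2',2}` has the data with derived length one smaller
-/

set_option autoImplicit false
set_option linter.all false

namespace CfsgLib.Core.HHTwoDerived

open Subgroup CfsgLib.Core.HHTwo CfsgLib.Core.HHTop
open scoped commutatorElement

universe u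

variable {X : Type u} [Group X] [Finite X]

/-- One step. -/
theorem derData_step [(Cfsg.pPrimeCore 2 X).Normal]
    [(Cfsg.pCore 2 (X ⧸ Cfsg.pPrimeCore 2 X)).Normal] (hsol : Cfsg.IsPSolvable 2 X)
    (hO : Cfsg.pCore 2 X = ⊥) {i : ℕ} (hn : DerData (i + 2) X) :
    DerData (i + 1) ((X ⧸ Cfsg.pPrimeCore 2 X) ⧸ Cfsg.pCore 2 (X ⧸ Cfsg.pPrimeCore 2 X)) := by
  classical
  haveI := Fact.mk Nat.prime_two
  obtain ⟨M, _, _, r, hM, hr, hN⟩ := hn
  obtain ⟨W, _, _, _, ι, hι⟩ := exists_linear hM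
  set ρ := ι.toMonoidHom.comp r with hρdef
  have hρ : Function.Injective ρ := hι.comp hr
  have hlin : LinData (i + 1) ρ := fun P g hg => by
    rw [hρdef, ← chain_ringHom, (hN P).2 g (fun k hk => hg k (by omega)), map_zero]
  set κ := QuotientGroup.mk' (Cfsg.pPrimeCore 2 X) with hκ
  have hκs : Function.Surjective κ := QuotientGroup.mk'_surjective _
  set A := topA (i + 1) (X ⧸ Cfsg.pPrimeCore 2 X) with hA
  have hAR : A ≤ Cfsg.pCore 2 (X ⧸ Cfsg.pPrimeCore 2 X) := topA_le_pCore hsol hO ρ hρ hlin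
  haveI : A.Normal := normal_topA _ _
  -- two last steps commute and square to one
  have hgen : ∀ a ∈ {a | ∃ Q : Sylow 2 (X ⧸ Cfsg.pPrimeCore 2 X), a ∈ dser (Q : Subgroup (X ⧸ Cfsg.pPrimeCore 2 X)) (i + 1)},
      ∀ d ∈ {a | ∃ Q : Sylow 2 (X ⧸ Cfsg.pPrimeCore 2 X), a ∈ dser (Q : Subgroup (X ⧸ Cfsg.pPrimeCore 2 X)) (i + 1)},
      a * d = d * a ∧ a * a = 1 := by
    rintro a ⟨Q, ha⟩ d ⟨Q', hd⟩
    obtain ⟨P, rfl⟩ := Sylow.mapSurjective_surjective hκs 2 Q
    rw [Sylow.coe_mapSurjective, ← map_dser] at ha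
    obtain ⟨a', ha', rfl⟩ := ha
    obtain ⟨d', hd', rfl⟩ : d ∈ (P : Subgroup X).map κ :=
      pCore_le_sylow (P.mapSurjective hκs) (hAR (mem_topA hd))
    obtain ⟨h1, h2⟩ := (words_trivial hsol hO ρ hρ hlin P).1 a' ha' d' hd' ⟨Q', hd⟩
    refine ⟨?_, by rw [← map_mul, h2, map_one]⟩
    rw [← map_mul, ← map_mul, commutatorElement_eq_one_iff_mul_comm.1 h1]
  have hcen : ∀ x ∈ A, ∀ y ∈ A, x * y = y * x := by
    have h1 : A ≤ centralizer
        ({a | ∃ Q : Sylow 2 (X ⧸ Cfsg.pPrimeCore 2 X), a ∈ dser (Q : Subgroup (X ⧸ Cfsg.pPrimeCore 2 X)) (i + 1)} :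
          Set (X ⧸ Cfsg.pPrimeCore 2 X)) :=
      (closure_le _).2 fun a ha => mem_centralizer_iff.2 fun d hd => (hgen d hd a ha).1
    intro x hx y hy
    have h2 : A ≤ centralizer (zpowers x : Set (X ⧸ Cfsg.pPrimeCore 2 X)) := (closure_le _).2 fun d hd =>
      mem_centralizer_iff.2 fun z hz => by
        obtain ⟨k, rfl⟩ := mem_zpowers_iff.1 hz
        exact ((show Commute x d from (mem_centralizer_iff.1 (h1 hx) d hd).symm).zpow_left k).eq
    exact mem_centralizer_iff.1 (h2 hy) x (mem_zpowers x)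
  have hsq : ∀ x ∈ A, x * x = 1 := by
    intro x hx
    induction hx using Subgroup.closure_induction with
    | mem a ha => exact (hgen a ha a ha).2
    | one => exact one_mul 1
    | mul u v hu hv h1 h2 =>
      calc u * v * (u * v) = u * (v * u) * v := by group
        _ = u * u * (v * v) := by rw [hcen v hv u hu]; group
        _ = 1 := by rw [h1, h2, one_mul]
    | inv u _ h => rw [← mul_inv_rev, h, inv_one]
  refine derData_quotient (CfsgLib.PLocal.isPSolvable_quotient hsol (Cfsg.pPrimeCore 2 X))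
    (pPrimeCore_quotient_pPrimeCore 2 X) hAR hsq fun h hh Q g hg => ?_
  obtain ⟨P, rfl⟩ := Sylow.mapSurjective_surjective hκs 2 Q
  have hhQ : h ∈ ((P.mapSurjective hκs : Sylow 2 _) : Subgroup _) := pCore_le_sylow _ (hAR hh)
  have hr1 : nest g h i ∈ dser ((P.mapSurjective hκs : Sylow 2 _) : Subgroup _) i :=
    nest_mem_dser hhQ fun k hk => hg k (by omega)
  have hg1 := hg i (Nat.lt_succ_self i)
  rw [Sylow.coe_mapSurjective, ← map_dser] at hr1 hg1
  obtain ⟨δ, hδ, hδe⟩ := hr1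
  obtain ⟨b, hb, hbe⟩ := hg1
  show ⁅g i, nest g h i⁆ = 1
  rw [← hδe, ← hbe, ← map_commutatorElement]
  have hδA : κ δ ∈ A := hδe.symm ▸ nest_mem g hh i
  rw [(words_trivial hsol hO ρ hρ hlin P).2 b hb δ hδ hδA, map_one]

end CfsgLib.Core.HHTwoDerived
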